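import Cfsg.Statements.S3702
import Cfsg.Agent.L0.ThreeLocal
import Cfsg.Agent.L0.CharInt
import Cfsg.Agent.H7.Fitting

set_option autoImplicit false
set_option maxRecDepth 100000
open Cfsg

namespace Cfsg.Agent.S3702

open Cfsg.Agent.L0 Cfsg.Agent.L0.Gram Cfsg.Agent.L0.Code Cfsg.Agent.H3 Equiv
open scoped ComplexConjugate

def one : ℕ := nat_lit 36344967696
def gs : List ℕ := [nat_lit 36344967201, nat_lit 8867243331, nat_lit 36344906241, nat_lit 36089955651]
def L : List ℕ := [nat_lit 36344967696, nat_lit 36344967201, nat_lit 8867243331, nat_lit 36344906241, nat_lit 36089955651, nat_lit 36344967426, nat_lit 8867242836, nat_lit 36344906016, nat_lit 36089955156, nat_lit 562521411, nat_lit 22601074806, nat_lit 8615585076, nat_lit 22607720976, nat_lit 36344905746, nat_lit 8867181876, nat_lit 36089894196, nat_lit 36087928131, nat_lit 8612231286, nat_lit 8867243061, nat_lit 36089955381, nat_lit 562520916, nat_lit 22601074311,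 nat_lit 8615584851, nat_lit 22607720481, nat_lit 8867181651, nat_lit 36089893971, nat_lit 36087927636, nat_lit 8612230791, nat_lit 4337395011, nat_lit 14296352886, nat_lit 4840711476, nat_lit 14302999056, nat_lit 22599047286, nat_lit 22349355126, nat_lit 8863889511, nat_lit 310863156, nat_lit 22349416551, nat_lit 22356062721, nat_lit 36341552451, nat_lit 8867181381, nat_lit 36089893701, nat_lit 562459956, nat_lit 22601013351, nat_lit 8615523651, nat_lit 22607782401, nat_lit 36087866676, nat_lit 8612169831, nat_lit 36088849731, nat_lit 8610203766, nat_lit 36088972596, nat_lit 36342940176, nat_lit 307509366, nat_lit 22356124176, nat_lit 8863828086, nat_lit 562521141, nat_lit 22601074536, nat_lit 8615584581, nat_lit 22607720706, nat_lit 36087927861, nat_lit 8612231016, nat_lit 4337394516, nat_lit 14296352391, nat_lit 4840711251, nat_lit 14302998561, nat_lit 22599046791, nat_lit 22349354631, nat_lit 8863889286, nat_lit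 310862931, nat_lit 22349416326, nat_lit 22356062496, nat_lit 36341551956, nat_lit 562459731, nat_lit 22601013126, nat_lit 8615523156, nat_lit 22607782176, nat_lit 36087866451, nat_lit 8612169606, nat_lit 36088849236, nat_lit 8610203271, nat_lit 36088972371, nat_lit 36342939681, nat_lit 307508871, nat_lit 22356123681, nat_lit 8863827591, nat_lit 18071226486, nat_lit 18077872656, nat_lit 14294325366, nat_lit 28040245776, nat_lit 18574481526, nat_lit 559167591, nat_lit 18574542951, nat_lit 18581189121, nat_lit 28036830531, nat_lit 22599968886, nat_lit 22348433526, nat_lit 8861861991, nat_lit 22347327606, nat_lit 36093248016, nat_lit 14044694631, nat_lit 14051340801, nat_lit 22347389031, nat_lit 36093309441, nat_lit 22356062226, nat_lit 36339524931, nat_lit 36341613876, nat_lit 562459461, nat_lit 22601012856, nat_lit 8615523381, nat_lit 22607781906, nat_lit 36087866181, nat_lit 8612169336, nat_lit 4337333556, nat_lit 14296291431,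 nat_lit 4840650051, nat_lit 14303060481, nat_lit 22598985831, nat_lit 310801731, nat_lit 8610142311, nat_lit 36342878721, nat_lit 307447911, nat_lit 8611125366, nat_lit 36343861776, nat_lit 305481846, nat_lit 22354096656, nat_lit 8862906486, nat_lit 8611248231, nat_lit 36343984641, nat_lit 8865215811, nat_lit 4837357686, nat_lit 14051402256, nat_lit 4333979766, nat_lit 559106166, nat_lit 4337394741, nat_lit 14296352616, nat_lit 4840710981, nat_lit 14302998786, nat_lit 22599047016, nat_lit 22349354856, nat_lit 8863889016, nat_lit 310862661, nat_lit 22349416056, nat_lit 36341552181, nat_lit 36088849461, nat_lit 8610203496, nat_lit 36088972101, nat_lit 36342939906, nat_lit 307509096, nat_lit 22356123906, nat_lit 8863827816, nat_lit 18071225991, nat_lit 18077872161, nat_lit 14294324871, nat_lit 28040245281, nat_lit 18574481031, nat_lit 559167366, nat_lit 18574542726, nat_lit 18581188896, nat_lit 28036830036, nat_lit 22599968391,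 nat_lit 22348433031, nat_lit 8861861766, nat_lit 22347327111, nat_lit 36093247521, nat_lit 14044694406, nat_lit 14051340576, nat_lit 22347388806, nat_lit 36093309216, nat_lit 36339524436, nat_lit 36341613651, nat_lit 4337333331, nat_lit 14296291206, nat_lit 4840649556, nat_lit 14303060256, nat_lit 22598985606, nat_lit 310801236, nat_lit 8610142086, nat_lit 36342878496, nat_lit 307447686, nat_lit 8611124871, nat_lit 36343861281, nat_lit 305481351, nat_lit 22354096161, nat_lit 8862905991, nat_lit 8611248006, nat_lit 36343984416, nat_lit 8865215316, nat_lit 4837357191, nat_lit 14051401761, nat_lit 4333979271, nat_lit 559105671, nat_lit 18069198966, nat_lit 31815119376, nat_lit 14044633206, nat_lit 4334041191, nat_lit 31811704131, nat_lit 14295246966, nat_lit 28038218256, nat_lit 18573559926, nat_lit 557140071, nat_lit 28040184321, nat_lit 32315082051, nat_lit 18572454006, nat_lit 32318374416, nat_lit 4837296231, nat_lit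 18572515431, nat_lit 32318435841, nat_lit 18581188626, nat_lit 32315020596, nat_lit 28034803011, nat_lit 28036891956, nat_lit 8862783591, nat_lit 36092326416, nat_lit 22605754881, nat_lit 36091220496, nat_lit 14042667111, nat_lit 27788587521, nat_lit 18071165031, nat_lit 14051340306, nat_lit 27785172276, nat_lit 22348310631, nat_lit 36091281921, nat_lit 22600091751, nat_lit 36093308946, nat_lit 36340630851, nat_lit 8861800566, nat_lit 36340507956, nat_lit 36339586356, nat_lit 4337333061, nat_lit 14296290936, nat_lit 4840649781, nat_lit 14303059986, nat_lit 22598985336, nat_lit 310801461, nat_lit 36341613381, nat_lit 8610141816, nat_lit 36342878226, nat_lit 307447416, nat_lit 18077934081, nat_lit 14294263911, nat_lit 18581250576, nat_lit 305420391, nat_lit 22354035201, nat_lit 8865154356, nat_lit 306403446, nat_lit 22355018256, nat_lit 8866137411, nat_lit 4835330166, nat_lit 14049374736, nat_lit 4333058166, nat_lit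 8614602051, nat_lit 558184566, nat_lit 22606799376, nat_lit 306526311, nat_lit 22355141121, nat_lit 36343984146, nat_lit 8866260276, nat_lit 560493891, nat_lit 8613557556, nat_lit 27785233731, nat_lit 18071226216, nat_lit 18077872386, nat_lit 14294325096, nat_lit 28040245506, nat_lit 18574481256, nat_lit 559167096, nat_lit 18574542456, nat_lit 28036830261, nat_lit 22599968616, nat_lit 22348433256, nat_lit 8861861496, nat_lit 22347327336, nat_lit 36093247746, nat_lit 14044694136, nat_lit 22347388536, nat_lit 36339524661, nat_lit 8611125096, nat_lit 36343861506, nat_lit 305481576, nat_lit 22354096386, nat_lit 8862906216, nat_lit 8611247736, nat_lit 8865215541, nat_lit 4837357416, nat_lit 14051401986, nat_lit 4333979496, nat_lit 559105896, nat_lit 18069198471, nat_lit 31815118881, nat_lit 14044632711, nat_lit 4334040966, nat_lit 31811703636, nat_lit 14295246471, nat_lit 28038217761, nat_lit 18573559431, nat_lit 557139846,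 nat_lit 28040184096, nat_lit 32315081556, nat_lit 18572453511, nat_lit 32318373921, nat_lit 4837296006, nat_lit 18572515206, nat_lit 32318435616, nat_lit 32315020371, nat_lit 28034802516, nat_lit 28036891731, nat_lit 8862783366, nat_lit 36092325921, nat_lit 22605754656, nat_lit 36091220001, nat_lit 14042666886, nat_lit 27788587296, nat_lit 18071164806, nat_lit 27785172051, nat_lit 22348310406, nat_lit 36091281696, nat_lit 22600091526, nat_lit 36340630356, nat_lit 8861800071, nat_lit 36340507731, nat_lit 36339586131, nat_lit 18077933856, nat_lit 14294263686, nat_lit 18581250081, nat_lit 305420166, nat_lit 22354034976, nat_lit 8865154131, nat_lit 306402951, nat_lit 22355017761, nat_lit 8866136916, nat_lit 4835329671, nat_lit 14049374241, nat_lit 4333057671, nat_lit 8614601556, nat_lit 558184071, nat_lit 22606798881, nat_lit 306526086, nat_lit 22355140896, nat_lit 8866260051, nat_lit 560493396, nat_lit 8613557331, nat_lit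 27785233236, nat_lit 18070120566, nat_lit 31813091856, nat_lit 14043711606, nat_lit 4332013671, nat_lit 31815057921, nat_lit 14042605686, nat_lit 27788526096, nat_lit 31809676611, nat_lit 31811765556, nat_lit 28039139856, nat_lit 558061671, nat_lit 28039262721, nat_lit 32313054531, nat_lit 32317452816, nat_lit 4836374631, nat_lit 14301032961, nat_lit 28040183826, nat_lit 32316346896, nat_lit 4835268711, nat_lit 18573437031, nat_lit 32316408321, nat_lit 14295369831, nat_lit 32318435346, nat_lit 32315020101, nat_lit 32312993076, nat_lit 28035908931, nat_lit 557078646, nat_lit 28035786036, nat_lit 28034864436, nat_lit 22606676481, nat_lit 22605754386, nat_lit 8613496131, nat_lit 36092203521, nat_lit 14043588711, nat_lit 27786560001, nat_lit 18070243431, nat_lit 27788587026, nat_lit 18069137511, nat_lit 27785171781, nat_lit 27783144756, nat_lit 36091281426, nat_lit 22605693456, nat_lit 18071164536, nat_lit 18077933586,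 nat_lit 14294263416, nat_lit 18581250306, nat_lit 28036891461, nat_lit 22600091256, nat_lit 22348310136, nat_lit 8861800296, nat_lit 14044632936, nat_lit 36339585861, nat_lit 305419896, nat_lit 22354034706, nat_lit 8862783096, nat_lit 8865153861, nat_lit 4837295736, nat_lit 4334040696, nat_lit 28038156801, nat_lit 14049313281, nat_lit 4332935271, nat_lit 8614479156, nat_lit 560432436, nat_lit 4836251766, nat_lit 14050296336, nat_lit 4331952246, nat_lit 561415491, nat_lit 18579223056, nat_lit 27783206211, nat_lit 18075906561, nat_lit 309880131, nat_lit 18076951056, nat_lit 14302077456, nat_lit 14050419201, nat_lit 22355140626, nat_lit 8866259781, nat_lit 561538356, nat_lit 4335367491, nat_lit 4838683956, nat_lit 308835636, nat_lit 18069198696, nat_lit 31815119106, nat_lit 31811703861, nat_lit 14295246696, nat_lit 28038217986, nat_lit 18573559656, nat_lit 557139576, nat_lit 32315081781, nat_lit 18572453736, nat_lit 32318374146,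 nat_lit 18572514936, nat_lit 28034802741, nat_lit 36092326146, nat_lit 36091220226, nat_lit 14042666616, nat_lit 36340630581, nat_lit 36340507461, nat_lit 306403176, nat_lit 22355017986, nat_lit 8866137141, nat_lit 4835329896, nat_lit 14049374466, nat_lit 4333057896, nat_lit 8614601781, nat_lit 558184296, nat_lit 22606799106, nat_lit 306525816, nat_lit 560493621, nat_lit 8613557061, nat_lit 27785233461, nat_lit 18070120071, nat_lit 31813091361, nat_lit 14043711111, nat_lit 4332013446, nat_lit 31815057696, nat_lit 14042605191, nat_lit 27788525601, nat_lit 31809676116, nat_lit 31811765331, nat_lit 28039139361, nat_lit 558061446, nat_lit 28039262496, nat_lit 32313054036, nat_lit 32317452321, nat_lit 4836374406, nat_lit 14301032736, nat_lit 32316346401, nat_lit 4835268486, nat_lit 18573436806, nat_lit 32316408096, nat_lit 14295369606, nat_lit 32312992851, nat_lit 28035908436, nat_lit 557078151, nat_lit 28035785811, nat_lit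 28034864211, nat_lit 22606676256, nat_lit 8613495636, nat_lit 36092203296, nat_lit 14043588486, nat_lit 27786559776, nat_lit 18070243206, nat_lit 18069137286, nat_lit 27783144531, nat_lit 22605692961, nat_lit 28038156576, nat_lit 14049313056, nat_lit 4332935046, nat_lit 8614478931, nat_lit 560432211, nat_lit 4836251271, nat_lit 14050295841, nat_lit 4331951751, nat_lit 561414996, nat_lit 18579222561, nat_lit 27783205716, nat_lit 18075906336, nat_lit 309879636, nat_lit 18076950561, nat_lit 14302076961, nat_lit 14050418976, nat_lit 561538131, nat_lit 4335366996, nat_lit 4838683731, nat_lit 308835411, nat_lit 31814013456, nat_lit 31814136321, nat_lit 27787604496, nat_lit 31815057426, nat_lit 27786498576, nat_lit 31810782531, nat_lit 31810659636, nat_lit 31809738036, nat_lit 32313976131, nat_lit 14301954561, nat_lit 28039262226, nat_lit 32314098996, nat_lit 4839728451, nat_lit 18580267521, nat_lit 14301032466, nat_lit 4838622531,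 nat_lit 32317329921, nat_lit 18579161601, nat_lit 32316407826, nat_lit 32312992581, nat_lit 14300971536, nat_lit 22606675986, nat_lit 308774211, nat_lit 36092203026, nat_lit 27787481601, nat_lit 27786559506, nat_lit 27788525826, nat_lit 31811765061, nat_lit 31813030401, nat_lit 27783144261, nat_lit 27784250676, nat_lit 27784127811, nat_lit 18069137016, nat_lit 14295369336, nat_lit 28038156306, nat_lit 18573436536, nat_lit 557078376, nat_lit 28034863941, nat_lit 22605693186, nat_lit 14042605416, nat_lit 4835268216, nat_lit 14049312786, nat_lit 4332934776, nat_lit 8614478661, nat_lit 558061176, nat_lit 560431941, nat_lit 8613495861, nat_lit 18075845136, nat_lit 309757236, nat_lit 18076828161, nat_lit 4335306036, nat_lit 18580144656, nat_lit 4336289091, nat_lit 4839605556, nat_lit 18075906066, nat_lit 4336411956, nat_lit 14050418706, nat_lit 561537861, nat_lit 18070120296, nat_lit 31813091586, nat_lit 14043711336, nat_lit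 4332013176, nat_lit 31809676341, nat_lit 28039139586, nat_lit 32313054261, nat_lit 32317452546, nat_lit 4836374136, nat_lit 32316346626, nat_lit 28035908661, nat_lit 28035785541, nat_lit 14043588216, nat_lit 18070242936, nat_lit 4836251496, nat_lit 14050296066, nat_lit 4331951976, nat_lit 561415221, nat_lit 18579222786, nat_lit 27783205941, nat_lit 309879861, nat_lit 18076950786, nat_lit 14302077186, nat_lit 4335367221, nat_lit 4838683461, nat_lit 308835141, nat_lit 31814012961, nat_lit 31814136096, nat_lit 27787604001, nat_lit 27786498081, nat_lit 31810782036, nat_lit 31810659411, nat_lit 31809737811, nat_lit 32313975636, nat_lit 14301954336, nat_lit 32314098771, nat_lit 4839727956, nat_lit 18580267296, nat_lit 4838622036, nat_lit 32317329696, nat_lit 18579161376, nat_lit 14300971041, nat_lit 308773716, nat_lit 27787481376, nat_lit 31813030176, nat_lit 27784250451, nat_lit 27784127316, nat_lit 18075844641, nat_lit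 309757011, nat_lit 18076827936, nat_lit 4335305811, nat_lit 18580144161, nat_lit 4336288596, nat_lit 4839605331, nat_lit 4336411731, nat_lit 31814135826, nat_lit 14301954066, nat_lit 32314098501, nat_lit 18580267026, nat_lit 32317329426, nat_lit 18579161106, nat_lit 32313975861, nat_lit 27787481106, nat_lit 27787604226, nat_lit 31809737541, nat_lit 31813029906, nat_lit 27784250181, nat_lit 27784127541, nat_lit 14300971266, nat_lit 27786498306, nat_lit 18075844866, nat_lit 309756741, nat_lit 18076827666, nat_lit 4335305541, nat_lit 4838622261, nat_lit 308773941, nat_lit 4336411461, nat_lit 4839728181, nat_lit 31814013186, nat_lit 31810782261, nat_lit 31810659141, nat_lit 18580144386, nat_lit 4336288821, nat_lit 4839605061]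
def ws : List (List ℕ) := [[], [0], [1], [2], [3], [0, 0], [1, 0], [2, 0], [3, 0], [0, 1], [1, 1], [2, 1], [3, 1], [0, 2], [1, 2], [3, 2], [0, 3], [1, 3], [1, 0, 0], [3, 0, 0], [0, 1, 0], [1, 1, 0], [2, 1, 0], [3, 1, 0], [1, 2, 0], [3, 2, 0], [0, 3, 0], [1, 3, 0], [0, 0, 1], [1, 0, 1], [2, 0, 1], [3, 0, 1], [0, 1, 1], [2, 1, 1], [3, 1, 1], [0, 2, 1], [1, 2, 1], [3, 2, 1], [1, 3, 1], [1, 0, 2], [3, 0, 2], [0, 1, 2], [1, 1, 2], [2, 1, 2], [3, 1, 2], [0, 3, 2], [1, 3, 2], [0, 0, 3], [1, 0, 3], [2, 0, 3], [3, 0, 3], [0, 1, 3], [1, 1, 3], [2, 1, 3], [0, 1, 0, 0], [1, 1, 0, 0], [2, 1, 0, 0], [3, 1, 0, 0], [0, 3, 0, 0], [1, 3, 0, 0], [0, 0, 1, 0], [1, 0, 1, 0], [2, 0, 1, 0], [3, 0, 1, 0], [0, 1, 1, 0], [2, 1, 1, 0], [3, 1, 1, 0], [0, 2, 1, 0], [1, 2, 1, 0], [3, 2, 1, 0], [1, 3, 1, 0], [0, 1, 2, 0], [1, 1, 2, 0], [2, 1, 2, 0], [3, 1, 2, 0], [0, 3, 2, 0], [1, 3, 2, 0], [0, 0, 3, 0], [1, 0, 3, 0], [2, 0, 3, 0], [3, 0, 3, 0],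 [0, 1, 3, 0], [1, 1, 3, 0], [2, 1, 3, 0], [1, 0, 0, 1], [3, 0, 0, 1], [0, 1, 0, 1], [1, 1, 0, 1], [2, 1, 0, 1], [3, 1, 0, 1], [1, 2, 0, 1], [3, 2, 0, 1], [1, 3, 0, 1], [0, 0, 1, 1], [2, 0, 1, 1], [3, 0, 1, 1], [0, 2, 1, 1], [1, 2, 1, 1], [1, 0, 2, 1], [3, 0, 2, 1], [0, 1, 2, 1], [1, 1, 2, 1], [0, 3, 2, 1], [0, 1, 3, 1], [2, 1, 3, 1], [0, 1, 0, 2], [1, 1, 0, 2], [2, 1, 0, 2], [3, 1, 0, 2], [0, 3, 0, 2], [1, 3, 0, 2], [0, 0, 1, 2], [1, 0, 1, 2], [2, 0, 1, 2], [3, 0, 1, 2], [0, 1, 1, 2], [0, 2, 1, 2], [1, 0, 3, 2], [3, 0, 3, 2], [0, 1, 3, 2], [1, 0, 0, 3], [3, 0, 0, 3], [0, 1, 0, 3], [1, 1, 0, 3], [2, 1, 0, 3], [1, 2, 0, 3], [3, 2, 0, 3], [1, 3, 0, 3], [0, 0, 1, 3], [1, 0, 1, 3], [2, 0, 1, 3], [0, 2, 1, 3], [0, 0, 1, 0, 0], [1, 0, 1, 0, 0], [2, 0, 1, 0, 0], [3, 0, 1, 0, 0], [0, 1, 1, 0, 0], [2, 1, 1, 0, 0], [3, 1, 1, 0, 0], [0, 2, 1, 0, 0], [1, 2, 1, 0, 0], [1, 3, 1, 0, 0], [0, 0, 3, 0, 0], [1, 0, 3, 0, 0], [2, 0, 3,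 0, 0], [3, 0, 3, 0, 0], [0, 1, 3, 0, 0], [1, 1, 3, 0, 0], [2, 1, 3, 0, 0], [1, 0, 0, 1, 0], [3, 0, 0, 1, 0], [0, 1, 0, 1, 0], [1, 1, 0, 1, 0], [2, 1, 0, 1, 0], [3, 1, 0, 1, 0], [1, 2, 0, 1, 0], [3, 2, 0, 1, 0], [1, 3, 0, 1, 0], [0, 0, 1, 1, 0], [2, 0, 1, 1, 0], [3, 0, 1, 1, 0], [0, 2, 1, 1, 0], [1, 2, 1, 1, 0], [1, 0, 2, 1, 0], [3, 0, 2, 1, 0], [0, 1, 2, 1, 0], [1, 1, 2, 1, 0], [0, 1, 3, 1, 0], [2, 1, 3, 1, 0], [0, 0, 1, 2, 0], [1, 0, 1, 2, 0], [2, 0, 1, 2, 0], [3, 0, 1, 2, 0], [0, 1, 1, 2, 0], [0, 2, 1, 2, 0], [1, 0, 3, 2, 0], [3, 0, 3, 2, 0], [0, 1, 3, 2, 0], [1, 0, 0, 3, 0], [3, 0, 0, 3, 0], [0, 1, 0, 3, 0], [1, 1, 0, 3, 0], [2, 1, 0, 3, 0], [1, 2, 0, 3, 0], [3, 2, 0, 3, 0], [1, 3, 0, 3, 0], [0, 0, 1, 3, 0], [1, 0, 1, 3, 0], [2, 0, 1, 3, 0], [0, 2, 1, 3, 0], [0, 1, 0, 0, 1], [1, 1, 0, 0, 1], [2, 1, 0, 0, 1], [3, 1, 0, 0, 1], [1, 3, 0, 0, 1], [0, 0, 1, 0, 1], [1, 0, 1, 0, 1], [2, 0, 1, 0, 1], [3, 0, 1, 0, 1], [2,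 1, 1, 0, 1], [3, 1, 1, 0, 1], [0, 2, 1, 0, 1], [1, 2, 1, 0, 1], [3, 2, 1, 0, 1], [0, 1, 2, 0, 1], [1, 1, 2, 0, 1], [0, 3, 2, 0, 1], [1, 3, 2, 0, 1], [0, 1, 3, 0, 1], [2, 1, 3, 0, 1], [3, 0, 0, 1, 1], [1, 2, 0, 1, 1], [1, 3, 0, 1, 1], [1, 0, 2, 1, 1], [0, 1, 0, 2, 1], [1, 1, 0, 2, 1], [2, 1, 0, 2, 1], [0, 3, 0, 2, 1], [1, 3, 0, 2, 1], [0, 0, 1, 2, 1], [1, 0, 1, 2, 1], [2, 0, 1, 2, 1], [0, 1, 1, 2, 1], [0, 0, 1, 3, 1], [1, 0, 1, 3, 1], [2, 0, 1, 3, 1], [0, 2, 1, 3, 1], [0, 0, 1, 0, 2], [1, 0, 1, 0, 2], [2, 0, 1, 0, 2], [3, 0, 1, 0, 2], [0, 1, 1, 0, 2], [0, 2, 1, 0, 2], [1, 3, 1, 0, 2], [1, 0, 3, 0, 2], [3, 0, 3, 0, 2], [0, 1, 3, 0, 2], [3, 0, 0, 1, 2], [0, 1, 0, 1, 2], [3, 2, 0, 1, 2], [0, 1, 0, 3, 2], [1, 1, 0, 3, 2], [1, 3, 0, 3, 2], [0, 1, 0, 0, 3], [1, 1, 0, 0, 3], [1, 3, 0, 0, 3], [0, 0, 1, 0, 3], [1, 0, 1, 0, 3], [2, 0, 1, 0, 3], [3, 1, 1, 0, 3], [0, 2, 1, 0, 3], [1, 2, 1, 0, 3], [0, 1, 2, 0, 3], [1, 1, 2, 0, 3],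 [0, 3, 2, 0, 3], [1, 3, 2, 0, 3], [0, 1, 3, 0, 3], [2, 1, 3, 0, 3], [1, 1, 0, 1, 3], [1, 0, 0, 1, 0, 0], [3, 0, 0, 1, 0, 0], [0, 1, 0, 1, 0, 0], [1, 1, 0, 1, 0, 0], [2, 1, 0, 1, 0, 0], [3, 1, 0, 1, 0, 0], [1, 2, 0, 1, 0, 0], [1, 3, 0, 1, 0, 0], [0, 0, 1, 1, 0, 0], [2, 0, 1, 1, 0, 0], [3, 0, 1, 1, 0, 0], [0, 2, 1, 1, 0, 0], [1, 2, 1, 1, 0, 0], [1, 0, 2, 1, 0, 0], [0, 1, 2, 1, 0, 0], [0, 1, 3, 1, 0, 0], [1, 0, 0, 3, 0, 0], [3, 0, 0, 3, 0, 0], [0, 1, 0, 3, 0, 0], [1, 1, 0, 3, 0, 0], [2, 1, 0, 3, 0, 0], [1, 2, 0, 3, 0, 0], [1, 3, 0, 3, 0, 0], [0, 0, 1, 3, 0, 0], [1, 0, 1, 3, 0, 0], [2, 0, 1, 3, 0, 0], [0, 2, 1, 3, 0, 0], [0, 1, 0, 0, 1, 0], [1, 1, 0, 0, 1, 0], [2, 1, 0, 0, 1, 0], [3, 1, 0, 0, 1, 0], [1, 3, 0, 0, 1, 0], [0, 0, 1, 0, 1, 0], [1, 0, 1, 0, 1, 0], [2, 0, 1, 0, 1, 0], [3, 0, 1, 0, 1, 0], [2, 1, 1, 0, 1, 0], [3, 1, 1, 0, 1, 0], [0, 2, 1, 0, 1, 0], [1, 2, 1, 0, 1, 0], [3, 2, 1, 0, 1, 0], [0, 1, 2, 0, 1, 0], [1,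 1, 2, 0, 1, 0], [1, 3, 2, 0, 1, 0], [0, 1, 3, 0, 1, 0], [2, 1, 3, 0, 1, 0], [3, 0, 0, 1, 1, 0], [1, 2, 0, 1, 1, 0], [1, 3, 0, 1, 1, 0], [1, 0, 2, 1, 1, 0], [0, 1, 0, 2, 1, 0], [1, 1, 0, 2, 1, 0], [2, 1, 0, 2, 1, 0], [1, 3, 0, 2, 1, 0], [0, 0, 1, 2, 1, 0], [1, 0, 1, 2, 1, 0], [2, 0, 1, 2, 1, 0], [0, 0, 1, 3, 1, 0], [1, 0, 1, 3, 1, 0], [2, 0, 1, 3, 1, 0], [0, 2, 1, 3, 1, 0], [3, 0, 0, 1, 2, 0], [0, 1, 0, 1, 2, 0], [3, 2, 0, 1, 2, 0], [0, 1, 0, 3, 2, 0], [1, 1, 0, 3, 2, 0], [1, 3, 0, 3, 2, 0], [0, 1, 0, 0, 3, 0], [1, 1, 0, 0, 3, 0], [1, 3, 0, 0, 3, 0], [0, 0, 1, 0, 3, 0], [1, 0, 1, 0, 3, 0], [2, 0, 1, 0, 3, 0], [3, 1, 1, 0, 3, 0], [0, 2, 1, 0, 3, 0], [1, 2, 1, 0, 3, 0], [0, 1, 2, 0, 3, 0], [1, 1, 2, 0, 3, 0], [1, 3, 2, 0, 3, 0], [0, 1, 3, 0, 3, 0], [2, 1, 3, 0, 3, 0], [1, 1, 0, 1, 3, 0], [0, 0, 1, 0, 0, 1], [1, 0, 1, 0, 0, 1], [2, 0, 1, 0, 0, 1], [3, 0, 1, 0, 0, 1], [2, 1, 1, 0, 0, 1], [0, 2, 1, 0, 0, 1], [1, 2, 1, 0,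 0, 1], [0, 1, 3, 0, 0, 1], [2, 1, 3, 0, 0, 1], [1, 0, 0, 1, 0, 1], [3, 0, 0, 1, 0, 1], [2, 1, 0, 1, 0, 1], [3, 1, 0, 1, 0, 1], [1, 2, 0, 1, 0, 1], [3, 2, 0, 1, 0, 1], [1, 3, 0, 1, 0, 1], [0, 2, 1, 1, 0, 1], [1, 0, 2, 1, 0, 1], [3, 0, 2, 1, 0, 1], [0, 0, 1, 2, 0, 1], [1, 0, 1, 2, 0, 1], [2, 0, 1, 2, 0, 1], [0, 1, 1, 2, 0, 1], [1, 0, 3, 2, 0, 1], [0, 1, 3, 2, 0, 1], [0, 0, 1, 3, 0, 1], [1, 0, 1, 3, 0, 1], [2, 0, 1, 3, 0, 1], [0, 2, 1, 3, 0, 1], [1, 3, 0, 0, 1, 1], [0, 1, 3, 0, 1, 1], [1, 1, 0, 2, 1, 1], [2, 1, 0, 2, 1, 1], [0, 0, 1, 0, 2, 1], [1, 0, 1, 0, 2, 1], [2, 0, 1, 0, 2, 1], [0, 1, 1, 0, 2, 1], [0, 2, 1, 0, 2, 1], [1, 0, 3, 0, 2, 1], [0, 1, 3, 0, 2, 1], [0, 1, 0, 1, 2, 1], [1, 1, 0, 1, 3, 1], [1, 0, 0, 1, 0, 2], [3, 0, 0, 1, 0, 2], [0, 1, 0, 1, 0, 2], [3, 2, 0, 1, 0, 2], [1, 3, 0, 1, 0, 2], [0, 0, 1, 1, 0, 2], [2, 0, 1, 1, 0, 2], [3, 0, 1, 1, 0, 2], [1, 0, 2, 1, 0, 2], [0, 1, 3, 1, 0, 2], [0, 1, 0, 3, 0, 2], [1,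 1, 0, 3, 0, 2], [2, 1, 0, 3, 0, 2], [1, 3, 0, 3, 0, 2], [0, 0, 1, 3, 0, 2], [2, 0, 1, 3, 0, 2], [1, 0, 1, 0, 1, 2], [1, 0, 1, 0, 3, 2], [2, 0, 1, 0, 3, 2], [3, 1, 1, 0, 3, 2], [0, 1, 3, 0, 3, 2], [0, 0, 1, 0, 0, 3], [1, 0, 1, 0, 0, 3], [2, 0, 1, 0, 0, 3], [0, 1, 3, 0, 0, 3], [1, 0, 0, 1, 0, 3], [1, 1, 0, 1, 0, 3], [2, 1, 0, 1, 0, 3], [3, 1, 0, 1, 0, 3], [1, 2, 0, 1, 0, 3], [1, 0, 2, 1, 0, 3], [1, 0, 1, 2, 0, 3], [0, 1, 1, 2, 0, 3], [1, 0, 3, 2, 0, 3], [0, 1, 3, 2, 0, 3], [0, 0, 1, 3, 0, 3], [2, 0, 1, 3, 0, 3], [0, 2, 1, 3, 0, 3], [0, 1, 0, 0, 1, 0, 0], [1, 1, 0, 0, 1, 0, 0], [1, 3, 0, 0, 1, 0, 0], [0, 0, 1, 0, 1, 0, 0], [1, 0, 1, 0, 1, 0, 0], [2, 0, 1, 0, 1, 0, 0], [3, 0, 1, 0, 1, 0, 0], [3, 1, 1, 0, 1, 0, 0], [0, 2, 1, 0, 1, 0, 0], [1, 2, 1, 0, 1, 0, 0], [0, 1, 2, 0, 1, 0, 0], [0, 1, 3, 0, 1, 0, 0], [1, 2, 0, 1, 1, 0, 0], [1, 0, 2, 1, 1, 0, 0], [0, 1, 0, 2, 1, 0, 0], [0, 0, 1, 3, 1, 0, 0], [2, 0, 1, 3, 1, 0, 0], [0,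 1, 0, 0, 3, 0, 0], [1, 1, 0, 0, 3, 0, 0], [1, 3, 0, 0, 3, 0, 0], [0, 0, 1, 0, 3, 0, 0], [1, 0, 1, 0, 3, 0, 0], [2, 0, 1, 0, 3, 0, 0], [3, 1, 1, 0, 3, 0, 0], [0, 2, 1, 0, 3, 0, 0], [1, 2, 1, 0, 3, 0, 0], [0, 1, 2, 0, 3, 0, 0], [0, 1, 3, 0, 3, 0, 0], [2, 1, 3, 0, 3, 0, 0], [1, 1, 0, 1, 3, 0, 0], [0, 0, 1, 0, 0, 1, 0], [1, 0, 1, 0, 0, 1, 0], [2, 0, 1, 0, 0, 1, 0], [3, 0, 1, 0, 0, 1, 0], [2, 1, 1, 0, 0, 1, 0], [0, 2, 1, 0, 0, 1, 0], [1, 2, 1, 0, 0, 1, 0], [0, 1, 3, 0, 0, 1, 0], [2, 1, 3, 0, 0, 1, 0], [1, 0, 0, 1, 0, 1, 0], [3, 0, 0, 1, 0, 1, 0], [2, 1, 0, 1, 0, 1, 0], [3, 1, 0, 1, 0, 1, 0], [1, 2, 0, 1, 0, 1, 0], [3, 2, 0, 1, 0, 1, 0], [1, 3, 0, 1, 0, 1, 0], [1, 0, 2, 1, 0, 1, 0], [3, 0, 2, 1, 0, 1, 0], [0, 0, 1, 2, 0, 1, 0], [1, 0, 1, 2, 0, 1, 0], [2, 0, 1, 2, 0, 1, 0], [0, 1, 3, 2, 0, 1, 0], [0, 0, 1, 3, 0, 1, 0], [1, 0, 1, 3, 0, 1, 0], [2, 0, 1, 3, 0, 1, 0], [0, 2, 1, 3, 0, 1, 0], [1, 3, 0, 0, 1, 1, 0], [1, 1, 0, 2,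 1, 1, 0], [2, 1, 0, 2, 1, 1, 0], [0, 0, 1, 0, 2, 1, 0], [1, 0, 1, 0, 2, 1, 0], [2, 0, 1, 0, 2, 1, 0], [0, 2, 1, 0, 2, 1, 0], [0, 1, 3, 0, 2, 1, 0], [1, 1, 0, 1, 3, 1, 0], [1, 0, 1, 0, 1, 2, 0], [1, 0, 1, 0, 3, 2, 0], [2, 0, 1, 0, 3, 2, 0], [3, 1, 1, 0, 3, 2, 0], [0, 1, 3, 0, 3, 2, 0], [0, 0, 1, 0, 0, 3, 0], [1, 0, 1, 0, 0, 3, 0], [2, 0, 1, 0, 0, 3, 0], [0, 1, 3, 0, 0, 3, 0], [1, 0, 0, 1, 0, 3, 0], [1, 1, 0, 1, 0, 3, 0], [2, 1, 0, 1, 0, 3, 0], [3, 1, 0, 1, 0, 3, 0], [1, 2, 0, 1, 0, 3, 0], [1, 0, 2, 1, 0, 3, 0], [1, 0, 1, 2, 0, 3, 0], [0, 1, 3, 2, 0, 3, 0], [0, 0, 1, 3, 0, 3, 0], [2, 0, 1, 3, 0, 3, 0], [0, 2, 1, 3, 0, 3, 0], [1, 0, 0, 1, 0, 0, 1], [2, 1, 0, 1, 0, 0, 1], [1, 2, 0, 1, 0, 0, 1], [0, 2, 1, 1, 0, 0, 1], [1, 0, 2, 1, 0, 0, 1], [0, 0, 1, 3, 0, 0, 1], [2, 0, 1, 3, 0, 0, 1], [0, 2, 1, 3, 0, 0, 1], [3, 1, 0, 0, 1, 0, 1], [1, 3, 0, 0, 1, 0, 1], [0, 2, 1, 0, 1, 0, 1], [3, 2, 1, 0, 1, 0, 1], [1, 1, 2, 0, 1, 0, 1],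 [1, 3, 2, 0, 1, 0, 1], [0, 1, 3, 0, 1, 0, 1], [1, 1, 0, 2, 1, 0, 1], [2, 1, 0, 2, 1, 0, 1], [1, 3, 0, 2, 1, 0, 1], [0, 1, 0, 1, 2, 0, 1], [0, 1, 0, 3, 2, 0, 1], [1, 1, 0, 1, 3, 0, 1], [0, 1, 3, 0, 0, 1, 1], [0, 1, 1, 0, 2, 1, 1], [0, 2, 1, 0, 2, 1, 1], [1, 0, 0, 1, 0, 2, 1], [0, 1, 0, 1, 0, 2, 1], [2, 0, 1, 1, 0, 2, 1], [3, 0, 1, 1, 0, 2, 1], [1, 0, 2, 1, 0, 2, 1], [0, 1, 0, 3, 0, 2, 1], [0, 0, 1, 3, 0, 2, 1], [2, 0, 1, 3, 0, 2, 1], [0, 1, 0, 0, 1, 0, 2], [0, 0, 1, 0, 1, 0, 2], [1, 0, 1, 0, 1, 0, 2], [2, 0, 1, 0, 1, 0, 2], [3, 0, 1, 0, 1, 0, 2], [0, 1, 3, 0, 1, 0, 2], [1, 3, 0, 1, 1, 0, 2], [0, 1, 0, 2, 1, 0, 2], [0, 0, 1, 0, 3, 0, 2], [1, 0, 1, 0, 3, 0, 2], [2, 0, 1, 0, 3, 0, 2], [3, 1, 1, 0, 3, 0, 2], [0, 2, 1, 0, 3, 0, 2], [0, 1, 3, 0, 3, 0, 2], [2, 1, 3, 0, 3, 0, 2], [2, 1, 0, 1, 0, 3, 2], [3, 1, 0, 1, 0, 3, 2], [1, 2, 0, 1, 0, 3, 2], [0, 0, 1, 3, 0, 3, 2], [1, 0, 0, 1, 0, 0, 3], [0, 0, 1, 3, 0, 0, 3], [2, 0, 1,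 3, 0, 0, 3], [0, 2, 1, 0, 1, 0, 3], [3, 2, 1, 0, 1, 0, 3], [0, 1, 0, 1, 2, 0, 3], [0, 1, 0, 3, 2, 0, 3], [0, 0, 1, 0, 0, 1, 0, 0], [1, 0, 1, 0, 0, 1, 0, 0], [2, 0, 1, 0, 0, 1, 0, 0], [3, 0, 1, 0, 0, 1, 0, 0], [0, 1, 3, 0, 0, 1, 0, 0], [1, 0, 0, 1, 0, 1, 0, 0], [3, 1, 0, 1, 0, 1, 0, 0], [1, 2, 0, 1, 0, 1, 0, 0], [3, 2, 0, 1, 0, 1, 0, 0], [1, 0, 2, 1, 0, 1, 0, 0], [0, 0, 1, 3, 0, 1, 0, 0], [2, 0, 1, 3, 0, 1, 0, 0], [0, 0, 1, 0, 2, 1, 0, 0], [2, 0, 1, 0, 2, 1, 0, 0], [0, 0, 1, 0, 0, 3, 0, 0], [1, 0, 1, 0, 0, 3, 0, 0], [2, 0, 1, 0, 0, 3, 0, 0], [0, 1, 3, 0, 0, 3, 0, 0], [1, 0, 0, 1, 0, 3, 0, 0], [1, 1, 0, 1, 0, 3, 0, 0], [3, 1, 0, 1, 0, 3, 0, 0], [1, 2, 0, 1, 0, 3, 0, 0], [1, 0, 2, 1, 0, 3, 0, 0], [0, 0, 1, 3, 0, 3, 0, 0], [2, 0, 1, 3, 0, 3, 0, 0], [0, 2, 1, 3, 0, 3, 0, 0], [1, 0, 0, 1, 0, 0, 1, 0], [2, 1, 0, 1, 0, 0, 1, 0], [1, 2, 0, 1, 0, 0, 1, 0], [1, 0, 2, 1, 0, 0, 1, 0], [0, 0, 1, 3, 0, 0, 1, 0], [2, 0, 1, 3, 0, 0,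 1, 0], [0, 2, 1, 3, 0, 0, 1, 0], [3, 1, 0, 0, 1, 0, 1, 0], [1, 3, 0, 0, 1, 0, 1, 0], [3, 2, 1, 0, 1, 0, 1, 0], [1, 1, 2, 0, 1, 0, 1, 0], [1, 3, 2, 0, 1, 0, 1, 0], [1, 1, 0, 2, 1, 0, 1, 0], [2, 1, 0, 2, 1, 0, 1, 0], [1, 3, 0, 2, 1, 0, 1, 0], [1, 1, 0, 1, 3, 0, 1, 0], [0, 1, 1, 0, 2, 1, 1, 0], [1, 0, 0, 1, 0, 2, 1, 0], [1, 0, 2, 1, 0, 2, 1, 0], [0, 0, 1, 3, 0, 2, 1, 0], [2, 0, 1, 3, 0, 2, 1, 0], [2, 1, 0, 1, 0, 3, 2, 0], [3, 1, 0, 1, 0, 3, 2, 0], [1, 2, 0, 1, 0, 3, 2, 0], [0, 0, 1, 3, 0, 3, 2, 0], [1, 0, 0, 1, 0, 0, 3, 0], [0, 0, 1, 3, 0, 0, 3, 0], [2, 0, 1, 3, 0, 0, 3, 0], [3, 2, 1, 0, 1, 0, 3, 0], [0, 2, 1, 0, 1, 0, 0, 1], [0, 1, 3, 0, 0, 1, 0, 1], [3, 0, 2, 1, 0, 1, 0, 1], [0, 1, 3, 2, 0, 1, 0, 1], [0, 2, 1, 0, 2, 1, 0, 1], [0, 1, 3, 0, 2, 1, 0, 1], [2, 0, 1, 0, 3, 2, 0, 1], [0, 1, 0, 0, 1, 0, 2, 1], [2, 0, 1, 0, 1, 0, 2, 1], [3, 0, 1, 0, 1, 0, 2, 1], [0, 1, 0, 2, 1, 0, 2, 1], [0, 0, 1, 0, 3, 0, 2, 1], [2, 0, 1, 0,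 3, 0, 2, 1], [1, 3, 0, 1, 0, 1, 0, 2], [1, 0, 1, 0, 2, 1, 0, 2], [2, 1, 0, 1, 0, 3, 0, 2], [3, 1, 0, 1, 0, 3, 0, 2], [1, 2, 0, 1, 0, 3, 0, 2], [0, 0, 1, 3, 0, 3, 0, 2], [2, 0, 1, 3, 0, 3, 0, 2], [0, 2, 1, 3, 0, 3, 0, 2], [3, 0, 2, 1, 0, 1, 0, 3], [2, 0, 1, 0, 3, 2, 0, 3], [1, 0, 0, 1, 0, 0, 1, 0, 0], [0, 0, 1, 3, 0, 0, 1, 0, 0], [2, 0, 1, 3, 0, 0, 1, 0, 0], [1, 0, 0, 1, 0, 0, 3, 0, 0], [0, 0, 1, 3, 0, 0, 3, 0, 0], [2, 0, 1, 3, 0, 0, 3, 0, 0]]
def gJ : List ℕ := [nat_lit 36344967201, nat_lit 36342940176, nat_lit 28040245776]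
def LJ : List ℕ := [nat_lit 36344967696, nat_lit 36344967201, nat_lit 36342940176, nat_lit 28040245776, nat_lit 36344967426, nat_lit 36342939681, nat_lit 28040245281, nat_lit 36343861776, nat_lit 28038218256, nat_lit 31815119376, nat_lit 36342939906, nat_lit 28040245506, nat_lit 36343861281, nat_lit 28038217761, nat_lit 31815118881, nat_lit 28039139856, nat_lit 31813091856, nat_lit 36343861506, nat_lit 28038217986, nat_lit 31815119106, nat_lit 28039139361, nat_lit 31813091361, nat_lit 31814013456, nat_lit 28039139586, nat_lit 31813091586, nat_lit 31814012961, nat_lit 31814013186]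
def wJ : List (List ℕ) := [[], [0], [1], [2], [0, 0], [1, 0], [2, 0], [1, 1], [2, 1], [2, 2], [1, 0, 0], [2, 0, 0], [1, 1, 0], [2, 1, 0], [2, 2, 0], [2, 1, 1], [2, 2, 1], [1, 1, 0, 0], [2, 1, 0, 0], [2, 2, 0, 0], [2, 1, 1, 0], [2, 2, 1, 0], [2, 2, 1, 1], [2, 1, 1, 0, 0], [2, 2, 1, 0, 0], [2, 2, 1, 1, 0], [2, 2, 1, 1, 0, 0]]
def reps : List ℕ := [nat_lit 36344967201, nat_lit 36342939681, nat_lit 28038217761, nat_lit 36093247521, nat_lit 22607720481, nat_lit 22356123681, nat_lit 36087927636, nat_lit 8867242836, nat_lit 8867243061, nat_lit 36344967696]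
def pws : List ℕ := [1, 1, 1, 2, 4, 4, 2, 3, 3]
def cent : List ℤ := [108, 54, 81, 12, 12, 12, 6, 9, 9]
abbrev b1 : Perm (Fin 9) := Equiv.swap (3 : Fin 9) 7 * Equiv.swap (7 : Fin 9) 4 * Equiv.swap (4 : Fin 9) 6 * Equiv.swap (5 : Fin 9) 8
def gM1 : List ℕ := [nat_lit 36344967201, nat_lit 36342940176, nat_lit 28040245776, nat_lit 22607720976]
def LM1 : List ℕ := [nat_lit 36344967696, nat_lit 36344967201, nat_lit 36342940176, nat_lit 28040245776, nat_lit 22607720976, nat_lit 36344967426, nat_lit 36342939681, nat_lit 28040245281, nat_lit 22607720481, nat_lit 36343861776, nat_lit 28038218256, nat_lit 22606799376, nat_lit 31815119376, nat_lit 14302999056, nat_lit 22605693456, nat_lit 36093248016, nat_lit 36342939906, nat_lit 28040245506, nat_lit 22607720706, nat_lit 36343861281, nat_lit 28038217761, nat_lit 22606798881, nat_lit 31815118881, nat_lit 14302998561, nat_lit 22605692961, nat_lit 36093247521, nat_lit 28039139856,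 nat_lit 31813091856, nat_lit 14302077456, nat_lit 36092326416, nat_lit 18077872656, nat_lit 14300971536, nat_lit 32318374416, nat_lit 36091220496, nat_lit 27788526096, nat_lit 22356124176, nat_lit 36343861506, nat_lit 28038217986, nat_lit 22606799106, nat_lit 31815119106, nat_lit 14302998786, nat_lit 22605693186, nat_lit 36093247746, nat_lit 28039139361, nat_lit 31813091361, nat_lit 14302076961, nat_lit 36092325921, nat_lit 18077872161, nat_lit 14300971041, nat_lit 32318373921, nat_lit 36091220001, nat_lit 27788525601, nat_lit 22356123681, nat_lit 31814013456, nat_lit 18076951056, nat_lit 32317452816, nat_lit 27787604496, nat_lit 22354096656, nat_lit 18075845136, nat_lit 32316346896, nat_lit 18581250576, nat_lit 27786498576, nat_lit 22355018256, nat_lit 14051402256, nat_lit 28039139586, nat_lit 31813091586, nat_lit 14302077186, nat_lit 36092326146, nat_lit 18077872386, nat_lit 14300971266, nat_lit 32318374146, nat_lit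 36091220226, nat_lit 27788525826, nat_lit 22356123906, nat_lit 31814012961, nat_lit 18076950561, nat_lit 32317452321, nat_lit 27787604001, nat_lit 22354096161, nat_lit 18075844641, nat_lit 32316346401, nat_lit 18581250081, nat_lit 27786498081, nat_lit 22355017761, nat_lit 14051401761, nat_lit 18579223056, nat_lit 14049374736, nat_lit 18580144656, nat_lit 14050296336, nat_lit 31814013186, nat_lit 18076950786, nat_lit 32317452546, nat_lit 27787604226, nat_lit 22354096386, nat_lit 18075844866, nat_lit 32316346626, nat_lit 18581250306, nat_lit 27786498306, nat_lit 22355017986, nat_lit 14051401986, nat_lit 18579222561, nat_lit 14049374241, nat_lit 18580144161, nat_lit 14050295841, nat_lit 18579222786, nat_lit 14049374466, nat_lit 18580144386, nat_lit 14050296066]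
def wM1 : List (List ℕ) := [[], [0], [1], [2], [3], [0, 0], [1, 0], [2, 0], [3, 0], [1, 1], [2, 1], [3, 1], [2, 2], [3, 2], [2, 3], [3, 3], [1, 0, 0], [2, 0, 0], [3, 0, 0], [1, 1, 0], [2, 1, 0], [3, 1, 0], [2, 2, 0], [3, 2, 0], [2, 3, 0], [3, 3, 0], [2, 1, 1], [2, 2, 1], [3, 2, 1], [3, 3, 1], [3, 2, 2], [2, 3, 2], [3, 3, 2], [3, 2, 3], [2, 3, 3], [3, 3, 3], [1, 1, 0, 0], [2, 1, 0, 0], [3, 1, 0, 0], [2, 2, 0, 0], [3, 2, 0, 0], [2, 3, 0, 0], [3, 3, 0, 0], [2, 1, 1, 0], [2, 2, 1, 0], [3, 2, 1, 0], [3, 3, 1, 0], [3, 2, 2, 0], [2, 3, 2, 0], [3, 3, 2, 0], [3, 2, 3, 0], [2, 3, 3, 0], [3, 3, 3, 0], [2, 2, 1, 1], [3, 2, 2, 1], [3, 3, 2, 1], [2, 3, 3, 1], [3, 3, 3, 1], [2, 3, 2, 2], [3, 2, 3, 2], [3, 3, 3, 2], [2, 3, 2, 3], [3, 3, 2, 3], [3, 2, 3, 3], [2, 1, 1, 0, 0], [2, 2, 1, 0, 0], [3, 2, 1, 0, 0], [3, 3, 1, 0, 0], [3, 2, 2, 0, 0], [2, 3, 2, 0, 0], [3, 3, 2, 0, 0], [3, 2, 3, 0, 0], [2, 3, 3, 0, 0], [3, 3, 3, 0, 0], [2, 2,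 1, 1, 0], [3, 2, 2, 1, 0], [3, 3, 2, 1, 0], [2, 3, 3, 1, 0], [3, 3, 3, 1, 0], [2, 3, 2, 2, 0], [3, 2, 3, 2, 0], [3, 3, 3, 2, 0], [2, 3, 2, 3, 0], [3, 3, 2, 3, 0], [3, 2, 3, 3, 0], [3, 3, 3, 2, 1], [3, 2, 3, 3, 1], [3, 3, 2, 3, 2], [3, 2, 3, 2, 3], [2, 2, 1, 1, 0, 0], [3, 2, 2, 1, 0, 0], [3, 3, 2, 1, 0, 0], [2, 3, 3, 1, 0, 0], [3, 3, 3, 1, 0, 0], [2, 3, 2, 2, 0, 0], [3, 2, 3, 2, 0, 0], [3, 3, 3, 2, 0, 0], [2, 3, 2, 3, 0, 0], [3, 3, 2, 3, 0, 0], [3, 2, 3, 3, 0, 0], [3, 3, 3, 2, 1, 0], [3, 2, 3, 3, 1, 0], [3, 3, 2, 3, 2, 0], [3, 2, 3, 2, 3, 0], [3, 3, 3, 2, 1, 0, 0], [3, 2, 3, 3, 1, 0, 0], [3, 3, 2, 3, 2, 0, 0], [3, 2, 3, 2, 3, 0, 0]]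
def T1 : List (ℕ × ℕ × ℕ) := [(nat_lit 36344967696, 0, nat_lit 36344967696), (nat_lit 36344967201, 0, nat_lit 36344967696), (nat_lit 36342940176, 0, nat_lit 36342940176), (nat_lit 28040245776, 0, nat_lit 28040245776), (nat_lit 22607720976, 0, nat_lit 22607720976), (nat_lit 36344967426, 0, nat_lit 36344906241), (nat_lit 36342939681, 1, nat_lit 36344967696), (nat_lit 28040245281, 1, nat_lit 8867243331), (nat_lit 22607720481, 4, nat_lit 36344967696), (nat_lit 36343861776, 0, nat_lit 36343861776), (nat_lit 28038218256, 0, nat_lit 28038218256), (nat_lit 22606799376, 0, nat_lit 22606799376), (nat_lit 31815119376, 0, nat_lit 31815119376), (nat_lit 14302999056, 0, nat_lit 14302999056), (nat_lit 22605693456, 0, nat_lit 22605693456), (nat_lit 36093248016, 0, nat_lit 36093248016), (nat_lit 36342939906, 1, nat_lit 36093309441), (nat_lit 28040245506, 1, nat_lit 8867181876), (nat_lit 22607720706, 5, nat_lit 36344906241), (nat_lit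 36343861281, 1, nat_lit 36341552451), (nat_lit 28038217761, 2, nat_lit 36344967696), (nat_lit 22606798881, 4, nat_lit 14050296336), (nat_lit 31815118881, 1, nat_lit 8615523651), (nat_lit 14302998561, 4, nat_lit 14049374736), (nat_lit 22605692961, 4, nat_lit 28038218256), (nat_lit 36093247521, 3, nat_lit 36344967696), (nat_lit 28039139856, 0, nat_lit 28039139856), (nat_lit 31813091856, 0, nat_lit 31813091856), (nat_lit 14302077456, 0, nat_lit 14302077456), (nat_lit 36092326416, 0, nat_lit 36092326416), (nat_lit 18077872656, 0, nat_lit 18077872656), (nat_lit 14300971536, 0, nat_lit 14300971536), (nat_lit 32318374416, 0, nat_lit 32318374416), (nat_lit 36091220496, 0, nat_lit 36091220496), (nat_lit 27788526096, 0, nat_lit 27788526096), (nat_lit 22356124176, 0, nat_lit 22356124176), (nat_lit 36343861506, 1, nat_lit 36344906241), (nat_lit 28038217986, 2, nat_lit 8863889511), (nat_lit 22606799106, 5, nat_lit 14049313281),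 (nat_lit 31815119106, 1, nat_lit 8615585076), (nat_lit 14302998786, 5, nat_lit 27786560001), (nat_lit 22605693186, 5, nat_lit 28039262721), (nat_lit 36093247746, 3, nat_lit 36344906241), (nat_lit 28039139361, 2, nat_lit 22607720976), (nat_lit 31813091361, 2, nat_lit 36089955651), (nat_lit 14302076961, 4, nat_lit 14302999056), (nat_lit 36092325921, 3, nat_lit 36343861776), (nat_lit 18077872161, 4, nat_lit 28039139856), (nat_lit 14300971041, 4, nat_lit 36343861776), (nat_lit 32318373921, 3, nat_lit 18077872656), (nat_lit 36091220001, 3, nat_lit 36342940176), (nat_lit 27788525601, 3, nat_lit 14302999056), (nat_lit 22356123681, 5, nat_lit 36344967696), (nat_lit 31814013456, 0, nat_lit 31814013456), (nat_lit 18076951056, 0, nat_lit 18076951056), (nat_lit 32317452816, 0, nat_lit 32317452816), (nat_lit 27787604496, 0, nat_lit 27787604496), (nat_lit 22354096656, 0, nat_lit 22354096656), (nat_lit 18075845136, 0, nat_lit 18075845136),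 (nat_lit 32316346896, 0, nat_lit 32316346896), (nat_lit 18581250576, 0, nat_lit 18581250576), (nat_lit 27786498576, 0, nat_lit 27786498576), (nat_lit 22355018256, 0, nat_lit 22355018256), (nat_lit 14051402256, 0, nat_lit 14051402256), (nat_lit 28039139586, 2, nat_lit 36344906241), (nat_lit 31813091586, 2, nat_lit 8615585076), (nat_lit 14302077186, 5, nat_lit 18581189121), (nat_lit 36092326146, 3, nat_lit 36342878721), (nat_lit 18077872386, 5, nat_lit 28038156801), (nat_lit 14300971266, 5, nat_lit 36342878721), (nat_lit 32318374146, 3, nat_lit 14051340801), (nat_lit 36091220226, 3, nat_lit 36343984641), (nat_lit 27788525826, 3, nat_lit 18581189121), (nat_lit 22356123906, 4, nat_lit 36344906241), (nat_lit 31814012961, 2, nat_lit 22349355126), (nat_lit 18076950561, 4, nat_lit 36342940176), (nat_lit 32317452321, 3, nat_lit 14050296336), (nat_lit 27787604001, 3, nat_lit 28039139856), (nat_lit 22354096161, 5, nat_lit 28039139856),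 (nat_lit 18075844641, 4, nat_lit 18077872656), (nat_lit 32316346401, 3, nat_lit 14049374736), (nat_lit 18581250081, 5, nat_lit 14050296336), (nat_lit 27786498081, 3, nat_lit 28038218256), (nat_lit 22355017761, 5, nat_lit 14049374736), (nat_lit 14051401761, 5, nat_lit 28038218256), (nat_lit 18579223056, 0, nat_lit 18579223056), (nat_lit 14049374736, 0, nat_lit 14049374736), (nat_lit 18580144656, 0, nat_lit 18580144656), (nat_lit 14050296336, 0, nat_lit 14050296336), (nat_lit 31814013186, 2, nat_lit 36089894196), (nat_lit 18076950786, 5, nat_lit 36343984641), (nat_lit 32317452546, 3, nat_lit 14049313281), (nat_lit 27787604226, 3, nat_lit 28038156801), (nat_lit 22354096386, 4, nat_lit 28038156801), (nat_lit 18075844866, 5, nat_lit 14051340801), (nat_lit 32316346626, 3, nat_lit 27786560001), (nat_lit 18581250306, 4, nat_lit 14049313281), (nat_lit 27786498306, 3, nat_lit 28039262721), (nat_lit 22355017986, 4, nat_lit 27786560001),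 (nat_lit 14051401986, 4, nat_lit 28039262721), (nat_lit 18579222561, 5, nat_lit 36342940176), (nat_lit 14049374241, 5, nat_lit 18077872656), (nat_lit 18580144161, 5, nat_lit 14302999056), (nat_lit 14050295841, 5, nat_lit 36343861776), (nat_lit 18579222786, 4, nat_lit 36343984641), (nat_lit 14049374466, 4, nat_lit 14051340801), (nat_lit 18580144386, 4, nat_lit 18581189121), (nat_lit 14050296066, 4, nat_lit 36342878721)]
def la1 : List (ℕ × ℕ) := [(nat_lit 36344967696, 0), (nat_lit 36344967201, 4), (nat_lit 36342940176, 0), (nat_lit 28040245776, 0), (nat_lit 22607720976, 0), (nat_lit 36344967426, 8), (nat_lit 36342939681, 4), (nat_lit 28040245281, 4), (nat_lit 22607720481, 4), (nat_lit 36343861776, 0), (nat_lit 28038218256, 0), (nat_lit 22606799376, 0), (nat_lit 31815119376, 0), (nat_lit 14302999056, 0), (nat_lit 22605693456, 0), (nat_lit 36093248016, 0), (nat_lit 36342939906, 8), (nat_lit 28040245506, 8), (nat_lit 22607720706,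 8), (nat_lit 36343861281, 4), (nat_lit 28038217761, 4), (nat_lit 22606798881, 4), (nat_lit 31815118881, 4), (nat_lit 14302998561, 4), (nat_lit 22605692961, 4), (nat_lit 36093247521, 4), (nat_lit 28039139856, 0), (nat_lit 31813091856, 0), (nat_lit 14302077456, 0), (nat_lit 36092326416, 0), (nat_lit 18077872656, 0), (nat_lit 14300971536, 0), (nat_lit 32318374416, 0), (nat_lit 36091220496, 0), (nat_lit 27788526096, 0), (nat_lit 22356124176, 0), (nat_lit 36343861506, 8), (nat_lit 28038217986, 8), (nat_lit 22606799106, 8), (nat_lit 31815119106, 8), (nat_lit 14302998786, 8), (nat_lit 22605693186, 8), (nat_lit 36093247746, 8), (nat_lit 28039139361, 4), (nat_lit 31813091361, 4), (nat_lit 14302076961, 4), (nat_lit 36092325921, 4), (nat_lit 18077872161, 4), (nat_lit 14300971041, 4), (nat_lit 32318373921, 4), (nat_lit 36091220001, 4), (nat_lit 27788525601, 4), (nat_lit 22356123681, 4), (nat_lit 31814013456, 0), (nat_lit 18076951056,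 0), (nat_lit 32317452816, 0), (nat_lit 27787604496, 0), (nat_lit 22354096656, 0), (nat_lit 18075845136, 0), (nat_lit 32316346896, 0), (nat_lit 18581250576, 0), (nat_lit 27786498576, 0), (nat_lit 22355018256, 0), (nat_lit 14051402256, 0), (nat_lit 28039139586, 8), (nat_lit 31813091586, 8), (nat_lit 14302077186, 8), (nat_lit 36092326146, 8), (nat_lit 18077872386, 8), (nat_lit 14300971266, 8), (nat_lit 32318374146, 8), (nat_lit 36091220226, 8), (nat_lit 27788525826, 8), (nat_lit 22356123906, 8), (nat_lit 31814012961, 4), (nat_lit 18076950561, 4), (nat_lit 32317452321, 4), (nat_lit 27787604001, 4), (nat_lit 22354096161, 4), (nat_lit 18075844641, 4), (nat_lit 32316346401, 4), (nat_lit 18581250081, 4), (nat_lit 27786498081, 4), (nat_lit 22355017761, 4), (nat_lit 14051401761, 4), (nat_lit 18579223056, 0), (nat_lit 14049374736, 0), (nat_lit 18580144656, 0), (nat_lit 14050296336, 0), (nat_lit 31814013186, 8), (nat_lit 18076950786,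 8), (nat_lit 32317452546, 8), (nat_lit 27787604226, 8), (nat_lit 22354096386, 8), (nat_lit 18075844866, 8), (nat_lit 32316346626, 8), (nat_lit 18581250306, 8), (nat_lit 27786498306, 8), (nat_lit 22355017986, 8), (nat_lit 14051401986, 8), (nat_lit 18579222561, 4), (nat_lit 14049374241, 4), (nat_lit 18580144161, 4), (nat_lit 14050295841, 4), (nat_lit 18579222786, 8), (nat_lit 14049374466, 8), (nat_lit 18580144386, 8), (nat_lit 14050296066, 8)]
def be1 : List (ℕ × ℕ) := [(nat_lit 36344967696, 0), (nat_lit 36344967201, 0), (nat_lit 36342940176, 0), (nat_lit 28040245776, 0), (nat_lit 22607720976, 3), (nat_lit 36344967426, 0), (nat_lit 36342939681, 0), (nat_lit 28040245281, 0), (nat_lit 22607720481, 3), (nat_lit 36343861776, 0), (nat_lit 28038218256, 0), (nat_lit 22606799376, 3), (nat_lit 31815119376, 0), (nat_lit 14302999056, 3), (nat_lit 22605693456, 3), (nat_lit 36093248016, 6), (nat_lit 36342939906, 0), (nat_lit 28040245506,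 0), (nat_lit 22607720706, 3), (nat_lit 36343861281, 0), (nat_lit 28038217761, 0), (nat_lit 22606798881, 3), (nat_lit 31815118881, 0), (nat_lit 14302998561, 3), (nat_lit 22605692961, 3), (nat_lit 36093247521, 6), (nat_lit 28039139856, 0), (nat_lit 31813091856, 0), (nat_lit 14302077456, 3), (nat_lit 36092326416, 6), (nat_lit 18077872656, 3), (nat_lit 14300971536, 3), (nat_lit 32318374416, 6), (nat_lit 36091220496, 6), (nat_lit 27788526096, 6), (nat_lit 22356124176, 9), (nat_lit 36343861506, 0), (nat_lit 28038217986, 0), (nat_lit 22606799106, 3), (nat_lit 31815119106, 0), (nat_lit 14302998786, 3), (nat_lit 22605693186, 3), (nat_lit 36093247746, 6), (nat_lit 28039139361, 0), (nat_lit 31813091361, 0), (nat_lit 14302076961, 3), (nat_lit 36092325921, 6), (nat_lit 18077872161, 3), (nat_lit 14300971041, 3), (nat_lit 32318373921, 6), (nat_lit 36091220001, 6), (nat_lit 27788525601, 6), (nat_lit 22356123681, 9), (nat_lit 31814013456,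 0), (nat_lit 18076951056, 3), (nat_lit 32317452816, 6), (nat_lit 27787604496, 6), (nat_lit 22354096656, 9), (nat_lit 18075845136, 3), (nat_lit 32316346896, 6), (nat_lit 18581250576, 9), (nat_lit 27786498576, 6), (nat_lit 22355018256, 9), (nat_lit 14051402256, 9), (nat_lit 28039139586, 0), (nat_lit 31813091586, 0), (nat_lit 14302077186, 3), (nat_lit 36092326146, 6), (nat_lit 18077872386, 3), (nat_lit 14300971266, 3), (nat_lit 32318374146, 6), (nat_lit 36091220226, 6), (nat_lit 27788525826, 6), (nat_lit 22356123906, 9), (nat_lit 31814012961, 0), (nat_lit 18076950561, 3), (nat_lit 32317452321, 6), (nat_lit 27787604001, 6), (nat_lit 22354096161, 9), (nat_lit 18075844641, 3), (nat_lit 32316346401, 6), (nat_lit 18581250081, 9), (nat_lit 27786498081, 6), (nat_lit 22355017761, 9), (nat_lit 14051401761, 9), (nat_lit 18579223056, 9), (nat_lit 14049374736, 9), (nat_lit 18580144656, 9), (nat_lit 14050296336, 9), (nat_lit 31814013186,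 0), (nat_lit 18076950786, 3), (nat_lit 32317452546, 6), (nat_lit 27787604226, 6), (nat_lit 22354096386, 9), (nat_lit 18075844866, 3), (nat_lit 32316346626, 6), (nat_lit 18581250306, 9), (nat_lit 27786498306, 6), (nat_lit 22355017986, 9), (nat_lit 14051401986, 9), (nat_lit 18579222561, 9), (nat_lit 14049374241, 9), (nat_lit 18580144161, 9), (nat_lit 14050295841, 9), (nat_lit 18579222786, 9), (nat_lit 14049374466, 9), (nat_lit 18580144386, 9), (nat_lit 14050296066, 9)]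
abbrev b2 : Perm (Fin 9) := Equiv.swap (0 : Fin 9) 3 * Equiv.swap (1 : Fin 9) 4 * Equiv.swap (2 : Fin 9) 5 * Equiv.swap (6 : Fin 9) 7
def gM2 : List ℕ := [nat_lit 36344967201, nat_lit 36342940176, nat_lit 28040245776, nat_lit 36089955651]
def LM2 : List ℕ := [nat_lit 36344967696, nat_lit 36344967201, nat_lit 36342940176, nat_lit 28040245776, nat_lit 36089955651, nat_lit 36344967426, nat_lit 36342939681, nat_lit 28040245281, nat_lit 36089955156, nat_lit 36343861776, nat_lit 28038218256, nat_lit 36087928131, nat_lit 31815119376, nat_lit 32315082051, nat_lit 27785233731, nat_lit 36342939906, nat_lit 28040245506, nat_lit 36089955381, nat_lit 36343861281, nat_lit 28038217761, nat_lit 36087927636, nat_lit 31815118881, nat_lit 32315081556, nat_lit 27785233236, nat_lit 28039139856, nat_lit 36088849731, nat_lit 31813091856, nat_lit 32313054531, nat_lit 27783206211, nat_lit 36343861506, nat_lit 28038217986, nat_lit 36087927861,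 nat_lit 31815119106, nat_lit 32315081781, nat_lit 27785233461, nat_lit 28039139361, nat_lit 36088849236, nat_lit 31813091361, nat_lit 32313054036, nat_lit 27783205716, nat_lit 31814013456, nat_lit 32313976131, nat_lit 27784127811, nat_lit 28039139586, nat_lit 36088849461, nat_lit 31813091586, nat_lit 32313054261, nat_lit 27783205941, nat_lit 31814012961, nat_lit 32313975636, nat_lit 27784127316, nat_lit 31814013186, nat_lit 32313975861, nat_lit 27784127541]
def wM2 : List (List ℕ) := [[], [0], [1], [2], [3], [0, 0], [1, 0], [2, 0], [3, 0], [1, 1], [2, 1], [3, 1], [2, 2], [3, 2], [2, 3], [1, 0, 0], [2, 0, 0], [3, 0, 0], [1, 1, 0], [2, 1, 0], [3, 1, 0], [2, 2, 0], [3, 2, 0], [2, 3, 0], [2, 1, 1], [3, 1, 1], [2, 2, 1], [3, 2, 1], [2, 3, 1], [1, 1, 0, 0], [2, 1, 0, 0], [3, 1, 0, 0], [2, 2, 0, 0], [3, 2, 0, 0], [2, 3, 0, 0], [2, 1, 1, 0], [3, 1, 1, 0], [2, 2, 1, 0], [3, 2, 1, 0], [2, 3, 1, 0], [2, 2, 1, 1], [3, 2, 1, 1],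 [2, 3, 1, 1], [2, 1, 1, 0, 0], [3, 1, 1, 0, 0], [2, 2, 1, 0, 0], [3, 2, 1, 0, 0], [2, 3, 1, 0, 0], [2, 2, 1, 1, 0], [3, 2, 1, 1, 0], [2, 3, 1, 1, 0], [2, 2, 1, 1, 0, 0], [3, 2, 1, 1, 0, 0], [2, 3, 1, 1, 0, 0]]
def T2 : List (ℕ × ℕ × ℕ) := [(nat_lit 36344967696, 0, nat_lit 36344967696), (nat_lit 36344967201, 0, nat_lit 36344967696), (nat_lit 36342940176, 0, nat_lit 36089955651), (nat_lit 28040245776, 0, nat_lit 28040245776), (nat_lit 36089955651, 0, nat_lit 36089955651), (nat_lit 36344967426, 0, nat_lit 36344906241), (nat_lit 36342939681, 1, nat_lit 36344967696), (nat_lit 28040245281, 1, nat_lit 8867243331), (nat_lit 36089955156, 6, nat_lit 36344905746), (nat_lit 36343861776, 0, nat_lit 36089894196), (nat_lit 28038218256, 1, nat_lit 22601074806), (nat_lit 36087928131, 6, nat_lit 36344906016), (nat_lit 31815119376, 0, nat_lit 31815119376), (nat_lit 32315082051, 0, nat_lit 32315082051), (nat_lit 27785233731, 0, nat_lit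 27785233731), (nat_lit 36342939906, 0, nat_lit 36342939906), (nat_lit 28040245506, 1, nat_lit 8867181876), (nat_lit 36089955381, 6, nat_lit 36344967201), (nat_lit 36343861281, 0, nat_lit 36343861281), (nat_lit 28038217761, 2, nat_lit 36344967696), (nat_lit 36087927636, 6, nat_lit 36344967696), (nat_lit 31815118881, 1, nat_lit 8615523651), (nat_lit 32315081556, 6, nat_lit 27785171781), (nat_lit 27785233236, 6, nat_lit 28039262721), (nat_lit 28039139856, 1, nat_lit 22601013351), (nat_lit 36088849731, 6, nat_lit 36344967426), (nat_lit 31813091856, 1, nat_lit 8612231286), (nat_lit 32313054531, 6, nat_lit 27785172051), (nat_lit 27783206211, 6, nat_lit 28040184096), (nat_lit 36343861506, 1, nat_lit 36344906241), (nat_lit 28038217986, 0, nat_lit 28038217986), (nat_lit 36087927861, 0, nat_lit 36087927861), (nat_lit 31815119106, 1, nat_lit 8615585076), (nat_lit 32315081781, 6, nat_lit 31815118881), (nat_lit 27785233461, 6,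 nat_lit 28040245281), (nat_lit 28039139361, 0, nat_lit 28039139361), (nat_lit 36088849236, 0, nat_lit 36088849236), (nat_lit 31813091361, 2, nat_lit 36089955651), (nat_lit 32313054036, 6, nat_lit 31815119376), (nat_lit 27783205716, 6, nat_lit 28040245776), (nat_lit 31814013456, 1, nat_lit 22349355126), (nat_lit 32313976131, 6, nat_lit 31813091856), (nat_lit 27784127811, 6, nat_lit 28038218256), (nat_lit 28039139586, 2, nat_lit 36344906241), (nat_lit 36088849461, 6, nat_lit 36344906241), (nat_lit 31813091586, 0, nat_lit 31813091586), (nat_lit 32313054261, 0, nat_lit 32313054261), (nat_lit 27783205941, 0, nat_lit 27783205941), (nat_lit 31814012961, 0, nat_lit 31814012961), (nat_lit 32313975636, 0, nat_lit 32313975636), (nat_lit 27784127316, 0, nat_lit 27784127316), (nat_lit 31814013186, 2, nat_lit 36089894196), (nat_lit 32313975861, 6, nat_lit 27785172276), (nat_lit 27784127541, 6, nat_lit 28040184321)]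
def la2 : List (ℕ × ℕ) := [(nat_lit 36344967696, 0), (nat_lit 36344967201, 4), (nat_lit 36342940176, 4), (nat_lit 28040245776, 0), (nat_lit 36089955651, 0), (nat_lit 36344967426, 8), (nat_lit 36342939681, 8), (nat_lit 28040245281, 4), (nat_lit 36089955156, 4), (nat_lit 36343861776, 8), (nat_lit 28038218256, 4), (nat_lit 36087928131, 4), (nat_lit 31815119376, 0), (nat_lit 32315082051, 0), (nat_lit 27785233731, 0), (nat_lit 36342939906, 0), (nat_lit 28040245506, 8), (nat_lit 36089955381, 8), (nat_lit 36343861281, 0), (nat_lit 28038217761, 8), (nat_lit 36087927636, 8), (nat_lit 31815118881, 4), (nat_lit 32315081556, 4), (nat_lit 27785233236, 4), (nat_lit 28039139856, 8), (nat_lit 36088849731, 8), (nat_lit 31813091856, 4), (nat_lit 32313054531, 4), (nat_lit 27783206211, 4), (nat_lit 36343861506, 4), (nat_lit 28038217986, 0), (nat_lit 36087927861, 0), (nat_lit 31815119106, 8), (nat_lit 32315081781, 8), (nat_lit 27785233461,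 8), (nat_lit 28039139361, 0), (nat_lit 36088849236, 0), (nat_lit 31813091361, 8), (nat_lit 32313054036, 8), (nat_lit 27783205716, 8), (nat_lit 31814013456, 8), (nat_lit 32313976131, 8), (nat_lit 27784127811, 8), (nat_lit 28039139586, 4), (nat_lit 36088849461, 4), (nat_lit 31813091586, 0), (nat_lit 32313054261, 0), (nat_lit 27783205941, 0), (nat_lit 31814012961, 0), (nat_lit 32313975636, 0), (nat_lit 27784127316, 0), (nat_lit 31814013186, 4), (nat_lit 32313975861, 4), (nat_lit 27784127541, 4)]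
def be2 : List (ℕ × ℕ) := [(nat_lit 36344967696, 0), (nat_lit 36344967201, 0), (nat_lit 36342940176, 0), (nat_lit 28040245776, 0), (nat_lit 36089955651, 6), (nat_lit 36344967426, 0), (nat_lit 36342939681, 0), (nat_lit 28040245281, 0), (nat_lit 36089955156, 6), (nat_lit 36343861776, 0), (nat_lit 28038218256, 0), (nat_lit 36087928131, 6), (nat_lit 31815119376, 0), (nat_lit 32315082051, 6), (nat_lit 27785233731, 6), (nat_lit 36342939906, 0), (nat_lit 28040245506, 0), (nat_lit 36089955381, 6), (nat_lit 36343861281, 0), (nat_lit 28038217761, 0), (nat_lit 36087927636, 6), (nat_lit 31815118881, 0), (nat_lit 32315081556, 6), (nat_lit 27785233236, 6), (nat_lit 28039139856, 0), (nat_lit 36088849731, 6), (nat_lit 31813091856, 0), (nat_lit 32313054531, 6), (nat_lit 27783206211, 6), (nat_lit 36343861506, 0), (nat_lit 28038217986, 0), (nat_lit 36087927861, 6), (nat_lit 31815119106, 0), (nat_lit 32315081781, 6), (nat_lit 27785233461,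 6), (nat_lit 28039139361, 0), (nat_lit 36088849236, 6), (nat_lit 31813091361, 0), (nat_lit 32313054036, 6), (nat_lit 27783205716, 6), (nat_lit 31814013456, 0), (nat_lit 32313976131, 6), (nat_lit 27784127811, 6), (nat_lit 28039139586, 0), (nat_lit 36088849461, 6), (nat_lit 31813091586, 0), (nat_lit 32313054261, 6), (nat_lit 27783205941, 6), (nat_lit 31814012961, 0), (nat_lit 32313975636, 6), (nat_lit 27784127316, 6), (nat_lit 31814013186, 0), (nat_lit 32313975861, 6), (nat_lit 27784127541, 6)]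
abbrev b3 : Perm (Fin 9) := Equiv.swap (0 : Fin 9) 3 * Equiv.swap (3 : Fin 9) 6 * Equiv.swap (1 : Fin 9) 4 * Equiv.swap (4 : Fin 9) 7 * Equiv.swap (2 : Fin 9) 5 * Equiv.swap (5 : Fin 9) 8
def gM3 : List ℕ := [nat_lit 36344967201, nat_lit 36342940176, nat_lit 28040245776, nat_lit 8867243331]
def LM3 : List ℕ := [nat_lit 36344967696, nat_lit 36344967201, nat_lit 36342940176, nat_lit 28040245776, nat_lit 8867243331, nat_lit 36344967426, nat_lit 36342939681, nat_lit 28040245281, nat_lit 8867242836, nat_lit 36343861776, nat_lit 28038218256, nat_lit 8865215811, nat_lit 31815119376, nat_lit 562521411, nat_lit 22601074806, nat_lit 36342939906, nat_lit 28040245506, nat_lit 8867243061, nat_lit 36343861281, nat_lit 28038217761, nat_lit 8865215316, nat_lit 31815118881, nat_lit 562520916, nat_lit 22601074311, nat_lit 28039139856, nat_lit 8866137411, nat_lit 31813091856, nat_lit 560493891, nat_lit 22599047286, nat_lit 4337395011,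 nat_lit 14296352886, nat_lit 36343861506, nat_lit 28038217986, nat_lit 8865215541, nat_lit 31815119106, nat_lit 562521141, nat_lit 22601074536, nat_lit 28039139361, nat_lit 8866136916, nat_lit 31813091361, nat_lit 560493396, nat_lit 22599046791, nat_lit 4337394516, nat_lit 14296352391, nat_lit 31814013456, nat_lit 561415491, nat_lit 22599968886, nat_lit 4335367491, nat_lit 14294325366, nat_lit 18071226486, nat_lit 28039139586, nat_lit 8866137141, nat_lit 31813091586, nat_lit 560493621, nat_lit 22599047016, nat_lit 4337394741, nat_lit 14296352616, nat_lit 31814012961, nat_lit 561414996, nat_lit 22599968391, nat_lit 4335366996, nat_lit 14294324871, nat_lit 18071225991, nat_lit 4336289091, nat_lit 14295246966, nat_lit 18069198966, nat_lit 31814013186, nat_lit 561415221, nat_lit 22599968616, nat_lit 4335367221, nat_lit 14294325096, nat_lit 18071226216, nat_lit 4336288596, nat_lit 14295246471, nat_lit 18069198471, nat_lit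 18070120566, nat_lit 4336288821, nat_lit 14295246696, nat_lit 18069198696, nat_lit 18070120071, nat_lit 18070120296]
def wM3 : List (List ℕ) := [[], [0], [1], [2], [3], [0, 0], [1, 0], [2, 0], [3, 0], [1, 1], [2, 1], [3, 1], [2, 2], [3, 2], [3, 3], [1, 0, 0], [2, 0, 0], [3, 0, 0], [1, 1, 0], [2, 1, 0], [3, 1, 0], [2, 2, 0], [3, 2, 0], [3, 3, 0], [2, 1, 1], [3, 1, 1], [2, 2, 1], [3, 2, 1], [3, 3, 1], [3, 2, 2], [3, 3, 2], [1, 1, 0, 0], [2, 1, 0, 0], [3, 1, 0, 0], [2, 2, 0, 0], [3, 2, 0, 0], [3, 3, 0, 0], [2, 1, 1, 0], [3, 1, 1, 0], [2, 2, 1, 0], [3, 2, 1, 0], [3, 3, 1, 0], [3, 2, 2, 0], [3, 3, 2, 0], [2, 2, 1, 1], [3, 2, 1, 1], [3, 3, 1, 1], [3, 2, 2, 1], [3, 3, 2, 1], [3, 3, 2, 2], [2, 1, 1, 0, 0], [3, 1, 1, 0, 0], [2, 2, 1, 0, 0], [3, 2, 1, 0, 0], [3, 3, 1, 0, 0], [3, 2, 2, 0, 0], [3, 3, 2, 0, 0], [2, 2, 1, 1, 0], [3, 2, 1, 1, 0], [3, 3, 1, 1, 0], [3, 2, 2, 1, 0], [3, 3, 2, 1, 0], [3, 3, 2, 2, 0], [3, 2, 2, 1, 1],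 [3, 3, 2, 1, 1], [3, 3, 2, 2, 1], [2, 2, 1, 1, 0, 0], [3, 2, 1, 1, 0, 0], [3, 3, 1, 1, 0, 0], [3, 2, 2, 1, 0, 0], [3, 3, 2, 1, 0, 0], [3, 3, 2, 2, 0, 0], [3, 2, 2, 1, 1, 0], [3, 3, 2, 1, 1, 0], [3, 3, 2, 2, 1, 0], [3, 3, 2, 2, 1, 1], [3, 2, 2, 1, 1, 0, 0], [3, 3, 2, 1, 1, 0, 0], [3, 3, 2, 2, 1, 0, 0], [3, 3, 2, 2, 1, 1, 0], [3, 3, 2, 2, 1, 1, 0, 0]]
def T3 : List (ℕ × ℕ × ℕ) := [(nat_lit 36344967696, 0, nat_lit 36344967696), (nat_lit 36344967201, 0, nat_lit 36344967696), (nat_lit 36342940176, 0, nat_lit 36089955651), (nat_lit 28040245776, 0, nat_lit 8867243331), (nat_lit 8867243331, 0, nat_lit 8867243331), (nat_lit 36344967426, 0, nat_lit 36344906241), (nat_lit 36342939681, 1, nat_lit 36344967696), (nat_lit 28040245281, 1, nat_lit 8867243331), (nat_lit 8867242836, 7, nat_lit 36344967696), (nat_lit 36343861776, 0, nat_lit 36089894196), (nat_lit 28038218256, 1, nat_lit 22601074806), (nat_lit 8865215811, 7, nat_lit 22601074806),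 (nat_lit 31815119376, 0, nat_lit 8615585076), (nat_lit 562521411, 7, nat_lit 8867243331), (nat_lit 22601074806, 0, nat_lit 22601074806), (nat_lit 36342939906, 0, nat_lit 36342939906), (nat_lit 28040245506, 0, nat_lit 28040245506), (nat_lit 8867243061, 8, nat_lit 36344967696), (nat_lit 36343861281, 0, nat_lit 36343861281), (nat_lit 28038217761, 0, nat_lit 28038217761), (nat_lit 8865215316, 8, nat_lit 36342940176), (nat_lit 31815118881, 0, nat_lit 31815118881), (nat_lit 562520916, 8, nat_lit 36344967426), (nat_lit 22601074311, 8, nat_lit 36089893971), (nat_lit 28039139856, 0, nat_lit 28039139856), (nat_lit 8866137411, 8, nat_lit 562521411), (nat_lit 31813091856, 0, nat_lit 31813091856), (nat_lit 560493891, 8, nat_lit 4337395011), (nat_lit 22599047286, 8, nat_lit 36089894196), (nat_lit 4337395011, 8, nat_lit 36344967201), (nat_lit 14296352886, 8, nat_lit 36087866676), (nat_lit 36343861506, 1, nat_lit 36344906241), (nat_lit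 28038217986, 2, nat_lit 8863889511), (nat_lit 8865215541, 0, nat_lit 8865215541), (nat_lit 31815119106, 1, nat_lit 8615585076), (nat_lit 562521141, 0, nat_lit 562521141), (nat_lit 22601074536, 7, nat_lit 22356062721), (nat_lit 28039139361, 2, nat_lit 22607720976), (nat_lit 8866136916, 0, nat_lit 8866136916), (nat_lit 31813091361, 2, nat_lit 36089955651), (nat_lit 560493396, 0, nat_lit 560493396), (nat_lit 22599046791, 7, nat_lit 36089893971), (nat_lit 4337394516, 0, nat_lit 4337394516), (nat_lit 14296352391, 7, nat_lit 36087866451), (nat_lit 31814013456, 1, nat_lit 22349355126), (nat_lit 561415491, 0, nat_lit 561415491), (nat_lit 22599968886, 7, nat_lit 36089894196), (nat_lit 4335367491, 0, nat_lit 4335367491), (nat_lit 14294325366, 7, nat_lit 36087866676), (nat_lit 18071226486, 7, nat_lit 8612169831), (nat_lit 28039139586, 2, nat_lit 36344906241), (nat_lit 8866137141, 7, nat_lit 22599047286), (nat_lit 31813091586,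 2, nat_lit 8615585076), (nat_lit 560493621, 7, nat_lit 22601074536), (nat_lit 22599047016, 0, nat_lit 22599047016), (nat_lit 4337394741, 7, nat_lit 36344967201), (nat_lit 14296352616, 0, nat_lit 14296352616), (nat_lit 31814012961, 2, nat_lit 22349355126), (nat_lit 561414996, 7, nat_lit 562520916), (nat_lit 22599968391, 0, nat_lit 22599968391), (nat_lit 4335366996, 7, nat_lit 22601074311), (nat_lit 14294324871, 0, nat_lit 14294324871), (nat_lit 18071225991, 0, nat_lit 18071225991), (nat_lit 4336289091, 7, nat_lit 562521411), (nat_lit 14295246966, 0, nat_lit 14295246966), (nat_lit 18069198966, 0, nat_lit 18069198966), (nat_lit 31814013186, 0, nat_lit 31814013186), (nat_lit 561415221, 8, nat_lit 562521141), (nat_lit 22599968616, 8, nat_lit 36089893701), (nat_lit 4335367221, 8, nat_lit 36342939681), (nat_lit 14294325096, 8, nat_lit 36087866181), (nat_lit 18071226216, 8, nat_lit 14051340801), (nat_lit 4336288596, 8, nat_lit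 562520916), (nat_lit 14295246471, 8, nat_lit 36087866451), (nat_lit 18069198471, 8, nat_lit 36088972371), (nat_lit 18070120566, 8, nat_lit 36088972596), (nat_lit 4336288821, 0, nat_lit 4336288821), (nat_lit 14295246696, 7, nat_lit 36087866181), (nat_lit 18069198696, 7, nat_lit 8612169336), (nat_lit 18070120071, 7, nat_lit 8612169606), (nat_lit 18070120296, 0, nat_lit 18070120296)]
def la3 : List (ℕ × ℕ) := [(nat_lit 36344967696, 0), (nat_lit 36344967201, 4), (nat_lit 36342940176, 4), (nat_lit 28040245776, 4), (nat_lit 8867243331, 0), (nat_lit 36344967426, 8), (nat_lit 36342939681, 8), (nat_lit 28040245281, 8), (nat_lit 8867242836, 4), (nat_lit 36343861776, 8), (nat_lit 28038218256, 8), (nat_lit 8865215811, 4), (nat_lit 31815119376, 8), (nat_lit 562521411, 4), (nat_lit 22601074806, 0), (nat_lit 36342939906, 0), (nat_lit 28040245506, 0), (nat_lit 8867243061, 8), (nat_lit 36343861281, 0), (nat_lit 28038217761, 0), (nat_lit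 8865215316, 8), (nat_lit 31815118881, 0), (nat_lit 562520916, 8), (nat_lit 22601074311, 4), (nat_lit 28039139856, 0), (nat_lit 8866137411, 8), (nat_lit 31813091856, 0), (nat_lit 560493891, 8), (nat_lit 22599047286, 4), (nat_lit 4337395011, 8), (nat_lit 14296352886, 4), (nat_lit 36343861506, 4), (nat_lit 28038217986, 4), (nat_lit 8865215541, 0), (nat_lit 31815119106, 4), (nat_lit 562521141, 0), (nat_lit 22601074536, 8), (nat_lit 28039139361, 4), (nat_lit 8866136916, 0), (nat_lit 31813091361, 4), (nat_lit 560493396, 0), (nat_lit 22599046791, 8), (nat_lit 4337394516, 0), (nat_lit 14296352391, 8), (nat_lit 31814013456, 4), (nat_lit 561415491, 0), (nat_lit 22599968886, 8), (nat_lit 4335367491, 0), (nat_lit 14294325366, 8), (nat_lit 18071226486, 8), (nat_lit 28039139586, 8), (nat_lit 8866137141, 4), (nat_lit 31813091586, 8), (nat_lit 560493621, 4), (nat_lit 22599047016, 0), (nat_lit 4337394741, 4), (nat_lit 14296352616,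 0), (nat_lit 31814012961, 8), (nat_lit 561414996, 4), (nat_lit 22599968391, 0), (nat_lit 4335366996, 4), (nat_lit 14294324871, 0), (nat_lit 18071225991, 0), (nat_lit 4336289091, 4), (nat_lit 14295246966, 0), (nat_lit 18069198966, 0), (nat_lit 31814013186, 0), (nat_lit 561415221, 8), (nat_lit 22599968616, 4), (nat_lit 4335367221, 8), (nat_lit 14294325096, 4), (nat_lit 18071226216, 4), (nat_lit 4336288596, 8), (nat_lit 14295246471, 4), (nat_lit 18069198471, 4), (nat_lit 18070120566, 4), (nat_lit 4336288821, 0), (nat_lit 14295246696, 8), (nat_lit 18069198696, 8), (nat_lit 18070120071, 8), (nat_lit 18070120296, 0)]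
def be3 : List (ℕ × ℕ) := [(nat_lit 36344967696, 0), (nat_lit 36344967201, 0), (nat_lit 36342940176, 0), (nat_lit 28040245776, 0), (nat_lit 8867243331, 4), (nat_lit 36344967426, 0), (nat_lit 36342939681, 0), (nat_lit 28040245281, 0), (nat_lit 8867242836, 4), (nat_lit 36343861776, 0), (nat_lit 28038218256, 0), (nat_lit 8865215811, 4), (nat_lit 31815119376, 0), (nat_lit 562521411, 4), (nat_lit 22601074806, 8), (nat_lit 36342939906, 0), (nat_lit 28040245506, 0), (nat_lit 8867243061, 4), (nat_lit 36343861281, 0), (nat_lit 28038217761, 0), (nat_lit 8865215316, 4), (nat_lit 31815118881, 0), (nat_lit 562520916, 4), (nat_lit 22601074311, 8), (nat_lit 28039139856, 0), (nat_lit 8866137411, 4), (nat_lit 31813091856, 0), (nat_lit 560493891, 4), (nat_lit 22599047286, 8), (nat_lit 4337395011, 4), (nat_lit 14296352886, 8), (nat_lit 36343861506, 0), (nat_lit 28038217986, 0), (nat_lit 8865215541, 4), (nat_lit 31815119106, 0), (nat_lit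 562521141, 4), (nat_lit 22601074536, 8), (nat_lit 28039139361, 0), (nat_lit 8866136916, 4), (nat_lit 31813091361, 0), (nat_lit 560493396, 4), (nat_lit 22599046791, 8), (nat_lit 4337394516, 4), (nat_lit 14296352391, 8), (nat_lit 31814013456, 0), (nat_lit 561415491, 4), (nat_lit 22599968886, 8), (nat_lit 4335367491, 4), (nat_lit 14294325366, 8), (nat_lit 18071226486, 8), (nat_lit 28039139586, 0), (nat_lit 8866137141, 4), (nat_lit 31813091586, 0), (nat_lit 560493621, 4), (nat_lit 22599047016, 8), (nat_lit 4337394741, 4), (nat_lit 14296352616, 8), (nat_lit 31814012961, 0), (nat_lit 561414996, 4), (nat_lit 22599968391, 8), (nat_lit 4335366996, 4), (nat_lit 14294324871, 8), (nat_lit 18071225991, 8), (nat_lit 4336289091, 4), (nat_lit 14295246966, 8), (nat_lit 18069198966, 8), (nat_lit 31814013186, 0), (nat_lit 561415221, 4), (nat_lit 22599968616, 8), (nat_lit 4335367221, 4), (nat_lit 14294325096, 8), (nat_lit 18071226216,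 8), (nat_lit 4336288596, 4), (nat_lit 14295246471, 8), (nat_lit 18069198471, 8), (nat_lit 18070120566, 8), (nat_lit 4336288821, 4), (nat_lit 14295246696, 8), (nat_lit 18069198696, 8), (nat_lit 18070120071, 8), (nat_lit 18070120296, 8)]
def P : List (List ℤ) := [[9, 36, 36, 81, 81, 81, 0, 0, 0], [9, 36, 36, -81, 0, 0, 0, 0, 0], [9, 36, 36, 81, -81, -81, 0, 0, 0], [9, 36, 36, -81, 0, 0, 0, 0, 0], [36, 90, 36, 0, 0, 0, 162, 0, 0], [36, 90, 36, 0, 0, 0, -162, 0, 0], [36, 36, 36, 0, 0, 0, 0, 108, 108], [36, 36, 36, 0, 0, 0, 0, 0, -108], [36, 36, 36, 0, 0, 0, 0, -108, 0]]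
def Q : List (List ℤ) := [[0, 0, 0, 0, 0, 0, 0, 0, 0], [0, 0, 0, 0, 27, -27, 0, 0, 0], [0, 0, 0, 0, 0, 0, 0, 0, 0], [0, 0, 0, 0, -27, 27, 0, 0, 0], [0, 0, 0, 0, 0, 0, 0, 0, 0], [0, 0, 0, 0, 0, 0, 0, 0, 0], [0, 0, 0, 0, 0, 0, 0, 0, 0], [0, 0, 0, 0, 0, 0, 0, 0, 0], [0, 0, 0, 0, 0, 0, 0, 0, 0]]
def gR : List (List ℤ) := [[3, 1, 1, 1, 2, 3, 1, 2, 2], [1, 3, 1, 2, 3, 3, 2, 2, 2], [1, 1, 4, 1, 3, 3, 2, 2, 2], [1, 2, 1, 3, 3, 3, 2, 2, 2], [2, 3, 3, 3, 7, 5, 3, 4, 4], [3, 3, 3, 3, 5, 8, 4, 4, 4], [1, 2, 2, 2, 3, 4, 4, 2, 2], [2, 2, 2, 2, 4, 4, 2, 4, 3], [2, 2, 2, 2, 4, 4, 2, 3, 4]]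
def gA1 : List (List ℤ) := [[36, 9, 9, 9, -9, -9, -6, -6, -6], [9, 63, 9, -18, -9, -9, -6, -6, -6], [9, 9, 36, 9, -9, -9, -6, -6, -6], [9, -18, 9, 63, -9, -9, -6, -6, -6], [-9, -9, -9, -9, 36, 9, -12, -12, -12], [-9, -9, -9, -9, 9, 36, -12, -12, -12], [-6, -6, -6, -6, -12, -12, 37, 10, 10], [-6, -6, -6, -6, -12, -12, 10, 64, -17], [-6, -6, -6, -6, -12, -12, 10, -17, 64]]
def gY : List (List ℤ) := [[1], [-1, 3], [-1, -1, 4], [-3, -17, -2, 28], [-3, -7, -7, -7, 15], [-21, -13, -13, -13, -3, 36], [7, -6, -6, -6, 1, -12, 31], [-6, -2, -2, -2, -8, -4, 2, 25], [-6, -2, -2, -2, -8, -4, 2, -7, 32]]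
def gW : List ℤ := [20311200, 2538900, 1088100, 48360, 112840, 18200, 39312, 76167, 48825]
def gL : ℤ := 60933600
def gt : List ℤ := [1, 0, 0, 0, 1, 0, 1, 0, 0]
def gV : List (List ℤ) := [[1, 1, 1, 1, 2, 2, 1, 1, 1], [1, 1, 1, 1, 1, 2, 1, 1, 1], [1, 1, 0, 1, 1, 2, 1, 1, 1], [1, 1, 0, 1, 1, 1, 1, 1, 1], [1, 1, 0, 1, 1, 1, 0, 1, 1], [1, 0, 1, 0, 1, 1, 1, 1, 1], [1, 0, 1, 0, 1, 1, 0, 1, 1], [1, 0, 0, 0, 1, 1, 0, 1, 1], [1, 0, 0, 0, 0, 1, 0, 1, 1], [1, 0, 0, 0, 0, 1, 0, 0, 0], [1, 0, 0, 0, 0, 0, 0, 0, 0], [0, 1, 1, 1, 2, 1, 1, 1, 1], [0, 1, 1, 1, 1, 1, 1, 1, 1], [0, 1, 0, 1, 1, 1, 1, 1, 1], [0, 1, 0, 1, 1, 1, 1, 0, 0], [0, 1, 0, 1, 0, 1, 1, 0, 0], [0, 1, 0, 0, 0, 0, 0, 0, 0], [0, 0, 1, 0, 1, 1, 1, 0, 0], [0, 0, 1, 0, 1, 1, 0, 1, 1], [0, 0, 1, 0, 1, 0, 0, 1, 1], [0, 0, 1, 0, 1, 0, 0, 0, 0], [0, 0, 1, 0, 0, 1, 1, 0, 0], [0, 0, 1, 0, 0, 1, 0, 0, 0], [0, 0, 1, 0, 0, 0, 1, 0, 0], [0, 0, 1, 0, 0, 0, 0, 0, 0], [0, 0, 0, 1, 0,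 0, 0, 0, 0], [0, 0, 0, 0, 1, 0, 0, 1, 0], [0, 0, 0, 0, 1, 0, 0, 0, 1], [0, 0, 0, 0, 1, 0, 0, 0, 0], [0, 0, 0, 0, 0, 1, 1, 0, 0], [0, 0, 0, 0, 0, 1, 0, 0, 0], [0, 0, 0, 0, 0, 0, 1, 0, 0], [0, 0, 0, 0, 0, 0, 0, 1, 0], [0, 0, 0, 0, 0, 0, 0, 0, 1]]
def gS : List (List (List ℤ)) := [[[1, 1, 0, 1, 1, 2, 1, 1, 1], [1, 0, 1, 0, 1, 1, 0, 1, 1], [1, 0, 0, 0, 0, 0, 0, 0, 0], [0, 1, 1, 1, 2, 1, 1, 1, 1], [0, 1, 0, 0, 0, 0, 0, 0, 0], [0, 0, 1, 0, 0, 1, 1, 0, 0], [0, 0, 1, 0, 0, 0, 0, 0, 0], [0, 0, 0, 1, 0, 0, 0, 0, 0], [0, 0, 0, 0, 1, 0, 0, 0, 0], [0, 0, 0, 0, 0, 1, 0, 0, 0], [0, 0, 0, 0, 0, 0, 1, 0, 0], [0, 0, 0, 0, 0, 0, 0, 1, 0], [0, 0, 0, 0, 0, 0, 0, 0, 1]], [[1, 1, 0, 1, 1, 2, 1, 1, 1], [1, 0, 1, 0, 1, 1, 0, 1, 1], [1, 0, 0, 0, 0, 0, 0, 0, 0], [0, 1, 1, 1, 2, 1, 1, 1, 1], [0, 1, 0, 0, 0, 0, 0, 0, 0], [0, 0, 1, 0, 0, 1, 0, 0, 0], [0, 0, 1, 0, 0, 0, 1, 0, 0], [0, 0, 0, 1, 0, 0, 0, 0, 0], [0, 0, 0, 0, 1, 0, 0, 0, 0], [0, 0, 0,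 0, 0, 1, 1, 0, 0], [0, 0, 0, 0, 0, 0, 0, 1, 0], [0, 0, 0, 0, 0, 0, 0, 0, 1]]]
def lX : List ℤ := [-3, -3, -3, -3, 0, 0, 4, 4, 4]
def UX : List ℕ := [nat_lit 28040245776, nat_lit 31815119376, nat_lit 36342940176, nat_lit 36343861776, nat_lit 36344967201, nat_lit 36344967426]
def lY : List ℤ := [0, 0, 0, 0, 3, 3, -2, -2, -2]
def UY : List ℕ := [nat_lit 28038218256, nat_lit 31813091856, nat_lit 28039139856, nat_lit 31814013456, nat_lit 28040245281, nat_lit 31815118881, nat_lit 36342939681, nat_lit 36343861281, nat_lit 28040245506, nat_lit 31815119106, nat_lit 36342939906, nat_lit 36343861506]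
def lZ : List ℤ := [3, 3, 3, 3, -3, -3, 1, 1, 1]
def UZ : List ℕ := [nat_lit 28038217761, nat_lit 31813091361, nat_lit 28039139361, nat_lit 31814012961, nat_lit 28038217986, nat_lit 31813091586, nat_lit 28039139586, nat_lit 31814013186]
def TJ : List (ℕ × ℕ × ℕ) := [(nat_lit 36344967696, 9, nat_lit 36344967696), (nat_lit 36344967201, 0, nat_lit 36344967696), (nat_lit 36342940176, 0, nat_lit 36089955651), (nat_lit 28040245776, 0, nat_lit 8867243331), (nat_lit 36344967426, 0, nat_lit 36344906241), (nat_lit 36342939681, 1, nat_lit 36344967696), (nat_lit 28040245281, 1, nat_lit 8867243331), (nat_lit 36343861776, 0, nat_lit 36089894196), (nat_lit 28038218256, 1, nat_lit 22601074806), (nat_lit 31815119376, 0, nat_lit 8615585076), (nat_lit 36342939906, 1, nat_lit 36093309441), (nat_lit 28040245506, 1, nat_lit 8867181876), (nat_lit 36343861281, 1, nat_lit 36341552451), (nat_lit 28038217761, 2, nat_lit 36344967696), (nat_lit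 31815118881, 1, nat_lit 8615523651), (nat_lit 28039139856, 1, nat_lit 22601013351), (nat_lit 31813091856, 1, nat_lit 8612231286), (nat_lit 36343861506, 1, nat_lit 36344906241), (nat_lit 28038217986, 2, nat_lit 8863889511), (nat_lit 31815119106, 1, nat_lit 8615585076), (nat_lit 28039139361, 2, nat_lit 22607720976), (nat_lit 31813091361, 2, nat_lit 36089955651), (nat_lit 31814013456, 1, nat_lit 22349355126), (nat_lit 28039139586, 2, nat_lit 36344906241), (nat_lit 31813091586, 2, nat_lit 8615585076), (nat_lit 31814012961, 2, nat_lit 22349355126), (nat_lit 31814013186, 2, nat_lit 36089894196)]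

abbrev SK : Set (Perm (Fin 9)) := {Equiv.swap (0 : Fin 9) 1 * Equiv.swap 1 2,
  Equiv.swap (0 : Fin 9) 3 * Equiv.swap 3 6 * (Equiv.swap (1 : Fin 9) 4 * Equiv.swap 4 7) *
    (Equiv.swap (2 : Fin 9) 5 * Equiv.swap 5 8),
  Equiv.swap (0 : Fin 9) 1 * Equiv.swap 3 4,
  Equiv.swap (0 : Fin 9) 3 * Equiv.swap 1 4 * Equiv.swap 2 5 * Equiv.swap 6 7}

abbrev SJ : Set (Perm (Fin 9)) := {Equiv.swap (0 : Fin 9) 1 * Equiv.swap 1 2,
  Equiv.swap (3 : Fin 9) 4 * Equiv.swap 4 5, Equiv.swap (6 : Fin 9) 7 * Equiv.swap 7 8}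

abbrev SM (b : Perm (Fin 9)) : Set (Perm (Fin 9)) := {Equiv.swap (0 : Fin 9) 1 * Equiv.swap 1 2,
  Equiv.swap (3 : Fin 9) 4 * Equiv.swap 4 5, Equiv.swap (6 : Fin 9) 7 * Equiv.swap 7 8, b}

abbrev K : Subgroup (Perm (Fin 9)) := Subgroup.closure SK
abbrev J : Subgroup (Perm (Fin 9)) := Subgroup.closure SJ

theorem enc_one : enc (1 : Perm (Fin 9)) = one := by decide +kernel

theorem hSK : ∀ g ∈ SK, enc g ∈ gs := by
  simp only [SK, Set.mem_insert_iff, Set.mem_singleton_iff, forall_eq_or_imp, forall_eq]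
  decide +kernel

theorem hSJ : ∀ g ∈ SJ, enc g ∈ gJ := by
  simp only [SJ, Set.mem_insert_iff, Set.mem_singleton_iff, forall_eq_or_imp, forall_eq]
  decide +kernel

theorem hK : Lists K L :=
  lists_of_words (by norm_num) SK one gs L ws enc_one hSK (by
    simp only [SK, Set.mem_insert_iff, Set.mem_singleton_iff, exists_eq_or_imp, exists_eq_left]
    decide +kernel) (by decide +kernel) (by decide +kernel) (by decide +kernel) (by decide +kernel)

theorem hJ : Lists J LJ :=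
  lists_of_words (by norm_num) SJ one gJ LJ wJ enc_one hSJ (by
    simp only [SJ, Set.mem_insert_iff, Set.mem_singleton_iff, exists_eq_or_imp, exists_eq_left]
    decide +kernel) (by decide +kernel) (by decide +kernel) (by decide +kernel) (by decide +kernel)

theorem le_K {M : Subgroup (Perm (Fin 9))} {LM : List ℕ} (hM : Lists M LM)
    (h : allB (fun c => memb c L) LM = true) : M ≤ K :=
  fun p hp => (hK.mem_iff p).mpr ((memb_iff _ _).mp ((allB_iff _ _).mp h _ (hM.mem p hp)))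

theorem hJK : J ≤ K := le_K hJ (by decide +kernel)

theorem hS1 : ∀ g ∈ SM b1, enc g ∈ gM1 := by
  simp only [SM, Set.mem_insert_iff, Set.mem_singleton_iff, forall_eq_or_imp, forall_eq]
  decide +kernel

theorem hM1 : Lists (Subgroup.closure (SM b1)) LM1 :=
  lists_of_words (by norm_num) _ one gM1 LM1 wM1 enc_one hS1 (by
    simp only [SM, Set.mem_insert_iff, Set.mem_singleton_iff, exists_eq_or_imp, exists_eq_left]
    decide +kernel) (by decide +kernel) (by decide +kernel) (by decide +kernel) (by decide +kernel)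

theorem hMK1 : Subgroup.closure (SM b1) ≤ K := le_K hM1 (by decide +kernel)

theorem hS2 : ∀ g ∈ SM b2, enc g ∈ gM2 := by
  simp only [SM, Set.mem_insert_iff, Set.mem_singleton_iff, forall_eq_or_imp, forall_eq]
  decide +kernel

theorem hM2 : Lists (Subgroup.closure (SM b2)) LM2 :=
  lists_of_words (by norm_num) _ one gM2 LM2 wM2 enc_one hS2 (by
    simp only [SM, Set.mem_insert_iff, Set.mem_singleton_iff, exists_eq_or_imp, exists_eq_left]
    decide +kernel) (by decide +kernel) (by decide +kernel) (by decide +kernel) (by decide +kernel)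

theorem hMK2 : Subgroup.closure (SM b2) ≤ K := le_K hM2 (by decide +kernel)

theorem hS3 : ∀ g ∈ SM b3, enc g ∈ gM3 := by
  simp only [SM, Set.mem_insert_iff, Set.mem_singleton_iff, forall_eq_or_imp, forall_eq]
  decide +kernel

theorem hM3 : Lists (Subgroup.closure (SM b3)) LM3 :=
  lists_of_words (by norm_num) _ one gM3 LM3 wM3 enc_one hS3 (by
    simp only [SM, Set.mem_insert_iff, Set.mem_singleton_iff, exists_eq_or_imp, exists_eq_left]
    decide +kernel) (by decide +kernel) (by decide +kernel) (by decide +kernel) (by decide +kernel)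

theorem hMK3 : Subgroup.closure (SM b3) ≤ K := le_K hM3 (by decide +kernel)

theorem arith (a b k : ℤ) (hk : 0 ≤ k)
    (h1 : 6 * (1 + 27 * k) * ((12 + 27 * a) + (12 + 27 * b)) = (12 + 27 * a) * (12 + 27 * b))
    (h2 : (12 + 27 * a) ^ 2 + (12 + 27 * b) ^ 2 ≤ 648 * (1 + 27 * k)) : k = 0 := by
  obtain ⟨s, rfl⟩ : ∃ s, b = s - a := ⟨a + b, by ring⟩
  have h3 : 2 * k * (24 + 27 * s) - 2 * s = 9 * (a * (s - a)) := by linarith
  have h4 : s ≤ 1 := by
    by_contra h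
    nlinarith [sq_nonneg ((12 + 27 * a) - (12 + 27 * (s - a)))]
  have h5 : -2 ≤ s := by
    by_contra h
    nlinarith [sq_nonneg ((12 + 27 * a) + (12 + 27 * (s - a)))]
  have h6 : s = 0 := by
    have : 2 * k * (24 + 27 * s) = 3 * (2 * k * (8 + 9 * s)) := by ring
    omega
  subst h6
  nlinarith [sq_nonneg a]

/-- A cubic form. -/
def cub {R : Type} [CommRing R] (c : List ℤ) (X Y Z : R) : R :=
  ent c 0 * (X * X * Y) + ent c 1 * (X * Z * X) + ent c 2 * (Y * Y * X) + ent c 3 * (Y * Z * X)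
    + ent c 4 * (Z * Z * X) + ent c 5 * (Y * Z * Y) + ent c 6 * (Z * Z * Y)

theorem hU (c : ℕ) (U : List ℕ) (a : ℕ) (h : (nodupB U &&
      allB (fun x => anyB (fun a => Nat.beq (mulc 9 x c) (mulc 9 a x)) U) L &&
      allB (fun a => memb a L && anyB (fun x => Nat.beq (mulc 9 x c) (mulc 9 a x)) L) U &&
      !Nat.beq U.length 0 && Nat.beq (a * U.length) L.length) = true) : nodupB U = true ∧
      allB (fun x => anyB (fun a => Nat.beq (mulc 9 x c) (mulc 9 a x)) U) L = true ∧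
      allB (fun a => memb a L && anyB (fun x => Nat.beq (mulc 9 x c) (mulc 9 a x)) L) U = true ∧
      U.length ≠ 0 ∧ a * U.length = L.length := by
  simp only [Bool.and_eq_true, Nat.beq_eq, Bool.not_eq_true', ← Bool.not_eq_true] at h
  tauto

set_option maxHeartbeats 1000000 in
theorem main {G : Type*} [Group G] [Finite G] (ι : K →* G) (hι : Function.Injective ι)
    (hTI : ∀ k : K, k ≠ 1 → (k : Perm (Fin 9)) ∈ J → ∀ g : G,
      g * ι k * g⁻¹ ∈ ι.range → g ∈ ι.range) :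
    ι.range = ⊤ := by
  classical
  have := Fintype.ofFinite G
  have := Fintype.ofFinite J
  obtain ⟨r, hr'⟩ := exists_reps hK reps 10 (by decide +kernel)
  have hr : ∀ s < 9, enc (r s : Perm (Fin 9)) = reps.getD s 0 := fun s hs => hr' s (by omega)
  have hpw : ∀ s < 9, r s ^ pws.getD s 0 ≠ 1 ∧
      ((r s ^ pws.getD s 0 : K) : Perm (Fin 9)) ∈ J := by
    intro s hs
    have := (allLt_iff (fun s => !Nat.beq (powc 9 one (reps.getD s 0) (pws.getD s 0)) one &&
      memF (powc 9 one (reps.getD s 0) (pws.getD s 0)) LJ) 9).mp (by decide +kernel) s hs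
    rw [Bool.and_eq_true, memF_iff] at this
    rw [Ne, hK.pow_eq_one_iff enc_one, hJ.mem_iff, SubgroupClass.coe_pow,
      enc_pow (by norm_num) enc_one, hr s hs]
    exact ⟨by simpa only [Bool.not_eq_true', ← Bool.not_eq_true] using this.1, this.2⟩
  have hr1 : ∀ s < 9, r s ≠ 1 := fun s hs h => (hpw s hs).1 (by rw [h, one_pow])
  have hT : ∀ s < 9, ∀ g : G, g * ι (r s) * g⁻¹ ∈ ι.range → g ∈ ι.range := by
    intro s hs g hg
    refine hTI _ (hpw s hs).1 (hpw s hs).2 g ?_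
    rw [map_pow, ← conj_pow]
    exact pow_mem hg _
  have hr3 : ∀ s < 3, r s ^ 3 = 1 := by
    intro s hs
    rw [hK.pow_eq_one_iff enc_one, hr s (by omega)]
    exact (allLt_iff (fun s => Nat.beq (powc 9 one (reps.getD s 0) 3) one) 3).mp
      (by decide +kernel) s hs
  have hx := orth_of_table hK ι hι reps 9 r hr hT cent (by decide +kernel)
  obtain ⟨w, hw, s, hs, hΦ, hbd⟩ := classify_tables 9 9 (fun s => ι (r s))
    (fun s hs h => hr1 s hs (hι (by rw [h, map_one]))) cent hx r3 0 3 0 1 324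
    (by norm_num) r3_mul_self conj_r3 P Q gR gt (by
      intro χ hχ a ha
      interval_cases a
      · exact int_of_table hK ι reps 9 r hr enc_one _ gM1 LM1 hS1 hM1 hMK1 T1
          (by decide +kernel) (fun c => 0 * lk be1 c) (fun c => 0 * lk be1 c + lk la1 c) r3 _
          r3_eq (P.getD 0 []) (Q.getD 0 []) 3 324 (by decide +kernel) (by decide +kernel)
          (irr_isCharacter hχ)
      · exact int_of_table hK ι reps 9 r hr enc_one _ gM1 LM1 hS1 hM1 hMK1 T1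
          (by decide +kernel) (fun c => 1 * lk be1 c) (fun c => 1 * lk be1 c + lk la1 c) r3 _
          r3_eq (P.getD 1 []) (Q.getD 1 []) 3 324 (by decide +kernel) (by decide +kernel)
          (irr_isCharacter hχ)
      · exact int_of_table hK ι reps 9 r hr enc_one _ gM1 LM1 hS1 hM1 hMK1 T1
          (by decide +kernel) (fun c => 2 * lk be1 c) (fun c => 2 * lk be1 c + lk la1 c) r3 _
          r3_eq (P.getD 2 []) (Q.getD 2 []) 3 324 (by decide +kernel) (by decide +kernel)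
          (irr_isCharacter hχ)
      · exact int_of_table hK ι reps 9 r hr enc_one _ gM1 LM1 hS1 hM1 hMK1 T1
          (by decide +kernel) (fun c => 3 * lk be1 c) (fun c => 3 * lk be1 c + lk la1 c) r3 _
          r3_eq (P.getD 3 []) (Q.getD 3 []) 3 324 (by decide +kernel) (by decide +kernel)
          (irr_isCharacter hχ)
      · exact int_of_table hK ι reps 9 r hr enc_one _ gM2 LM2 hS2 hM2 hMK2 T2
          (by decide +kernel) (fun c => 0 * lk be2 c) (fun c => 0 * lk be2 c + lk la2 c) r3 _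
          r3_eq (P.getD 4 []) (Q.getD 4 []) 6 324 (by decide +kernel) (by decide +kernel)
          (irr_isCharacter hχ)
      · exact int_of_table hK ι reps 9 r hr enc_one _ gM2 LM2 hS2 hM2 hMK2 T2
          (by decide +kernel) (fun c => 1 * lk be2 c) (fun c => 1 * lk be2 c + lk la2 c) r3 _
          r3_eq (P.getD 5 []) (Q.getD 5 []) 6 324 (by decide +kernel) (by decide +kernel)
          (irr_isCharacter hχ)
      · exact int_of_table hK ι reps 9 r hr enc_one _ gM3 LM3 hS3 hM3 hMK3 T3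
          (by decide +kernel) (fun c => 0 * lk be3 c) (fun c => 0 * lk be3 c + lk la3 c) r3 _
          r3_eq (P.getD 6 []) (Q.getD 6 []) 4 324 (by decide +kernel) (by decide +kernel)
          (irr_isCharacter hχ)
      · exact int_of_table hK ι reps 9 r hr enc_one _ gM3 LM3 hS3 hM3 hMK3 T3
          (by decide +kernel) (fun c => 1 * lk be3 c) (fun c => 1 * lk be3 c + lk la3 c) r3 _
          r3_eq (P.getD 7 []) (Q.getD 7 []) 4 324 (by decide +kernel) (by decide +kernel)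
          (irr_isCharacter hχ)
      · exact int_of_table hK ι reps 9 r hr enc_one _ gM3 LM3 hS3 hM3 hMK3 T3
          (by decide +kernel) (fun c => 2 * lk be3 c) (fun c => 2 * lk be3 c + lk la3 c) r3 _
          r3_eq (P.getD 8 []) (Q.getD 8 []) 4 324 (by decide +kernel) (by decide +kernel)
          (irr_isCharacter hχ)
      )
    (by decide +kernel) (by decide +kernel) gA1 gY gW gL gV gS 50 (by decide +kernel)
    (by decide +kernel) (by decide +kernel)
  set cf := cfT 9 324 P Q r3 (fun s => ι (r s)) with hcf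
  have hval : ∀ (f : G → ℂ) (v : List ℤ), (∀ a < 9, cf a f = ent v a) →
      f (ι (r 0)) = (dot 9 lX v : ℤ) ∧ f (ι (r 1)) = (dot 9 lY v : ℤ) ∧
        f (ι (r 2)) = (dot 9 lZ v : ℤ) := by
    intro f v hv
    have h0 := sum_val_eq 9 9 324 (by norm_num) P Q r3 (fun s => ι (r s)) lX [1]
      (by decide +kernel) f v hv
    have h1 := sum_val_eq 9 9 324 (by norm_num) P Q r3 (fun s => ι (r s)) lY [0, 1]
      (by decide +kernel) f v hv
    have h2 := sum_val_eq 9 9 324 (by norm_num) P Q r3 (fun s => ι (r s)) lZ [0, 0, 1]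
      (by decide +kernel) f v hv
    simp only [Finset.sum_range_succ, ent, List.getD_cons_succ, List.getD_cons_zero,
      List.getD_nil, Finset.sum_range_zero] at h0 h1 h2
    refine ⟨?_, ?_, ?_⟩
    · simpa using h0
    · simpa using h1
    · simpa using h2
  have hUX := hU (reps.getD 0 0) UX 108 (by decide +kernel)
  have hUY := hU (reps.getD 1 0) UY 54 (by decide +kernel)
  have hUZ := hU (reps.getD 2 0) UZ 81 (by decide +kernel)
  have hC : ∀ j < 2, ∀ t : K, t ≠ 1 → t ^ 3 = 1 → t * r j = r j * t →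
      ∀ g : G, g * ι t * g⁻¹ ∈ ι.range → g ∈ ι.range := by
    intro j hj t h1 h2 h3
    refine hTI t h1 ?_
    have := hK.forall_of_all _ ((allLt_iff (fun j => allB (fun t =>
      !Nat.beq (mulc 9 t (reps.getD j 0)) (mulc 9 (reps.getD j 0) t) ||
      !Nat.beq (powc 9 one t 3) one || memb t LJ) L) 2).mp (by decide +kernel) j hj) t
    rw [hK.conj_iff, hr j (by omega)] at h3
    rw [hK.pow_eq_one_iff enc_one] at h2
    rw [hJ.mem_iff, ← memb_iff]
    simpa only [h2, h3, Bool.not_true, Bool.false_or] using this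
  have hctl : ∀ i < 3, ∀ j < 3, ∀ k < 2,
      (anyB (fun x => Nat.beq (mulc 9 x (reps.getD i 0)) (mulc 9 (reps.getD j 0) x)) L &&
        anyB (fun x => Nat.beq (mulc 9 x (reps.getD j 0)) (mulc 9 (reps.getD k 0) x)) L) = false →
      ∀ x y : G, x * ι (r i) * x⁻¹ * (y * ι (r j) * y⁻¹) * ι (r k) = 1 →
        x ∈ ι.range ∧ y ∈ ι.range := by
    intro i hi j hj k hk hnc
    refine control333 ι hι (hr3 i hi) (hr3 j hj) (hr3 k (by omega)) (hT i (by omega))
      (hT j (by omega)) (hT k (by omega)) (hC k hk) ?_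
    rintro ⟨⟨x, hx⟩, ⟨y, hy⟩⟩
    rw [hK.conj_iff, hr _ (by omega), hr _ (by omega)] at hx hy
    rw [(anyB_iff _ _).mpr ⟨_, hK.mem _ x.2, hx⟩, (anyB_iff _ _).mpr ⟨_, hK.mem _ y.2, hy⟩] at hnc
    exact Bool.noConfusion hnc
  have t0 := triple_of_table hK ι hι (r 0) (r 0) (r 1) _ _ _ one (hr 0 (by norm_num))
    (hr 0 (by norm_num)) (hr 1 (by norm_num)) enc_one UX UX 108 108 2 hUX hUX (by decide +kernel)
    (hctl 0 (by norm_num) 0 (by norm_num) 1 (by norm_num) (by decide +kernel))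
  have t1 := triple_of_table hK ι hι (r 0) (r 2) (r 0) _ _ _ one (hr 0 (by norm_num))
    (hr 2 (by norm_num)) (hr 0 (by norm_num)) enc_one UX UZ 108 81 0 hUX hUZ (by decide +kernel)
    (hctl 0 (by norm_num) 2 (by norm_num) 0 (by norm_num) (by decide +kernel))
  have t2 := triple_of_table hK ι hι (r 1) (r 1) (r 0) _ _ _ one (hr 1 (by norm_num))
    (hr 1 (by norm_num)) (hr 0 (by norm_num)) enc_one UY UY 54 54 4 hUY hUY (by decide +kernel)
    (hctl 1 (by norm_num) 1 (by norm_num) 0 (by norm_num) (by decide +kernel))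
  have t3 := triple_of_table hK ι hι (r 1) (r 2) (r 0) _ _ _ one (hr 1 (by norm_num))
    (hr 2 (by norm_num)) (hr 0 (by norm_num)) enc_one UY UZ 54 81 4 hUY hUZ (by decide +kernel)
    (hctl 1 (by norm_num) 2 (by norm_num) 0 (by norm_num) (by decide +kernel))
  have t4 := triple_of_table hK ι hι (r 2) (r 2) (r 0) _ _ _ one (hr 2 (by norm_num))
    (hr 2 (by norm_num)) (hr 0 (by norm_num)) enc_one UZ UZ 81 81 4 hUZ hUZ (by decide +kernel)
    (hctl 2 (by norm_num) 2 (by norm_num) 0 (by norm_num) (by decide +kernel))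
  have t5 := triple_of_table hK ι hι (r 1) (r 2) (r 1) _ _ _ one (hr 1 (by norm_num))
    (hr 2 (by norm_num)) (hr 1 (by norm_num)) enc_one UY UZ 54 81 4 hUY hUZ (by decide +kernel)
    (hctl 1 (by norm_num) 2 (by norm_num) 1 (by norm_num) (by decide +kernel))
  have t6 := triple_of_table hK ι hι (r 2) (r 2) (r 1) _ _ _ one (hr 2 (by norm_num))
    (hr 2 (by norm_num)) (hr 1 (by norm_num)) enc_one UZ UZ 81 81 2 hUZ hUZ (by decide +kernel)
    (hctl 2 (by norm_num) 2 (by norm_num) 1 (by norm_num) (by decide +kernel))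
  have hcub : ∀ c : List ℤ, (Nat.card G : ℂ) * (cub c 1 1 1 + (s.map (fun f =>
      cub c (f (ι (r 0))) (f (ι (r 1))) (f (ι (r 2))) / f 1)).sum) =
      ent c 0 * 23328 + ent c 2 * 11664 + ent c 3 * 17496 + ent c 4 * 26244 + ent c 5 * 17496
        + ent c 6 * 13122 := by
    intro c
    have := hΦ (fun f => cub c (f (ι (r 0))) (f (ι (r 1))) (f (ι (r 2))) / f 1)
      (fun f => by simp only [cub, Pi.neg_apply]; ring)
      (fun χ _ _ h => by
        obtain ⟨e0, e1, e2⟩ := hval χ [] (fun a ha => by rw [h a ha]; simp [ent])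
        simp only [e0, e1, e2]
        simp [dot, sumLt, ent, cub])
    simp only [Pi.one_apply, div_one] at this
    rw [← this]
    simp only [cub, add_div, mul_div_assoc ((ent c _ : ℤ) : ℂ), Finset.sum_add_distrib,
      ← Finset.mul_sum]
    push_cast at t0 t1 t2 t3 t4 t5 t6
    linear_combination ent c 0 * t0 + ent c 1 * t1 + ent c 2 * t2 + ent c 3 * t3 + ent c 4 * t4
      + ent c 5 * t5 + ent c 6 * t6
  have hcard : Nat.card G = 648 * ι.range.index := by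
    rw [← ι.range.card_mul_index, ← Nat.card_congr (MonoidHom.ofInjective hι).toEquiv, hK.card_eq]
    rfl
  have hG0 : (Nat.card G : ℂ) ≠ 0 := by exact_mod_cast Nat.card_pos.ne'
  simp only [gS, List.mem_cons, List.not_mem_nil, or_false] at hw
  rcases hw with rfl | rfl
  · simp only [List.forall₂_cons_right_iff, List.forall₂_nil_right_iff] at hs
    obtain ⟨f0, _, ⟨i0, -, -, c0⟩, ⟨f1, _, ⟨i1, -, -, c1⟩, ⟨f2, _, ⟨i2, -, -, c2⟩, ⟨f3, _, ⟨i3, -, -, c3⟩, ⟨f4, _, ⟨i4, -, -, c4⟩, ⟨f5, _, ⟨i5, -, -, c5⟩, ⟨f6, _, ⟨i6, -, -, c6⟩, ⟨f7, _, ⟨i7, -, -, c7⟩, ⟨f8, _, ⟨i8, -, -, c8⟩, ⟨f9, _, ⟨i9, -, -, c9⟩, ⟨f10, _, ⟨i10, -, -, c10⟩, ⟨f11, _, ⟨i11, -, -, c11⟩, ⟨f12, _, ⟨i12, -, -, c12⟩, rfl, rfl⟩, rfl⟩, rfl⟩, rfl⟩, rfl⟩, rfl⟩, rfl⟩, rfl⟩, rfl⟩, rfl⟩, rfl⟩, rfl⟩, rfl⟩ := hs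
    have h1 := hcub [-2, -3, -2, 0, -3, 8, 2]
    simp only [List.map_cons, List.map_nil, List.sum_cons, List.sum_nil, hval _ _ c0, hval _ _ c1, hval _ _ c2, hval _ _ c3, hval _ _ c4, hval _ _ c5, hval _ _ c6, hval _ _ c7, hval _ _ c8, hval _ _ c9, hval _ _ c10, hval _ _ c11, hval _ _ c12] at h1
    simp [dot, sumLt, ent, cub, lX, lY, lZ, -Nat.card_eq_fintype_card] at h1
    have hmod : ∀ f : G → ℂ, SIrr G f → f (ι (r 0)) = 0 → f (ι (r 1)) = 3 → f (ι (r 2)) = -3 →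
        ∃ a : ℤ, f 1 = -(12 + 27 * a) := by
      intro f hf e0 e1 e2
      obtain ⟨c, hc⟩ := hf.exists_int_sum (ι.comp (Subgroup.inclusion hJK))
      have h2 := sum_sub_of_table hK ι reps 10 r hr' hJ hJK TJ (by decide +kernel)
        (by decide +kernel) [6, 12, 8, 0, 0, 0, 0, 0, 0, 1] (by decide +kernel) hf.isClassFunction
      have h3 : r 9 = 1 := by rw [hK.eq_one_iff enc_one, hr' 9 (by norm_num)]; decide +kernel
      simp only [MonoidHom.comp_apply] at hc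
      rw [hc, hJ.card_eq] at h2
      simp [Finset.sum_range_succ, ent, e0, e1, e2, h3, LJ] at h2
      exact ⟨-c, by push_cast; linear_combination -h2⟩
    obtain ⟨a, ha⟩ := hmod f8 i8 (by rw [(hval _ _ c8).1]; simp [dot, sumLt, ent, lX])
      (by rw [(hval _ _ c8).2.1]; simp [dot, sumLt, ent, lY])
      (by rw [(hval _ _ c8).2.2]; simp [dot, sumLt, ent, lZ])
    obtain ⟨b, hb⟩ := hmod f9 i9 (by rw [(hval _ _ c9).1]; simp [dot, sumLt, ent, lX])
      (by rw [(hval _ _ c9).2.1]; simp [dot, sumLt, ent, lY])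
      (by rw [(hval _ _ c9).2.2]; simp [dot, sumLt, ent, lZ])
    have hdv : 27 ∣ ι.range.index - 1 := by
      have := card_dvd_index_sub_one (T := (J.subgroupOf K).map ι) (H := ι.range)
        (Subgroup.map_le_range _ _) (by
          rintro _ ⟨k, hk, rfl⟩ h1
          exact hTI k (fun h => h1 (by rw [h, map_one])) hk)
      rwa [Subgroup.card_map_of_injective hι,
        Nat.card_congr (Subgroup.subgroupOfEquivOfLe hJK).toEquiv, hJ.card_eq] at this
    have h6 : 0 < ι.range.index := Nat.pos_of_ne_zero Subgroup.FiniteIndex.index_ne_zero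
    obtain ⟨k, hk⟩ : ∃ k : ℕ, ι.range.index = 1 + 27 * k := by
      obtain ⟨k, hk⟩ := hdv
      exact ⟨k, by omega⟩
    have ha0 : (12 + 27 * a : ℂ) ≠ 0 := by
      have : (12 + 27 * a : ℤ) ≠ 0 := by omega
      exact_mod_cast this
    have hb0 : (12 + 27 * b : ℂ) ≠ 0 := by
      have : (12 + 27 * b : ℤ) ≠ 0 := by omega
      exact_mod_cast this
    rw [ha, hb, hcard, hk] at h1
    have hbd' : ‖f8 1‖ ^ 2 + ‖f9 1‖ ^ 2 ≤ (Nat.card G : ℝ) := by
      simp only [List.map_cons, List.map_nil, List.sum_cons, List.sum_nil] at hbd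
      nlinarith [sq_nonneg ‖f0 1‖, sq_nonneg ‖f1 1‖, sq_nonneg ‖f2 1‖, sq_nonneg ‖f3 1‖, sq_nonneg ‖f4 1‖, sq_nonneg ‖f5 1‖, sq_nonneg ‖f6 1‖, sq_nonneg ‖f7 1‖, sq_nonneg ‖f10 1‖, sq_nonneg ‖f11 1‖, sq_nonneg ‖f12 1‖]
    rw [ha, hb, hcard, hk, norm_neg, norm_neg, show (12 + 27 * a : ℂ) = ((12 + 27 * a : ℤ) : ℂ) by
      push_cast; rfl, show (12 + 27 * b : ℂ) = ((12 + 27 * b : ℤ) : ℂ) by push_cast; rfl,
      Complex.norm_intCast, Complex.norm_intCast, sq_abs, sq_abs] at hbd'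
    have := arith a b k (by omega) (by
      field_simp at h1
      have : (6 * (1 + 27 * k) * ((12 + 27 * a) + (12 + 27 * b)) : ℂ) =
          (12 + 27 * a) * (12 + 27 * b) := by
        push_cast at h1
        linear_combination h1 / 17496
      exact_mod_cast this) (by exact_mod_cast hbd')
    rw [← Subgroup.index_eq_one]
    omega
  · simp only [List.forall₂_cons_right_iff, List.forall₂_nil_right_iff] at hs
    obtain ⟨f0, _, ⟨i0, -, -, c0⟩, ⟨f1, _, ⟨i1, -, -, c1⟩, ⟨f2, _, ⟨i2, -, -, c2⟩, ⟨f3, _, ⟨i3, -, -, c3⟩, ⟨f4, _, ⟨i4, -, -, c4⟩, ⟨f5, _, ⟨i5, -, -, c5⟩, ⟨f6, _, ⟨i6, -, -, c6⟩, ⟨f7, _, ⟨i7, -, -, c7⟩, ⟨f8, _, ⟨i8, -, -, c8⟩, ⟨f9, _, ⟨i9, -, -, c9⟩, ⟨f10, _, ⟨i10, -, -, c10⟩, ⟨f11, _, ⟨i11, -, -, c11⟩, rfl, rfl⟩, rfl⟩, rfl⟩, rfl⟩, rfl⟩, rfl⟩, rfl⟩, rfl⟩, rfl⟩, rfl⟩, rfl⟩, rfl⟩ := hs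
    have h1 := hcub [0, 1, -3, -3, 1, 2, 2]
    simp only [List.map_cons, List.map_nil, List.sum_cons, List.sum_nil, hval _ _ c0, hval _ _ c1, hval _ _ c2, hval _ _ c3, hval _ _ c4, hval _ _ c5, hval _ _ c6, hval _ _ c7, hval _ _ c8, hval _ _ c9, hval _ _ c10, hval _ _ c11] at h1
    obtain ⟨d, hd, hd'⟩ := i5.one_int
    simp [dot, sumLt, ent, cub, lX, lY, lZ, -Nat.card_eq_fintype_card, hd'] at h1
    norm_num [hG0, hd] at h1

theorem J_normal : (J.subgroupOf K).Normal := by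
  refine ⟨fun a ha g => ?_⟩
  rw [Subgroup.mem_subgroupOf, hJ.mem_iff] at ha ⊢
  have h1 := (allB_iff _ _).mp (hK.forall_of_all (fun g => allB (fun a => anyB (fun b =>
    Nat.beq (mulc 9 g a) (mulc 9 b g)) LJ) LJ) (by decide +kernel) g) _ ha
  obtain ⟨b, hb, e⟩ := (anyB_iff _ _).mp h1
  obtain ⟨p, hp, rfl⟩ := hJ.cd b hb
  have := (hK.conj_iff g a ⟨p, hJK hp⟩).mpr e
  rw [this, mul_inv_cancel_right]
  exact hb

theorem pCore_eq : pCore 3 K = J.subgroupOf K := by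
  refine le_antisymm (fun k hk => ?_) (H7.le_pCore J_normal (IsPGroup.of_card (n := 3) ?_))
  · have h81 : ∀ k ∈ pCore 3 K, k ^ 81 = 1 := by
      intro k hk
      obtain ⟨m, hm⟩ := H7.pCore_isPGroup 3 K ⟨k, hk⟩
      have h1 : orderOf k ∣ 3 ^ m := orderOf_dvd_of_pow_eq_one (by
        simpa using congrArg Subtype.val hm)
      have h2 : orderOf k ∣ 8 * 81 := by
        have := orderOf_dvd_natCard k
        rwa [hK.card_eq] at this
      exact orderOf_dvd_iff_pow_eq_one.mp (Nat.Coprime.dvd_of_dvd_mul_left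
        (Nat.Coprime.coprime_dvd_left h1 (Nat.Coprime.pow_left _ (by norm_num))) h2)
    obtain ⟨p, hp⟩ := hK.exists_elt (c := nat_lit 36344906241) (by decide +kernel)
    have hp2 : p⁻¹ = p := by
      rw [inv_eq_iff_mul_eq_one, hK.eq_one_iff enc_one, hK.enc_mul', hp]
      decide +kernel
    have h1 := h81 k hk
    have h2 := h81 _ (mul_mem hk (mul_mem hk ((pCore_normal 3 K).conj_mem k hk p)))
    have e : ∀ x : K, x ^ 81 = (((x ^ 3) ^ 3) ^ 3) ^ 3 := fun x => by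
      rw [← pow_mul, ← pow_mul, ← pow_mul]
    rw [e, hK.pow_eq_one_iff enc_one] at h1 h2
    simp only [SubgroupClass.coe_pow, enc_pow (n := 9) (by norm_num) enc_one, hp2, hK.enc_mul',
      hp] at h1 h2
    have h3 := hK.forall_of_all (fun c => memb c LJ ||
      !Nat.beq (powc 9 one (powc 9 one (powc 9 one (powc 9 one c 3) 3) 3) 3) one ||
      !Nat.beq (powc 9 one (powc 9 one (powc 9 one (powc 9 one (mulc 9 c (mulc 9 c (mulc 9 (mulc 9
        (nat_lit 36344906241) c) (nat_lit 36344906241)))) 3) 3) 3) 3) one) (by decide +kernel) k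
    rw [Subgroup.mem_subgroupOf, hJ.mem_iff, ← memb_iff]
    simpa [h1, h2] using h3
  · rw [Nat.card_congr (Subgroup.subgroupOfEquivOfLe hJK).toEquiv, hJ.card_eq]
    rfl

theorem exists_rep (r : ℕ → K) (hr : ∀ s < 10, enc (r s : Perm (Fin 9)) = reps.getD s 0) (k : K)
    (h1 : k ≠ 1) (hk : (k : Perm (Fin 9)) ∈ J) : ∃ s < 3, ∃ w : K, w * k * w⁻¹ = r s := by
  have h2 : enc (k : Perm (Fin 9)) ∈ TJ.map Prod.fst := by
    rw [show TJ.map Prod.fst = LJ by decide +kernel]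
    exact hJ.mem _ hk
  obtain ⟨t, ht, e⟩ := List.mem_map.mp h2
  have h3 := (allB_iff (fun t : ℕ × ℕ × ℕ => Nat.beq t.1 one || (Nat.blt t.2.1 3 && memb t.2.2 L &&
    Nat.beq (mulc 9 t.2.2 t.1) (mulc 9 (reps.getD t.2.1 0) t.2.2))) TJ).mp (by decide +kernel) t ht
  rw [Ne, hK.eq_one_iff enc_one, ← e] at h1
  simp only [h1, Bool.or_eq_true, Bool.and_eq_true, Nat.blt_eq, false_or, Bool.false_eq_true] at h3
  obtain ⟨w, hw⟩ := hK.exists_elt h3.1.2
  refine ⟨t.2.1, h3.1.1, w, ?_⟩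
  rw [mul_inv_eq_iff_eq_mul, hK.conj_iff, hr _ (by omega), hw, ← e]
  exact h3.2

/-- Let K ≤ Sym(9) be generated by (1 2 3), (1 4 7)(2 5 8)(3 6 9), (1 2)(4 5) and (1 4)(2 5)(3 6)(7 8) (the normalizer in Alt(9) of the elementary abelian group generated by (1 2 3), (4 5 6), (7 8 9)). Let G be a finite group with a subgroup H ≅ K and J = O₃(H). If C_G(j) ≤ H for every j ≠ 1 in J and J is strongly closed in H with respect to G (a G-conjugate of an element of J lying in H lies in J), then G = H. -/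
theorem result {G : Type*} [Group G] [Finite G] (H : Subgroup G)
    (hH : Nonempty (↥H ≃* ↥(Subgroup.closure ({Equiv.swap (0 : Fin 9) 1 * Equiv.swap 1 2,
        Equiv.swap (0 : Fin 9) 3 * Equiv.swap 3 6 * (Equiv.swap (1 : Fin 9) 4 * Equiv.swap 4 7) * (Equiv.swap (2 : Fin 9) 5 * Equiv.swap 5 8),
        Equiv.swap (0 : Fin 9) 1 * Equiv.swap 3 4, Equiv.swap (0 : Fin 9) 3 * Equiv.swap 1 4 * Equiv.swap 2 5 * Equiv.swap 6 7} : Set (Equiv.Perm (Fin 9))))))
    (J : Subgroup G) (hJ : J = (Cfsg.pCore 3 ↥H).map H.subtype)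
    (hC : ∀ j ∈ J, j ≠ 1 → Subgroup.centralizer ({j} : Set G) ≤ H) (hsc : Cfsg.IsStronglyClosed J H) : H = ⊤ := by
  classical
  obtain ⟨e⟩ := hH
  let ι : K →* G := H.subtype.comp e.symm.toMonoidHom
  have hι : Function.Injective ι := H.subtype_injective.comp e.symm.injective
  have hr : ι.range = H := by
    ext g
    constructor
    · rintro ⟨k, rfl⟩
      exact (e.symm k).2
    · intro hg
      exact ⟨e ⟨g, hg⟩, by simp [ι]⟩
  have hJ' : ∀ k : K, ι k ∈ J ↔ (k : Perm (Fin 9)) ∈ S3702.J := by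
    intro k
    rw [← Subgroup.mem_subgroupOf, ← pCore_eq, hJ]
    constructor
    · rintro ⟨x, hx, hx'⟩
      have : (pCore 3 H).map e.toMonoidHom ≤ pCore 3 K :=
        H7.le_pCore ((pCore_normal 3 H).map _ e.surjective) ((H7.pCore_isPGroup 3 H).map _)
      refine this ⟨x, hx, ?_⟩
      have : x = e.symm k := Subtype.ext hx'
      simp [this]
    · intro hk
      have : (pCore 3 K).map e.symm.toMonoidHom ≤ pCore 3 H :=
        H7.le_pCore ((pCore_normal 3 K).map _ e.symm.surjective) ((H7.pCore_isPGroup 3 K).map _)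
      exact ⟨e.symm k, this ⟨k, hk, rfl⟩, rfl⟩
  rw [← hr] at hC hsc ⊢
  have := Fintype.ofFinite K
  obtain ⟨r, hr'⟩ := exists_reps hK reps 10 (by decide +kernel)
  have hC' : ∀ k : K, k ≠ 1 → (k : Perm (Fin 9)) ∈ S3702.J → ∀ g : G,
      g * ι k * g⁻¹ = ι k → g ∈ ι.range := by
    intro k h1 hk g hg
    refine hC _ ((hJ' k).mpr hk) (fun h => h1 (hι (by rw [h, map_one]))) ?_
    rw [Subgroup.mem_centralizer_singleton_iff, ← mul_inv_eq_iff_eq_mul, hg]
  refine main ι hι (fun k h1 hk g hg => ?_)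
  have h2 := hsc.2 _ ((hJ' k).mpr hk) g hg
  obtain ⟨k', hk'⟩ := hg
  rw [← hk', hJ'] at h2
  have h1' : k' ≠ 1 := by
    rintro rfl
    refine h1 (hι ?_)
    rw [map_one] at hk' ⊢
    simpa [mul_inv_eq_iff_eq_mul] using hk'.symm
  obtain ⟨s, hs, w, hw⟩ := exists_rep r hr' k h1 hk
  obtain ⟨s', hs', w', hw'⟩ := exists_rep r hr' k' h1' h2
  have hn : ∀ (k w : K), k ≠ 1 → (k : Perm (Fin 9)) ∈ S3702.J → w * k * w⁻¹ ≠ 1 ∧
      ((w * k * w⁻¹ : K) : Perm (Fin 9)) ∈ S3702.J := fun k w h1 hk =>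
    ⟨fun h => h1 (by simpa [mul_inv_eq_iff_eq_mul] using h), J_normal.conj_mem k hk w⟩
  have h3 := hn k w h1 hk
  have h4 := hn k' w' h1' h2
  rw [hw] at h3
  rw [hw'] at h4
  have h5 := card_cent_eq_of_isConj ι hι (hC' _ h3.1 h3.2) (hC' _ h4.1 h4.2)
    (isConj_iff.mpr ⟨ι w' * g * (ι w)⁻¹, by
      rw [← hw, ← hw']; simp only [map_mul, map_inv, hk']; group⟩)
  rw [@Lists.card_filter _ _ _ hK _ _ (_)
      (fun x => Nat.beq (mulc 9 x (reps.getD s 0)) (mulc 9 (reps.getD s 0) x))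
      (fun x => by rw [hK.conj_iff, hr' s (by omega)]), @Lists.card_filter _ _ _ hK _ _ (_)
      (fun x => Nat.beq (mulc 9 x (reps.getD s' 0)) (mulc 9 (reps.getD s' 0) x))
      (fun x => by rw [hK.conj_iff, hr' s' (by omega)])] at h5
  have h6 : s = s' := by
    have := (allLt_iff _ _).mp ((allLt_iff (fun s => allLt (fun s' => Nat.beq s s' || !Nat.beq
      (cntB (fun x => Nat.beq (mulc 9 x (reps.getD s 0)) (mulc 9 (reps.getD s 0) x)) L)
      (cntB (fun x => Nat.beq (mulc 9 x (reps.getD s' 0)) (mulc 9 (reps.getD s' 0) x)) L)) 3) 3).mp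
      (by decide +kernel) s hs) s' hs'
    simpa only [h5, Nat.beq_refl, Bool.not_true, Bool.or_false, Nat.beq_eq] using this
  subst h6
  have h7 := hC' k h1 hk ((ι w)⁻¹ * ι w' * g) (by
    have : ι k = (ι w)⁻¹ * (ι w' * ι k' * (ι w')⁻¹) * ι w := by
      rw [← map_inv ι w', ← map_mul, ← map_mul, hw', ← hw]; simp only [map_mul, map_inv]; group
    conv_rhs => rw [this, hk']
    group)
  have h8 := mul_mem (inv_mem (mul_mem (inv_mem (⟨w, rfl⟩ : ι w ∈ ι.range))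
    (⟨w', rfl⟩ : ι w' ∈ ι.range))) h7
  rwa [inv_mul_cancel_left] at h8

end Cfsg.Agent.S3702
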