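import Cfsg.Statements.S3412
import Cfsg.Agent.H4.CommGraph

set_option autoImplicit false
open Cfsg

namespace Cfsg.Agent.S3412

open Cfsg.Agent.H4 Matrix MatrixGroups

def mCM : ℕ := nat_lit 54043195931099139

def mRM : ℕ := nat_lit 787971

def mQM : ℕ := nat_lit 70974118568373532761615

def mOne : ℕ := nat_lit 4722366482938364690433

def mMul (a b : ℕ) : ℕ :=
  redM (nat_lit 3) (nat_lit 11) (nat_lit 5) mQM
    (Nat.add (Nat.mul (Nat.land (Nat.shiftRight a (nat_lit 18)) mCM) (Nat.land (Nat.shiftRight b (nat_lit 54)) mRM))
    (Nat.add (Nat.mul (Nat.land (Nat.shiftRight a (nat_lit 9)) mCM) (Nat.land (Nat.shiftRight b (nat_lit 27)) mRM))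
    (Nat.add (Nat.mul (Nat.land (Nat.shiftRight a (nat_lit 0)) mCM) (Nat.land (Nat.shiftRight b (nat_lit 0)) mRM))
    (nat_lit 0))))

theorem mPar : parChk 3 3 9 2 11 5 mCM mRM mQM = true := by decide +kernel

theorem mMul_eq (a b : ℕ) : mMul a b = redM 3 11 5 mQM (sumM 3 9 mCM mRM a b) := rfl

def g0_0 : ℕ := nat_lit 4722366482938364690945

def g0_1 : ℕ := nat_lit 9223372036989255680

def g1_0 : ℕ := nat_lit 4731589925343963643906

def g1_1 : ℕ := nat_lit 18446779395520856065

def g2_0 : ℕ := nat_lit 18446779395520856577

def g2_1 : ℕ := nat_lit 18446779258081902593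

noncomputable def T0 : Trie :=
    (.node (.node (.node (.node (.leaf (nat_lit 4722366482938364690433)) (.leaf (nat_lit
    4722384497336874172417))) (.node (.leaf (nat_lit 9223372036989255682)) (.leaf (nat_lit
    18049583150531073)))) (.node (.node (.leaf (nat_lit 9223372036989255681)) (.leaf (nat_lit
    4722402511735383654401))) (.leaf (nat_lit 18049583150006784)))) (.node (.node (.node (.leaf
    (nat_lit 9223372036989255680)) (.leaf (nat_lit 18049583150268930))) (.leaf (nat_lit
    18049583015789056))) (.node (.node (.leaf (nat_lit 18049582881571328)) (.leaf (nat_lit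
    18049583016313346))) (.leaf (nat_lit 18049583016051201)))))

noncomputable def C0 : Trie :=
    (.node (.node (.node (.node (.leaf (nat_lit 281479272071168)) (.leaf (nat_lit
    562988608323592))) (.node (.leaf (nat_lit 1688849860263937)) (.leaf (nat_lit
    15716127891243822609334278)))) (.node (.node (.leaf (nat_lit 1407374883553284)) (.leaf (nat_lit
    1125942856515594))) (.leaf (nat_lit 2814749767106569)))) (.node (.node (.node (.leaf (nat_lit
    844424930131970)) (.leaf (nat_lit 13298276252577514213343244))) (.leaf (nat_lit
    2251799813685255))) (.node (.node (.leaf (nat_lit 51539738627)) (.leaf (nat_lit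
    4835758622068437548007429))) (.leaf (nat_lit 15716312358121609751429131)))))

noncomputable def P0 : Trie :=
    (.node (.node (.node (.node (.leaf (nat_lit 0)) (.leaf (nat_lit 65541))) (.node (.leaf (nat_lit
    2)) (.leaf (nat_lit 9)))) (.node (.node (.leaf (nat_lit 1)) (.leaf (nat_lit 65542))) (.leaf
    (nat_lit 65540)))) (.node (.node (.node (.leaf (nat_lit 65536)) (.leaf (nat_lit 6))) (.leaf
    (nat_lit 65538))) (.node (.node (.leaf (nat_lit 65537)) (.leaf (nat_lit 7))) (.leaf (nat_lit
    5)))))

noncomputable def L0 : MLevel where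
  S := [g0_0, g0_1]
  T := T0
  m := nat_lit 13
  C := C0
  sh := nat_lit 48
  P := P0
  W :=
    [(g1_0, [], [g0_0, g0_1, g0_0, g0_1, g0_0, g0_1, g0_1, g0_0, g0_1, g0_1, g0_0, g0_1, g0_0,
    g0_0, g0_1, g0_0, g0_0]), (g1_1, [], [g0_0, g0_1, g0_0, g0_1, g0_0, g0_0, g0_1, g0_0, g0_0,
    g0_1, g0_0, g0_0, g0_1, g0_1, g0_0, g0_1, g0_0, g0_1])]

noncomputable def T1 : Trie :=
    (.node (.node (.node (.node (.node (.leaf (nat_lit 4722366482938364690433)) (.leaf (nat_lit
    4722366518191456518658))) (.leaf (nat_lit 9444733036245473559553))) (.node (.leaf (nat_lit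
    4740813297312099205634)) (.leaf (nat_lit 9444732965876729380865)))) (.node (.node (.leaf
    (nat_lit 18446779395520856065)) (.leaf (nat_lit 4722366553375828869122))) (.node (.leaf
    (nat_lit 9453956408144889644033)) (.leaf (nat_lit 4740813227080793719298))))) (.node (.node
    (.node (.node (.leaf (nat_lit 4731589925343963643906)) (.leaf (nat_lit
    9463179780250464158209))) (.leaf (nat_lit 18446779326801642497))) (.node (.leaf (nat_lit
    4731589890090872602626)) (.leaf (nat_lit 9463179709881719718914)))) (.node (.node (.leaf
    (nat_lit 18446779258081640449)) (.leaf (nat_lit 9444732965808009904642))) (.node (.leaf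
    (nat_lit 4740813262196446330882)) (.leaf (nat_lit 4731589854975219991553))))))

noncomputable def C1 : Trie :=
    (.node (.node (.node (.node (.node (.leaf (nat_lit 8589934593)) (.leaf (nat_lit
    3096254809309192))) (.leaf (nat_lit 64424509454))) (.node (.leaf (nat_lit 42949672969)) (.leaf
    (nat_lit 6192488143781898)))) (.node (.node (.leaf (nat_lit 25769803781)) (.leaf (nat_lit
    4294967298))) (.node (.leaf (nat_lit 1441803)) (.leaf (nat_lit 1970346312269830))))) (.node
    (.node (.node (.node (.leaf (nat_lit 17179869187)) (.leaf (nat_lit 1125951446712333))) (.leaf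
    (nat_lit 73014444048))) (.node (.leaf (nat_lit 47244902400)) (.leaf (nat_lit
    4785143324672017)))) (.node (.node (.leaf (nat_lit 34359738375)) (.leaf (nat_lit
    5066609711513615))) (.node (.leaf (nat_lit 55834574860)) (.leaf (nat_lit 12884901892))))))

noncomputable def P1 : Trie :=
    (.node (.node (.node (.node (.node (.leaf (nat_lit 0)) (.leaf (nat_lit 9))) (.leaf (nat_lit
    65539))) (.node (.leaf (nat_lit 65537)) (.leaf (nat_lit 7)))) (.node (.node (.leaf (nat_lit
    65536)) (.leaf (nat_lit 65540))) (.node (.leaf (nat_lit 65538)) (.leaf (nat_lit 8))))) (.node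
    (.node (.node (.node (.leaf (nat_lit 0)) (.leaf (nat_lit 65545))) (.leaf (nat_lit 4))) (.node
    (.leaf (nat_lit 2)) (.leaf (nat_lit 65543)))) (.node (.node (.leaf (nat_lit 1)) (.leaf (nat_lit
    65541))) (.node (.leaf (nat_lit 3)) (.leaf (nat_lit 65544))))))

noncomputable def L1 : MLevel where
  S := [g1_0, g1_1]
  T := T1
  m := nat_lit 18
  C := C1
  sh := nat_lit 32
  P := P1
  W :=
    [(g2_0, [], [g1_0, g1_0, g1_0, g1_1, g1_0, g1_0, g1_0, g1_1, g1_1]), (g2_1, [], [g1_0, g1_1,
    g1_0, g1_0, g1_0, g1_1, g1_0, g1_0, g1_0, g1_0])]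

noncomputable def T2 : Trie :=
    (.node (.node (.node (.node (.node (.leaf (nat_lit 4722366482938364690433)) (.leaf (nat_lit
    4740813227012074243073))) (.leaf (nat_lit 9223442543037906945))) (.node (.node (.leaf (nat_lit
    9453956337913584418817)) (.leaf (nat_lit 9453956373029236769281))) (.leaf (nat_lit
    9223442405598954497)))) (.node (.node (.node (.leaf (nat_lit 18446779258081902593)) (.leaf
    (nat_lit 4722366518122737303553))) (.leaf (nat_lit 4731589854975219466753))) (.node (.node
    (.leaf (nat_lit 9444732965876729644033)) (.leaf (nat_lit 9463179709950439195137))) (.leaf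
    (nat_lit 4740813262127727378433))))) (.node (.node (.node (.node (.leaf (nat_lit
    18446779395520856577)) (.leaf (nat_lit 18446779326801380353))) (.leaf (nat_lit
    9223442474318430721))) (.node (.node (.leaf (nat_lit 9444733036245474083841)) (.leaf (nat_lit
    9463179780250464158721))) (.leaf (nat_lit 4740813297449538159105)))) (.node (.node (.node
    (.leaf (nat_lit 9453956408144889906177)) (.leaf (nat_lit 9444733001061101470721))) (.leaf
    (nat_lit 4731589925275244430337))) (.node (.node (.leaf (nat_lit 4722366553307109130241))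
    (.leaf (nat_lit 9463179744997372067841))) (.leaf (nat_lit 4731589890228311556097))))))

noncomputable def C2 : Trie :=
    (.node (.node (.node (.node (.node (.leaf (nat_lit 131073)) (.leaf (nat_lit 65553))) (.leaf
    (nat_lit 655375))) (.node (.node (.leaf (nat_lit 589832)) (.leaf (nat_lit 1376279))) (.leaf
    (nat_lit 18)))) (.node (.node (.node (.leaf (nat_lit 393221)) (.leaf (nat_lit 1507350))) (.leaf
    (nat_lit 1114114))) (.node (.node (.leaf (nat_lit 786441)) (.leaf (nat_lit 524300))) (.leaf
    (nat_lit 1245190))))) (.node (.node (.node (.node (.leaf (nat_lit 262147)) (.leaf (nat_lit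
    1441813))) (.leaf (nat_lit 1048590))) (.node (.node (.leaf (nat_lit 720906)) (.leaf (nat_lit
    851984))) (.leaf (nat_lit 983051)))) (.node (.node (.node (.leaf (nat_lit 458752)) (.leaf
    (nat_lit 196628))) (.leaf (nat_lit 1179655))) (.node (.node (.leaf (nat_lit 917517)) (.leaf
    (nat_lit 327699))) (.leaf (nat_lit 1310724))))))

noncomputable def P2 : Trie :=
    (.node (.node (.node (.node (.node (.leaf (nat_lit 0)) (.leaf (nat_lit 65545))) (.leaf (nat_lit
    4))) (.node (.node (.leaf (nat_lit 65537)) (.leaf (nat_lit 65551))) (.leaf (nat_lit 65542))))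
    (.node (.node (.node (.leaf (nat_lit 65536)) (.leaf (nat_lit 65547))) (.leaf (nat_lit 5)))
    (.node (.node (.leaf (nat_lit 65538)) (.leaf (nat_lit 65553))) (.leaf (nat_lit 65543)))))
    (.node (.node (.node (.node (.leaf (nat_lit 0)) (.leaf (nat_lit 65546))) (.leaf (nat_lit
    65540))) (.node (.node (.leaf (nat_lit 2)) (.leaf (nat_lit 17))) (.leaf (nat_lit 7)))) (.node
    (.node (.node (.leaf (nat_lit 1)) (.leaf (nat_lit 65550))) (.leaf (nat_lit 65541))) (.node
    (.node (.leaf (nat_lit 65539)) (.leaf (nat_lit 65554))) (.leaf (nat_lit 8))))))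

noncomputable def L2 : MLevel where
  S := [g2_0, g2_1]
  T := T2
  m := nat_lit 24
  C := C2
  sh := nat_lit 16
  P := P2
  W :=
    []

noncomputable def PT : Trie :=
    (.node (.node (.node (.node (.node (.node (.node (.leaf (nat_lit 4731607904558369997312))
    (.leaf (nat_lit 9444732965876729906177))) (.node (.leaf (nat_lit 9444732965739424645632))
    (.leaf (nat_lit 9259400971313218560)))) (.node (.node (.leaf (nat_lit 9444733000992382256130))
    (.leaf (nat_lit 18482843239606910978))) (.node (.leaf (nat_lit 9223407221227389954)) (.leaf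
    (nat_lit 18446814442453992450))))) (.node (.node (.node (.leaf (nat_lit
    9444750980275238862849)) (.leaf (nat_lit 9444750980275507298305))) (.node (.leaf (nat_lit
    4740849290924880561153)) (.leaf (nat_lit 9463179709881719455746)))) (.node (.node (.leaf
    (nat_lit 4722402511804103131138)) (.leaf (nat_lit 9453992366642017861634))) (.leaf (nat_lit
    4722366518191456780290))))) (.node (.node (.node (.node (.leaf (nat_lit 18464793725445341697))
    (.leaf (nat_lit 18084904961310720))) (.node (.leaf (nat_lit 4722366518191456518146)) (.leaf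
    (nat_lit 18482773008167993856)))) (.node (.node (.leaf (nat_lit 9444733000923796996608)) (.leaf
    (nat_lit 9453956337844864680962))) (.node (.leaf (nat_lit 9444733000992516210690)) (.leaf
    (nat_lit 18446814442453729282))))) (.node (.node (.node (.leaf (nat_lit 9241386572803473920))
    (.leaf (nat_lit 4740849326178106081792))) (.node (.leaf (nat_lit 4731607869442448424962))
    (.leaf (nat_lit 9444732965876997816321)))) (.node (.node (.leaf (nat_lit
    9444732965876729381377)) (.leaf (nat_lit 4722366553375828606978))) (.leaf (nat_lit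
    9444732965876729644033)))))) (.node (.node (.node (.node (.node (.leaf (nat_lit
    4740831276526505034241)) (.leaf (nat_lit 4731589855043939467778))) (.node (.leaf (nat_lit
    9444732965808009905154)) (.leaf (nat_lit 9444733036245742518273)))) (.node (.node (.leaf
    (nat_lit 9453974352174788903424)) (.leaf (nat_lit 9444733036177022517250))) (.node (.leaf
    (nat_lit 9444732965876863598593)) (.leaf (nat_lit 9444732965739558863872))))) (.node (.node
    (.node (.leaf (nat_lit 9444733000992381992962)) (.leaf (nat_lit 4722366553375828869122)))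
    (.node (.leaf (nat_lit 4740831311779462644736)) (.leaf (nat_lit 9463179709881719456770))))
    (.node (.node (.leaf (nat_lit 4722384567774472044546)) (.leaf (nat_lit
    9463197724211777897472))) (.leaf (nat_lit 9463215738747457897473))))) (.node (.node (.node
    (.node (.leaf (nat_lit 9444733000992382517762)) (.leaf (nat_lit 9259436018514264066))) (.node
    (.leaf (nat_lit 4731625883840957906946)) (.leaf (nat_lit 4731589855043939206146)))) (.node
    (.node (.leaf (nat_lit 4722366518191456256002)) (.leaf (nat_lit 18464828841231646722))) (.leaf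
    (nat_lit 4722366553375828344834)))) (.node (.node (.node (.leaf (nat_lit
    9444733036176754081794)) (.leaf (nat_lit 9444732965876729643009))) (.node (.leaf (nat_lit
    9463197724280363155458)) (.leaf (nat_lit 9463215738679006855170)))) (.node (.node (.leaf
    (nat_lit 9223407221227127298)) (.leaf (nat_lit 36064119098966016))) (.leaf (nat_lit
    9259471271471874561))))))) (.node (.node (.node (.node (.node (.node (.leaf (nat_lit
    4722384532590234173442)) (.leaf (nat_lit 9444733000992650428418))) (.node (.leaf (nat_lit
    9444733001061236211713)) (.leaf (nat_lit 9444732965808278339586)))) (.node (.node (.leaf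
    (nat_lit 4722384497405593649154)) (.leaf (nat_lit 9444732965876729905153))) (.node (.leaf
    (nat_lit 9444733036108169347584)) (.leaf (nat_lit 4722366483007084691458))))) (.node (.node
    (.node (.leaf (nat_lit 9444733036176754344450)) (.leaf (nat_lit 4740813227080793981442)))
    (.node (.leaf (nat_lit 4731607939673888130049)) (.leaf (nat_lit 9453992366573432603648))))
    (.node (.node (.leaf (nat_lit 4731625918956744999936)) (.leaf (nat_lit
    4731589855043938942978))) (.leaf (nat_lit 4731625954072532091393))))) (.node (.node (.node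
    (.node (.leaf (nat_lit 9453974352312093639681)) (.leaf (nat_lit 9444733036245608038401)))
    (.node (.leaf (nat_lit 4722402582173115744258)) (.leaf (nat_lit 9444768994673882562561))))
    (.node (.node (.leaf (nat_lit 9444732965808009904130)) (.leaf (nat_lit
    4722366483007084429314))) (.leaf (nat_lit 9453974352243642597378)))) (.node (.node (.node
    (.leaf (nat_lit 9444732965808009904642)) (.leaf (nat_lit 18482808124088779777))) (.node (.leaf
    (nat_lit 9444732965876729905665)) (.leaf (nat_lit 4740813227080793718786)))) (.node (.node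
    (.leaf (nat_lit 9444750980275373080577)) (.leaf (nat_lit 9444768994674016780289))) (.leaf
    (nat_lit 9241456873096872961)))))) (.node (.node (.node (.node (.node (.leaf (nat_lit
    9463197724348948414977)) (.leaf (nat_lit 9453956337844864679938))) (.node (.leaf (nat_lit
    4722366483007084167170)) (.leaf (nat_lit 9444733000923931476992)))) (.node (.node (.leaf
    (nat_lit 18014535948697600)) (.leaf (nat_lit 9444733001061370167297))) (.node (.leaf (nat_lit
    9223407221226864642)) (.leaf (nat_lit 4740813227080794244098))))) (.node (.node (.node (.leaf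
    (nat_lit 18049720455004160)) (.leaf (nat_lit 9444768994673748344833))) (.node (.leaf (nat_lit
    9453992366710603121153)) (.leaf (nat_lit 9444733036108303303680)))) (.node (.node (.leaf
    (nat_lit 4740831241479303200770)) (.leaf (nat_lit 9463179709881719456258))) (.leaf (nat_lit
    4740849255877812682754))))) (.node (.node (.node (.node (.leaf (nat_lit 9241421619870564354))
    (.leaf (nat_lit 9444732965808144121858))) (.node (.leaf (nat_lit 9444732965876729381889))
    (.leaf (nat_lit 18446814442454254082)))) (.node (.node (.leaf (nat_lit 9444733036176754607106))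
    (.leaf (nat_lit 9463215738610153161216))) (.leaf (nat_lit 9444732965876729380865)))) (.node
    (.node (.node (.leaf (nat_lit 4722402546988609437698)) (.leaf (nat_lit
    9444733036176888299522))) (.node (.leaf (nat_lit 9453956337844864680450)) (.leaf (nat_lit
    36028934458441728)))) (.node (.node (.leaf (nat_lit 18464758609658250240)) (.leaf (nat_lit
    36099303336837120))) (.leaf (nat_lit 9444732965876729643521))))))))

noncomputable def QT : Trie :=
    (.node (.node (.node (.node (.node (.node (.node (.leaf (nat_lit 0)) (.leaf (nat_lit 45)))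
    (.node (.leaf (nat_lit 19)) (.leaf (nat_lit 80)))) (.node (.node (.leaf (nat_lit 10)) (.leaf
    (nat_lit 62))) (.node (.leaf (nat_lit 30)) (.leaf (nat_lit 103))))) (.node (.node (.node (.leaf
    (nat_lit 5)) (.leaf (nat_lit 53))) (.node (.leaf (nat_lit 25)) (.leaf (nat_lit 91)))) (.node
    (.node (.leaf (nat_lit 14)) (.leaf (nat_lit 69))) (.leaf (nat_lit 36))))) (.node (.node (.node
    (.node (.leaf (nat_lit 2)) (.leaf (nat_lit 48))) (.node (.leaf (nat_lit 22)) (.leaf (nat_lit
    86)))) (.node (.node (.leaf (nat_lit 12)) (.leaf (nat_lit 67))) (.node (.leaf (nat_lit 33))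
    (.leaf (nat_lit 112))))) (.node (.node (.node (.leaf (nat_lit 7)) (.leaf (nat_lit 57))) (.node
    (.leaf (nat_lit 27)) (.leaf (nat_lit 97)))) (.node (.node (.leaf (nat_lit 17)) (.leaf (nat_lit
    74))) (.leaf (nat_lit 38)))))) (.node (.node (.node (.node (.node (.leaf (nat_lit 0)) (.leaf
    (nat_lit 46))) (.node (.leaf (nat_lit 21)) (.leaf (nat_lit 82)))) (.node (.node (.leaf (nat_lit
    11)) (.leaf (nat_lit 64))) (.node (.leaf (nat_lit 32)) (.leaf (nat_lit 108))))) (.node (.node
    (.node (.leaf (nat_lit 6)) (.leaf (nat_lit 54))) (.node (.leaf (nat_lit 26)) (.leaf (nat_lit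
    93)))) (.node (.node (.leaf (nat_lit 16)) (.leaf (nat_lit 72))) (.leaf (nat_lit 37))))) (.node
    (.node (.node (.node (.leaf (nat_lit 3)) (.leaf (nat_lit 49))) (.node (.leaf (nat_lit 24))
    (.leaf (nat_lit 88)))) (.node (.node (.leaf (nat_lit 13)) (.leaf (nat_lit 68))) (.leaf (nat_lit
    34)))) (.node (.node (.node (.leaf (nat_lit 9)) (.leaf (nat_lit 60))) (.node (.leaf (nat_lit
    29)) (.leaf (nat_lit 98)))) (.node (.node (.leaf (nat_lit 18)) (.leaf (nat_lit 77))) (.leaf
    (nat_lit 41))))))) (.node (.node (.node (.node (.node (.node (.leaf (nat_lit 0)) (.leaf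
    (nat_lit 45))) (.node (.leaf (nat_lit 20)) (.leaf (nat_lit 81)))) (.node (.node (.leaf (nat_lit
    10)) (.leaf (nat_lit 64))) (.node (.leaf (nat_lit 31)) (.leaf (nat_lit 104))))) (.node (.node
    (.node (.leaf (nat_lit 5)) (.leaf (nat_lit 53))) (.node (.leaf (nat_lit 25)) (.leaf (nat_lit
    93)))) (.node (.node (.leaf (nat_lit 15)) (.leaf (nat_lit 71))) (.leaf (nat_lit 37))))) (.node
    (.node (.node (.node (.leaf (nat_lit 3)) (.leaf (nat_lit 49))) (.node (.leaf (nat_lit 23))
    (.leaf (nat_lit 87)))) (.node (.node (.leaf (nat_lit 13)) (.leaf (nat_lit 67))) (.leaf (nat_lit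
    33)))) (.node (.node (.node (.leaf (nat_lit 8)) (.leaf (nat_lit 57))) (.node (.leaf (nat_lit
    27)) (.leaf (nat_lit 97)))) (.node (.node (.leaf (nat_lit 18)) (.leaf (nat_lit 74))) (.leaf
    (nat_lit 40)))))) (.node (.node (.node (.node (.node (.leaf (nat_lit 1)) (.leaf (nat_lit 47)))
    (.node (.leaf (nat_lit 21)) (.leaf (nat_lit 83)))) (.node (.node (.leaf (nat_lit 12)) (.leaf
    (nat_lit 65))) (.node (.leaf (nat_lit 32)) (.leaf (nat_lit 110))))) (.node (.node (.node (.leaf
    (nat_lit 7)) (.leaf (nat_lit 54))) (.node (.leaf (nat_lit 26)) (.leaf (nat_lit 96)))) (.node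
    (.node (.leaf (nat_lit 17)) (.leaf (nat_lit 72))) (.leaf (nat_lit 38))))) (.node (.node (.node
    (.node (.leaf (nat_lit 4)) (.leaf (nat_lit 50))) (.node (.leaf (nat_lit 24)) (.leaf (nat_lit
    90)))) (.node (.node (.leaf (nat_lit 14)) (.leaf (nat_lit 68))) (.leaf (nat_lit 35)))) (.node
    (.node (.node (.leaf (nat_lit 9)) (.leaf (nat_lit 60))) (.node (.leaf (nat_lit 29)) (.leaf
    (nat_lit 100)))) (.node (.node (.leaf (nat_lit 19)) (.leaf (nat_lit 80))) (.leaf (nat_lit
    44))))))))

noncomputable def adj : Trie :=
    (.node (.node (.node (.node (.node (.node (.node (.leaf (nat_lit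
    42998748128565893927902040779915777)) (.leaf (nat_lit 83162950016086888103051733011276352)))
    (.node (.leaf (nat_lit 20972651545176142443707506809110544)) (.leaf (nat_lit
    398694139607785463308027990032)))) (.node (.node (.leaf (nat_lit
    40569770987539925532764962619408)) (.leaf (nat_lit 41539008694831345161746601312522884)))
    (.node (.leaf (nat_lit 88279187957054561062384662556475396)) (.leaf (nat_lit
    6490390880511394703335374226456592))))) (.node (.node (.node (.leaf (nat_lit
    20282491810755559136085074280832)) (.leaf (nat_lit 649037418017909540078360027250688))) (.node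
    (.leaf (nat_lit 2758407783477914814892679268401698)) (.leaf (nat_lit
    26621281612666367964175426126080)))) (.node (.node (.leaf (nat_lit
    40725925504812014514537569976616)) (.leaf (nat_lit 973565873985329533527766405742596))) (.leaf
    (nat_lit 162417743128470276294746591740416))))) (.node (.node (.node (.node (.leaf (nat_lit
    6495837816383499126169131869601840)) (.leaf (nat_lit 2596366461466572837522158053769264)))
    (.node (.leaf (nat_lit 20769504349209618440915732230324736)) (.leaf (nat_lit
    183809356375908682894246184235136)))) (.node (.node (.leaf (nat_lit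
    20932160189991930370952439427760136)) (.leaf (nat_lit 42188679647965813350188736984907784)))
    (.node (.leaf (nat_lit 2923519245133682084267847789314304)) (.leaf (nat_lit
    83076759640154322503559354226049152))))) (.node (.node (.node (.leaf (nat_lit
    2679258773105656521234680018644994)) (.leaf (nat_lit 83082533392496341225869790190798944)))
    (.node (.leaf (nat_lit 22087544232504488703984017696890880)) (.leaf (nat_lit
    324518941122693710722635004903424)))) (.node (.node (.leaf (nat_lit
    740308588865008192929879107371008)) (.leaf (nat_lit 1114149057680614656581644125248))) (.leaf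
    (nat_lit 51953392219096641864939017452134976)))))) (.node (.node (.node (.node (.node (.leaf
    (nat_lit 41579256910829917068257357266976772)) (.leaf (nat_lit
    101434331393577426217321229189120))) (.node (.leaf (nat_lit
    10384672983917804972483066080526344)) (.leaf (nat_lit 40965951072482129277513199779868))))
    (.node (.node (.leaf (nat_lit 26002070775908277713653311727861824)) (.leaf (nat_lit
    2596158376328537366301843434539266))) (.node (.leaf (nat_lit
    1298232677003402031994980987306112)) (.leaf (nat_lit 20769187589051823501062237939040256)))))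
    (.node (.node (.node (.leaf (nat_lit 34665060072604755424970804224)) (.leaf (nat_lit
    20769187448970511196128538795246656))) (.node (.leaf (nat_lit
    83117334682037221992397739580788738)) (.leaf (nat_lit 2682349289355277321350735938588680))))
    (.node (.node (.leaf (nat_lit 5194842063444603858773706912302081)) (.leaf (nat_lit
    649078123752061482820419837100032))) (.leaf (nat_lit 656108221416447432978652602369))))) (.node
    (.node (.node (.node (.leaf (nat_lit 1298079166639446723445670835126464)) (.leaf (nat_lit
    83401268368834880369247114716315664))) (.node (.leaf (nat_lit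
    1645411717036281048734398244978984)) (.leaf (nat_lit 106485128792677934336029136783504))))
    (.node (.node (.leaf (nat_lit 325152384398734737020543162139136)) (.leaf (nat_lit
    327133160403279843785384616001920))) (.leaf (nat_lit 486777830487678196855215445050432))))
    (.node (.node (.node (.leaf (nat_lit 2574918006814307579214600126466)) (.leaf (nat_lit
    57196395082618905375541011941442560))) (.node (.leaf (nat_lit
    334670281106424726428538451853312)) (.leaf (nat_lit 6655166270168224001693795808706641))))
    (.node (.node (.leaf (nat_lit 88279228961702453966616392688992258)) (.leaf (nat_lit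
    5192475122505321467899663207894016))) (.leaf (nat_lit
    41538394762361913515786744859983890))))))) (.node (.node (.node (.node (.node (.node (.leaf
    (nat_lit 41540920078477341501909468740341762)) (.leaf (nat_lit
    10384633331194040896014635594416128))) (.node (.leaf (nat_lit 1431257024845379456315328299040))
    (.leaf (nat_lit 2718516327156211982753983496192)))) (.node (.node (.leaf (nat_lit
    83834537440585641080745311469568)) (.leaf (nat_lit 15219295298710179078351557248000))) (.node
    (.leaf (nat_lit 31316674253339473859552605949132804)) (.leaf (nat_lit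
    10385227552948507859544761010495488))))) (.node (.node (.node (.leaf (nat_lit
    155951452716862262350971393)) (.leaf (nat_lit 99141825415987204974477312))) (.node (.leaf
    (nat_lit 1308849399479406434547613875830852)) (.leaf (nat_lit
    51023710371710786777316608772100)))) (.node (.node (.leaf (nat_lit
    1585801200064455888320413564937)) (.leaf (nat_lit 1440064080229681132692857606635520))) (.leaf
    (nat_lit 7793517137814600346885696003309704))))) (.node (.node (.node (.node (.leaf (nat_lit
    162261752785145522386094272815152)) (.leaf (nat_lit 10384752178401019807165579499147265)))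
    (.node (.leaf (nat_lit 16479457807726246696410865992976)) (.leaf (nat_lit
    1949805156847297819276257439924226)))) (.node (.node (.leaf (nat_lit
    12980742187780557361019078616678656)) (.leaf (nat_lit 162576235418470017380744306892800)))
    (.leaf (nat_lit 652206233892987089358413174407680)))) (.node (.node (.node (.leaf (nat_lit
    10385861406355530178505506025386016)) (.leaf (nat_lit 20779368253174175597663412023201984)))
    (.node (.leaf (nat_lit 5217649909234463269694034684215296)) (.leaf (nat_lit
    651574130032547029213993337094144)))) (.node (.node (.leaf (nat_lit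
    84374983027091640645421259267539968)) (.leaf (nat_lit 83076760573370650841796419271132290)))
    (.leaf (nat_lit 20770455395594037150743766734244360)))))) (.node (.node (.node (.node (.node
    (.leaf (nat_lit 81446570407479879299471678375944)) (.leaf (nat_lit
    42187491203805388267534822368350464))) (.node (.leaf (nat_lit
    21093864444125126989977066034700288)) (.leaf (nat_lit 10385232495414410494426112788008960))))
    (.node (.node (.leaf (nat_lit 2597557224979433494149811195609092)) (.leaf (nat_lit
    10384594965306819490714125401587712))) (.node (.leaf (nat_lit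
    88281723179679253811704456475049985)) (.leaf (nat_lit 41538414503214011110838007723196423)))))
    (.node (.node (.node (.leaf (nat_lit 2651984481712966237453173322157064)) (.leaf (nat_lit
    20282411456184390787895071473666))) (.node (.leaf (nat_lit 81169281661199212661268210122756))
    (.leaf (nat_lit 1461601180748774818229878694871201)))) (.node (.node (.leaf (nat_lit
    365086158268745262798609529700352)) (.leaf (nat_lit 5152927831460333202783706021920))) (.leaf
    (nat_lit 20850327285559389460751483381489960))))) (.node (.node (.node (.node (.leaf (nat_lit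
    83245357248639204997573014972268992)) (.leaf (nat_lit 324884993607434771917445703796736)))
    (.node (.leaf (nat_lit 5841342012461936509548985833235008)) (.leaf (nat_lit
    50706026578097698268441070274560)))) (.node (.node (.leaf (nat_lit
    1624796315469212513531330564)) (.leaf (nat_lit 21458790753346306652795455267668481))) (.leaf
    (nat_lit 83746069872447914453415957394113536)))) (.node (.node (.node (.leaf (nat_lit
    79233692407721902432816513284)) (.leaf (nat_lit 10709453952492573147387326525636610))) (.node
    (.leaf (nat_lit 44783560405174564772352052217118752)) (.leaf (nat_lit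
    2677278072518019071085360074725376)))) (.node (.node (.leaf (nat_lit
    2617777727306399739355761735630849)) (.leaf (nat_lit 41538415720453726397888429713541121)))
    (.leaf (nat_lit 134999725749545984638656967493091328))))))))

def LW : List (List ℕ) :=
    [[], [0], [0, 0], [0, 0, 1, 0, 0, 1, 1, 0, 1, 0, 1, 1], [0, 0, 1, 0, 1, 1, 0, 1, 0, 0, 1, 1],
    [1, 0, 0, 1, 0, 0, 1, 1, 0, 1, 0, 1], [1, 0, 0, 1, 0, 1, 1, 0, 1, 0, 0, 1], [1, 0, 1, 1], [1,
    0, 0, 1, 1], [1, 1, 0, 1], [1, 1, 0, 0, 1], [0, 0, 1, 1, 0, 1, 0, 1, 1, 0, 0, 1], [0, 0, 1, 1,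
    0, 0, 1, 0, 1, 1, 0, 1], [1, 0, 0, 1, 0, 1, 0, 1, 0, 1, 0, 0, 1, 1, 0, 1, 1, 0, 1, 0], [0, 1,
    0, 1, 0, 1, 0, 0, 1, 1, 0, 1, 1, 0, 1, 0, 1, 0, 0, 1], [0, 0, 1, 0, 1, 0, 1, 0, 1, 0, 0, 1, 1,
    0, 1, 1, 0, 1, 0, 1]]

theorem card_SL {n : ℕ} [NeZero n] {F : Type*} [Field F] [Finite F] :
    Nat.card SL(n, F) * Nat.card Fˣ = Nat.card (GL (Fin n) F) := by
  have h1 : (GeneralLinearGroup.det : GL (Fin n) F →* Fˣ).ker =
      (SpecialLinearGroup.toGL : SL(n, F) →* GL (Fin n) F).range := by
    ext g
    constructor
    · intro hg
      exact ⟨⟨g, congrArg Units.val hg⟩, Units.ext rfl⟩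
    · rintro ⟨g, rfl⟩
      exact SpecialLinearGroup.coeToGL_det g
  rw [← (GeneralLinearGroup.det : GL (Fin n) F →* Fˣ).ker.card_mul_index, Subgroup.index_ker,
    MonoidHom.range_eq_top.mpr GeneralLinearGroup.det_surjective, Subgroup.card_top, h1,
    Nat.card_congr (MonoidHom.ofInjective SpecialLinearGroup.toGL_injective).toEquiv]

theorem center_eq : Subgroup.center SL(3, ZMod 3) = ⊥ := by
  rw [eq_bot_iff]
  intro A hA
  obtain ⟨r, hr, e⟩ := Matrix.SpecialLinearGroup.mem_center_iff.mp hA
  have : ∀ r : ZMod 3, r ^ Fintype.card (Fin 3) = 1 → r = 1 := by decide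
  rw [this r hr, map_one] at e
  exact Subtype.ext e.symm

theorem card_L : Nat.card PSL(3, ZMod 3) = 117 * 48 := by
  have h1 := card_SL (n := 3) (F := ZMod 3)
  rw [card_GL_field, Nat.card_units, Nat.card_zmod, ZMod.card] at h1
  have h2 := Subgroup.card_eq_card_quotient_mul_card_subgroup (Subgroup.center SL(3, ZMod 3))
  rw [show Nat.card (Subgroup.center SL(3, ZMod 3)) = 1 by rw [center_eq, Subgroup.card_bot]] at h2
  simp only [Fin.prod_univ_three, Fin.val_zero, Fin.val_one, Fin.val_two] at h1
  show Nat.card (SL(3, ZMod 3) ⧸ Subgroup.center SL(3, ZMod 3)) = _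
  omega

/-- The matrix of an element. -/
noncomputable def io : PSL(3, ZMod 3) →* Matrix (Fin 3) (Fin 3) (ZMod 3) :=
  QuotientGroup.lift _ SpecialLinearGroup.coeMonoidHom (by rw [center_eq]; exact bot_le)

theorem io_inj : Function.Injective io := by
  intro a b h
  obtain ⟨a, rfl⟩ := QuotientGroup.mk_surjective a
  obtain ⟨b, rfl⟩ := QuotientGroup.mk_surjective b
  rw [show a = b from Subtype.ext h]

/-- The coding. -/
noncomputable def K : Coding PSL(3, ZMod 3) (Matrix (Fin 3) (Fin 3) (ZMod 3)) where
  ι := io
  inj := io_inj
  dec := decM 3 3 9 2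
  mul := mMul
  dec_mul a b := by rw [mMul_eq]; exact decM_mul mPar a b

theorem K_canon : K.Canon := fun _ _ _ _ h => decM_mul_inj mPar (by decide +kernel) h

theorem R_one : K.R mOne 1 := by
  show decM 3 3 9 2 mOne = io 1
  rw [map_one]
  decide +kernel

/-- A generator. -/
def ga : SL(3, ZMod 3) := ⟨!![1, 1, 0; 0, 1, 0; 0, 0, 1], by decide +kernel⟩

/-- A generator. -/
def gb : SL(3, ZMod 3) := ⟨!![0, 0, 1; 1, 0, 0; 0, 1, 0], by decide +kernel⟩

theorem hF : List.Forall₂ K.R L0.S [(ga : PSL(3, ZMod 3)), (gb : PSL(3, ZMod 3))] :=
  .cons (show decM 3 3 9 2 g0_0 = ga.1 by decide +kernel)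
    (.cons (show decM 3 3 9 2 g0_1 = gb.1 by decide +kernel) .nil)

/-- The code of a word in the generators. -/
noncomputable def wd (l : List ℕ) : ℕ := mword mMul (l.map fun i => L0.S.getD i mOne) mOne

theorem wd_In (l : List ℕ) : K.In (K.Gr L0.S) (wd l) := by
  refine Coding.mword_In (fun c hc => ?_) R_one
  obtain ⟨i, -, rfl⟩ := List.mem_map.mp hc
  by_cases hi : i < L0.S.length
  · rw [List.getD_eq_getElem _ _ hi]
    exact Coding.In_Gr (List.getElem_mem hi) (Coding.In_top_of_forall₂ hF _ (List.getElem_mem hi))
  · rw [List.getD_eq_default _ _ (not_lt.mp hi)]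
    exact ⟨1, Subgroup.one_mem _, R_one⟩

theorem mem_Gr (g : PSL(3, ZMod 3)) : g ∈ K.Gr L0.S := by
  obtain ⟨g, rfl⟩ := QuotientGroup.mk_surjective g
  have key : ∀ l, ∃ x ∈ K.Gr L0.S, io x = decM 3 3 9 2 (wd l) := fun l => by
    obtain ⟨x, hx, e⟩ := wd_In l
    exact ⟨x, hx, e.symm⟩
  obtain ⟨x, hx, e⟩ := diagonal_transvection_induction (fun M => ∃ x ∈ K.Gr L0.S, io x = M) g.1
    (fun D hD => by
      have : ∀ D : Fin 3 → ZMod 3, D 0 * D 1 * D 2 = 1 →
        ∃ l ∈ LW, decM 3 3 9 2 (wd l) = diagonal D := by decide +kernel
      obtain ⟨l, -, e⟩ := this D (by rw [g.2, det_diagonal, Fin.prod_univ_three] at hD; exact hD)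
      exact e ▸ key l)
    (fun t => by
      have : ∀ (i j : Fin 3) (c : ZMod 3), i ≠ j →
        ∃ l ∈ LW, decM 3 3 9 2 (wd l) = transvection i j c := by decide +kernel
      obtain ⟨l, -, e⟩ := this t.i t.j t.c t.hij
      rw [TransvectionStruct.toMatrix, ← e]
      exact key l)
    (by
      rintro _ _ ⟨x, hx, rfl⟩ ⟨y, hy, rfl⟩
      exact ⟨x * y, mul_mem hx hy, map_mul _ _ _⟩)
  rwa [← io_inj (show io x = io g from e)]

theorem ms : MSOK mMul mOne [L0, L1, L2] := MSOK_of_msChk (by decide +kernel)

theorem en : menum mMul (invChk mMul mOne PT 117 (PT.get 9) (PT.get 25) (PT.get 0)) [L0, L1, L2]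
    mOne = true := by decide +kernel

theorem tree : allB (treeChk mMul mOne L0.S PT QT) 117 = true := by decide +kernel

theorem adjc : allB (adjChk mMul PT adj) 117 = true := by decide +kernel

theorem ref : RefOK 24 16777216 16777213 117 adj 3 [(0, 0, 117), (9, 1, 12), (6, 2, 8)] [] :=
  ⟨by decide, by decide +kernel, by decide, by decide +kernel, by decide, by decide +kernel,
    refOK_nil (by decide +kernel)⟩

theorem hsq (N : Subgroup PSL(3, ZMod 3)) (h : ∀ y, y * y ∈ N) : N = ⊤ := by
  rw [eq_top_iff]
  intro g _
  have := mem_Gr g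
  rw [Coding.Gr_eq_closure hF] at this
  refine (Subgroup.closure_le N).mpr (fun x hx => ?_) this
  simp only [List.mem_cons, List.not_mem_nil, or_false, Set.mem_ofPred_eq] at hx
  rcases hx with rfl | rfl
  · rw [show ga = (ga * ga) * (ga * ga) from Subtype.ext (by decide +kernel)]
    exact h ((ga * ga : SL(3, ZMod 3)) : PSL(3, ZMod 3))
  · rw [show gb = (gb * gb) * (gb * gb) from Subtype.ext (by decide +kernel)]
    exact h ((gb * gb : SL(3, ZMod 3)) : PSL(3, ZMod 3))

/-- Let H be a finite group whose commuting graph (vertices the non-identity elements, two joined when they commute) is isomorphic to that of PSL_3(3): there is a bijection between the non-identity elements of H and of PSL_3(3) under which two elements commute exactly when their images do. Then H ≅ PSL_3(3). -/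
theorem result {H : Type*} [Group H] [Finite H]
    (f : {h : H // h ≠ 1} ≃ {g : Matrix.ProjectiveSpecialLinearGroup (Fin 3) (ZMod 3) // g ≠ 1})
    (hf : ∀ x y : {h : H // h ≠ 1}, (x : H) * y = y * x ↔ ((f x) : Matrix.ProjectiveSpecialLinearGroup (Fin 3) (ZMod 3)) * (f y) = (f y) * (f x)) :
    Nonempty (H ≃* Matrix.ProjectiveSpecialLinearGroup (Fin 3) (ZMod 3)) := by
  refine iso_of_commGraph K_canon R_one (by decide +kernel) (Coding.In_top_of_forall₂ hF)
    (by
      rw [show PT.get 0 = wd [0, 1, 0, 1, 0, 1, 0, 1] by decide +kernel]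
      exact (wd_In _).mono le_top) tree adjc (ia := 9) (ib := 25) (ic := 1) (by norm_num)
    (by norm_num) (by norm_num) (by norm_num) (by decide +kernel) (by decide +kernel)
    (by decide +kernel)
    (fun g => Coding.forall_of_menum_all R_one ms (Coding.In_top_of_forall₂ hF) en (mem_Gr g))
    card_L (card_le_of_refOK (by norm_num) (by norm_num) (by norm_num) ref le_rfl (by simp))
    hsq f hf

end Cfsg.Agent.S3412
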