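import Cfsg.Statements.S3362
import Cfsg.Agent.H4.SS

set_option autoImplicit false
open Cfsg

namespace Cfsg.Agent.S3362

open Cfsg.Agent.H4

def g0_0 : ℕ := nat_lit 9611845078463407527789440

def g0_1 : ℕ := nat_lit 5322306305127116083266432

def g0_2 : ℕ := nat_lit 10636213745576236288279424

def g0_3 : ℕ := nat_lit 4306137196023183006991232

def g0_4 : ℕ := nat_lit 9562065523017243697578880

def g0_5 : ℕ := nat_lit 9587119227764412686500757

def g0_6 : ℕ := nat_lit 8520722696462630018842631

def g0_7 : ℕ := nat_lit 6413430708804073537259264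

def g1_0 : ℕ := nat_lit 9611845078463407527789440

def g1_1 : ℕ := nat_lit 5322306305127116083266432

def g1_2 : ℕ := nat_lit 10636213745576236288279424

def g1_3 : ℕ := nat_lit 4306137196023183006991232

def g1_4 : ℕ := nat_lit 9562065523017243697578880

def g1_5 : ℕ := nat_lit 9587119227764412686500757

def g1_6 : ℕ := nat_lit 8520722696462630018842631

def g2_0 : ℕ := nat_lit 6413621857835759696053197

def g2_1 : ℕ := nat_lit 7471176245182104139432832

def g3_0 : ℕ := nat_lit 3248196987455003854865280

def g3_1 : ℕ := nat_lit 7479376299648884827980672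

def g4_0 : ℕ := nat_lit 6380629875703291431846784

def g4_1 : ℕ := nat_lit 10636213745576236288279424

noncomputable def T0 : Trie :=
    (.node (.node (.node (.node (.leaf (nat_lit 11719137562675088395043712)) (.leaf (nat_lit
    7446704593970912715441927))) (.leaf (nat_lit 9603323187227657224259335))) (.node (.node (.leaf
    (nat_lit 9611845575016531913344775)) (.leaf (nat_lit 8487857784609984543409927))) (.leaf
    (nat_lit 10669462480800260641310471)))) (.node (.node (.node (.leaf (nat_lit
    6413430708804073537259264)) (.leaf (nat_lit 8512389932584067677538055))) (.leaf (nat_lit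
    5314557663655909825087239))) (.node (.node (.leaf (nat_lit 11710807849042637259884295)) (.leaf
    (nat_lit 4273212295413533206513415))) (.leaf (nat_lit 3207073001840929789462279)))))

noncomputable def C0 : Trie :=
    (.node (.node (.node (.node (.leaf (nat_lit
    3773962424821541352446141494267586734737528818172101153131943436126949561865158443345462212626634632775998332365252697030065685648787470974208382516706060774239916523520))
    (.leaf (nat_lit
    139234637988958841690798700945719917104773477787978032619179424085971289458882434265724645338477562925585637552480227030879974716293250760461084614827613646574397243979890508920426986471434)))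
    (.leaf (nat_lit
    247345497668325671932102221128052069972242292634807334888525476314385305196882489020341451921634047192331519419611413894149396950375452326080444746011571640051524270158774278)))
    (.node (.node (.leaf (nat_lit
    247337949397954177143207004131930915123229175175034277771738423115346844819769363915280776001588276135757615649609575044111021513363926770989504392944480978941482344059502594))
    (.leaf (nat_lit
    139234637988958841668154926396790668991324162789185518484520787195752179720812643108927153790867076438998248074639939587289946285695390753117322520455803338610810718634690443473160352301065)))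
    (.leaf (nat_lit
    247353045593175315014806704243457448338816646444746974859830354988722611528557890888098924816065015574552302976626113148066024108302992716448851977123064326613979596616368131))))
    (.node (.node (.node (.leaf (nat_lit
    6243782909608929246004900977416942864431817179039985460331295659842261078279603729023213888627919261318958510915433353483595770534909757662167041))
    (.leaf (nat_lit
    247356819555600136556158945794916735690767367847183376549400827177285776499610028560792172587766838649236914500821092088038797785087806937976701312735725142296860839873871880)))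
    (.leaf (nat_lit
    139234637988958841687024853693091516058359329400367927146137253592522617350362353484789101483592522868501424975573567725605065824349288939229921831770246065828629512891395771512628371783687)))
    (.node (.node (.leaf (nat_lit
    247341723705900850390749979570349237879015402814054102848518243681277708001321100965975801155334787901041995639246920094686348868538742994192312291041913343994071981314015236))
    (.leaf (nat_lit
    139234637988958841679476986429545003506789923334889938660312022568303103622065236380473876280137967542667764604995852665352516437365835264426537731133487042130626508438790193566871359324165)))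
    (.leaf (nat_lit
    247364367538035876209016342613418993680185652487980648444107442221074275426481757366766842814708356274126116086972059136598938766147817878964672768362402376049448048201302027)))))

noncomputable def P0 : Trie :=
    (.node (.node (.node (.node (.leaf (nat_lit 0)) (.leaf (nat_lit 262148))) (.leaf (nat_lit 3)))
    (.node (.node (.leaf (nat_lit 393217)) (.leaf (nat_lit 262149))) (.leaf (nat_lit 4)))) (.node
    (.node (.node (.leaf (nat_lit 458752)) (.leaf (nat_lit 65541))) (.leaf (nat_lit 65539))) (.node
    (.node (.leaf (nat_lit 327682)) (.leaf (nat_lit 65542))) (.leaf (nat_lit 65540)))))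

noncomputable def L0 : Level where
  S := [g0_0, g0_1, g0_2, g0_3, g0_4, g0_5, g0_6, g0_7]
  T := T0
  m := nat_lit 12
  C := C0
  sh := nat_lit 80
  P := P0
  b := nat_lit 2
  J := nat_lit 1520685814428739013968002
  W :=
    [(g1_0, [], [g0_0]), (g1_1, [], [g0_1]), (g1_2, [], [g0_2]), (g1_3, [], [g0_3]), (g1_4, [],
    [g0_4]), (g1_5, [], [g0_5]), (g1_6, [], [g0_6])]

noncomputable def T1 : Trie :=
    (.node (.node (.node (.node (.leaf (nat_lit 11719137562675088395043712)) (.leaf (nat_lit
    7429724369962854324084615))) (.leaf (nat_lit 4306264833511468994630919))) (.node (.node (.leaf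
    (nat_lit 10628142286421423907113607)) (.leaf (nat_lit 3264919465269092375829511))) (.leaf
    (nat_lit 5372404127083356494207111)))) (.node (.node (.node (.leaf (nat_lit
    8520722696462630018842631)) (.leaf (nat_lit 10636274277987034163553927))) (.leaf (nat_lit
    9586796918179047288312199))) (.node (.leaf (nat_lit 11694281579993311406689799)) (.leaf
    (nat_lit 9570136497531546566370055)))))

noncomputable def C1 : Trie :=
    (.node (.node (.node (.node (.leaf (nat_lit
    39405613612846846460296465191322150385950985252905984205125750312258746886423975341884937271593438126855227738947584))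
    (.leaf (nat_lit
    66545088064108024966745490928492461211656862945441425915350850349844577679254340240963135438679231281059742786737355126747514798087)))
    (.leaf (nat_lit
    66545088064108182574770331550376087681442064114382479537173878926036361446658215913728660710393352164101614345093073703264394936326)))
    (.node (.node (.leaf (nat_lit
    66545088064107946158524500657208846461016379618203082971125316799365877335098638607111279223121726774998719936526293259434837671939))
    (.leaf (nat_lit
    44363730511141703099547996744514995123054413288890751754689853552407298269462240278309411082497823822751784713660824413759426527236)))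
    (.leaf (nat_lit
    44363730511141624295535539737595316435010780135947826067503941046354117282738391027523339912503656109065443666050850048564338360330))))
    (.node (.node (.node (.leaf (nat_lit
    4272137034719926923792747578313881845194119419180676989749050680785946177910202327276266050289665))
    (.leaf (nat_lit
    77635766840591520813488973798793923685871387858711248287938682347796903795898297554392193864110529513287844651244680470069147336712)))
    (.leaf (nat_lit
    66545088064108064364543117362629883722942963062535572341799355248835102736700518054159316809951637954216638849577411739053784563714)))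
    (.node (.leaf (nat_lit
    66545088064107985561733224246023977306867966912976436535145720221560264588255218154197584419139200954388380895965866183198326652933))
    (.leaf (nat_lit
    77635766840591363204862979667675905455917444979865284549336096753165258428154777033506622321655563579344917154007754386783185403913)))))

noncomputable def P1 : Trie :=
    (.node (.node (.node (.node (.leaf (nat_lit 0)) (.leaf (nat_lit 65540))) (.leaf (nat_lit
    65538))) (.node (.node (.leaf (nat_lit 327681)) (.leaf (nat_lit 65541))) (.leaf (nat_lit
    65539)))) (.node (.node (.node (.leaf (nat_lit 393216)) (.leaf (nat_lit 262148))) (.leaf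
    (nat_lit 3))) (.node (.leaf (nat_lit 2)) (.leaf (nat_lit 262147)))))

noncomputable def L1 : Level where
  S := [g1_0, g1_1, g1_2, g1_3, g1_4, g1_5, g1_6]
  T := T1
  m := nat_lit 11
  C := C1
  sh := nat_lit 64
  P := P1
  b := nat_lit 1
  J := nat_lit 1368380199359179432919041
  W :=
    [(g2_0, [g1_5, g1_2, g1_1, g1_4, g1_6], [g1_6]), (g2_1, [g1_2, g1_2], [])]

noncomputable def T2 : Trie :=
    (.node (.node (.node (.node (.leaf (nat_lit 11719137562675088395043712)) (.leaf (nat_lit
    5379959057885328539091896))) (.leaf (nat_lit 10603216179695909075125183))) (.node (.leaf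
    (nat_lit 9562129586126271461688234)) (.leaf (nat_lit 8462680004289849196774342)))) (.node
    (.node (.node (.leaf (nat_lit 6413621857835759696053197)) (.leaf (nat_lit
    5355618563502674628805525))) (.leaf (nat_lit 10644540413330615475340188))) (.node (.leaf
    (nat_lit 9603450789250829018956721)) (.leaf (nat_lit 8545385965611079858095011)))))

noncomputable def C2 : Trie :=
    (.node (.node (.node (.node (.leaf (nat_lit 3626777458843887524118529)) (.leaf (nat_lit
    1208999608279795348275207))) (.leaf (nat_lit 3626851246383132315746310))) (.node (.leaf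
    (nat_lit 6044684439431266909028356)) (.leaf (nat_lit 18448995873523236872)))) (.node (.node
    (.node (.leaf (nat_lit 844424930131970)) (.leaf (nat_lit 4835777067968094917754880))) (.leaf
    (nat_lit 1970324837433347))) (.node (.leaf (nat_lit 281474976710661)) (.leaf (nat_lit
    1407374883553289)))))

noncomputable def P2 : Trie :=
    (.node (.node (.node (.node (.leaf (nat_lit 0)) (.leaf (nat_lit 6))) (.leaf (nat_lit 2)))
    (.node (.leaf (nat_lit 1)) (.leaf (nat_lit 4)))) (.node (.node (.node (.leaf (nat_lit 0))
    (.leaf (nat_lit 7))) (.leaf (nat_lit 3))) (.node (.leaf (nat_lit 65537)) (.leaf (nat_lit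
    65541)))))

noncomputable def L2 : Level where
  S := [g2_0, g2_1]
  T := T2
  m := nat_lit 10
  C := C2
  sh := nat_lit 48
  P := P2
  b := nat_lit 0
  J := nat_lit 158236748822920669691904
  W :=
    [(g3_0, [g2_0, g2_0, g2_0, g2_1, g2_1, g2_0, g2_1, g2_0, g2_0], [g2_0, g2_0, g2_0, g2_0,
    g2_0]), (g3_1, [g2_0, g2_1, g2_1, g2_1, g2_0, g2_0, g2_1, g2_0, g2_1, g2_0], [g2_0, g2_0, g2_1,
    g2_0, g2_1])]

noncomputable def T3 : Trie :=
    (.node (.node (.node (.node (.leaf (nat_lit 11719137562675088395043712)) (.leaf (nat_lit
    9570074440090046456628096))) (.leaf (nat_lit 10619813080793655936254848))) (.node (.leaf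
    (nat_lit 7479376299648884827980672)) (.leaf (nat_lit 9545476203512510984455040)))) (.node
    (.node (.leaf (nat_lit 3248196987455003854865280)) (.leaf (nat_lit
    10628010144493483753440128))) (.node (.leaf (nat_lit 8512523114812000910410624)) (.leaf
    (nat_lit 9578466684257709053936512)))))

noncomputable def C3 : Trie :=
    (.node (.node (.node (.node (.leaf (nat_lit 8589934593)) (.leaf (nat_lit 1125899906973704)))
    (.leaf (nat_lit 25770196992))) (.node (.leaf (nat_lit 1407396358389765)) (.leaf (nat_lit
    1125912791810050)))) (.node (.node (.leaf (nat_lit 17179869187)) (.leaf (nat_lit 34359738375)))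
    (.node (.leaf (nat_lit 1407379178586116)) (.leaf (nat_lit 1688879925428230)))))

noncomputable def P3 : Trie :=
    (.node (.node (.node (.node (.leaf (nat_lit 0)) (.leaf (nat_lit 65541))) (.leaf (nat_lit
    65537))) (.node (.leaf (nat_lit 65536)) (.leaf (nat_lit 65540)))) (.node (.node (.leaf (nat_lit
    0)) (.leaf (nat_lit 2))) (.node (.leaf (nat_lit 1)) (.leaf (nat_lit 5)))))

noncomputable def L3 : Level where
  S := [g3_0, g3_1]
  T := T3
  m := nat_lit 9
  C := C3
  sh := nat_lit 32
  P := P3
  b := nat_lit 3
  J := nat_lit 606870285375289451085824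
  W :=
    [(g4_0, [g3_0, g3_1, g3_0, g3_1], [g3_1]), (g4_1, [g3_1, g3_0], [g3_1])]

noncomputable def T4 : Trie :=
    (.node (.node (.node (.leaf (nat_lit 11719137562675088395043712)) (.leaf (nat_lit
    5339285500565731779249024))) (.node (.leaf (nat_lit 10636213745576236288279424)) (.leaf
    (nat_lit 9562065523017243697578880)))) (.node (.node (.leaf (nat_lit
    6380629875703291431846784)) (.leaf (nat_lit 4306137196023183006991232))) (.node (.leaf (nat_lit
    7471176245182104139432832)) (.leaf (nat_lit 8553712680472144775447424)))))

noncomputable def C4 : Trie :=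
    (.node (.node (.node (.leaf (nat_lit 131073)) (.leaf (nat_lit 393218))) (.node (.leaf (nat_lit
    196613)) (.leaf (nat_lit 327680)))) (.node (.node (.leaf (nat_lit 262147)) (.leaf (nat_lit
    65543))) (.node (.leaf (nat_lit 458758)) (.leaf (nat_lit 4)))))

noncomputable def P4 : Trie :=
    (.node (.node (.node (.leaf (nat_lit 0)) (.leaf (nat_lit 65537))) (.node (.leaf (nat_lit
    65536)) (.leaf (nat_lit 3)))) (.node (.node (.leaf (nat_lit 0)) (.leaf (nat_lit 2))) (.node
    (.leaf (nat_lit 1)) (.leaf (nat_lit 65539)))))

noncomputable def L4 : Level where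
  S := [g4_0, g4_1]
  T := T4
  m := nat_lit 8
  C := C4
  sh := nat_lit 16
  P := P4
  b := nat_lit 4
  J := nat_lit 611611098017120015876096
  W :=
    []

theorem sharp {G α : Type*} [Group G] [MulAction G α] [Finite α] (a : α)
    (h : MulAction.stabilizer G a = ⊥) (hc : Nat.card G = Nat.card α) :
    MulAction.IsPretransitive G α ∧ ∀ y : α, MulAction.stabilizer G y = ⊥ := by
  have horb : MulAction.orbit G a = Set.univ := by
    have h3 := Nat.card_congr (MulAction.orbitProdStabilizerEquivGroup G a)
    rw [Nat.card_prod, h, hc, Subgroup.card_bot, mul_one] at h3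
    apply Set.eq_of_subset_of_ncard_le (Set.subset_univ _)
    rw [Set.ncard_univ, ← h3]
    rfl
  have htrans : MulAction.IsPretransitive G α :=
    (MulAction.isPretransitive_iff_orbit_eq_univ a).mpr horb
  refine ⟨htrans, fun y => ?_⟩
  obtain ⟨g, rfl⟩ := htrans.exists_smul_eq a y
  rw [MulAction.stabilizer_smul_eq_stabilizer_map_conj, h, Subgroup.map_bot]

theorem ss : SSOK 7 127 12 [L0, L1, L2, L3, L4] := SSOK_of_ssChk (by decide +kernel)

/-- An explicit construction of the Mathieu groups of degrees 11 and 12. On the points 0, …, 11 let s = (3 4 5)(6 7 8)(9 10 11), t = (3 6 9)(4 7 10)(5 8 11), u = (4 6 5 9)(7 8 11 10), v = (4 7 5 11)(6 10 9 8), w = (4 10 5 8)(6 11 9 7), x₁ = (0 3)(6 7)(8 10)(9 11), x₂ = (0 1)(6 9)(7 10)(8 11), x₃ = (1 2)(6 11)(7 9)(8 10) (each written as a product of transpositions). Then the group M₁₂ generated by all eight permutations is sharply 5-transitive on the 12 points and has order 95040, and the group M₁₁ generated by the first seven has order 7920 and is the stabilizer of the point 2 in M₁₂. -/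
theorem result
    (s t u v w x₁ x₂ x₃ : Equiv.Perm (Fin 12))
    (hs : s = Equiv.swap (3 : Fin 12) 5 * Equiv.swap (3 : Fin 12) 4 * Equiv.swap (6 : Fin 12) 8 * Equiv.swap (6 : Fin 12) 7 * Equiv.swap (9 : Fin 12) 11 * Equiv.swap (9 : Fin 12) 10) (ht : t = Equiv.swap (3 : Fin 12) 9 * Equiv.swap (3 : Fin 12) 6 * Equiv.swap (4 : Fin 12) 10 * Equiv.swap (4 : Fin 12) 7 * Equiv.swap (5 : Fin 12) 11 * Equiv.swap (5 : Fin 12) 8)
    (hu : u = Equiv.swap (4 : Fin 12) 9 * Equiv.swap (4 : Fin 12) 5 * Equiv.swap (4 : Fin 12) 6 * Equiv.swap (7 : Fin 12) 10 * Equiv.swap (7 : Fin 12) 11 * Equiv.swap (7 : Fin 12) 8) (hv : v = Equiv.swap (4 : Fin 12) 11 * Equiv.swap (4 : Fin 12) 5 * Equiv.swap (4 : Fin 12) 7 * Equiv.swap (6 : Fin 12) 8 * Equiv.swap (6 : Fin 12) 9 * Equiv.swap (6 : Fin 12) 10) (hw : w = Equiv.swap (4 : Fin 12) 8 * Equiv.swap (4 : Fin 12) 5 * Equiv.swap (4 : Fin 12) 10 * Equiv.swap (6 : Fin 12) 7 * Equiv.swap (6 : Fin 12) 9 * Equiv.swap (6 : Fin 12) 11)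
    (hx₁ : x₁ = Equiv.swap (0 : Fin 12) 3 * Equiv.swap (6 : Fin 12) 7 * Equiv.swap (8 : Fin 12) 10 * Equiv.swap (9 : Fin 12) 11) (hx₂ : x₂ = Equiv.swap (0 : Fin 12) 1 * Equiv.swap (6 : Fin 12) 9 * Equiv.swap (7 : Fin 12) 10 * Equiv.swap (8 : Fin 12) 11)
    (hx₃ : x₃ = Equiv.swap (1 : Fin 12) 2 * Equiv.swap (6 : Fin 12) 11 * Equiv.swap (7 : Fin 12) 9 * Equiv.swap (8 : Fin 12) 10)
    (M₁₂ M₁₁ : Subgroup (Equiv.Perm (Fin 12))) (hM₁₂ : M₁₂ = Subgroup.closure {s, t, u, v, w, x₁, x₂, x₃})
    (hM₁₁ : M₁₁ = Subgroup.closure {s, t, u, v, w, x₁, x₂}) :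
    MulAction.IsMultiplyPretransitive M₁₂ (Fin 12) 5 ∧ (∀ y : Fin 5 ↪ Fin 12, MulAction.stabilizer M₁₂ y = ⊥) ∧
    Nat.card M₁₂ = 95040 ∧ Nat.card M₁₁ = 7920 ∧
    M₁₁ = M₁₂ ⊓ MulAction.stabilizer (Equiv.Perm (Fin 12)) (2 : Fin 12) := by
  have h7 : 0 < 7 := by norm_num
  have r0 : Rep 7 127 g0_0 s := by rw [hs]; decide +kernel
  have r1 : Rep 7 127 g0_1 t := by rw [ht]; decide +kernel
  have r2 : Rep 7 127 g0_2 u := by rw [hu]; decide +kernel
  have r3 : Rep 7 127 g0_3 v := by rw [hv]; decide +kernel
  have r4 : Rep 7 127 g0_4 w := by rw [hw]; decide +kernel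
  have r5 : Rep 7 127 g0_5 x₁ := by rw [hx₁]; decide +kernel
  have r6 : Rep 7 127 g0_6 x₂ := by rw [hx₂]; decide +kernel
  have r7 : Rep 7 127 g0_7 x₃ := by rw [hx₃]; decide +kernel
  have hF0 : List.Forall₂ (Rep 7 127) L0.S [s, t, u, v, w, x₁, x₂, x₃] :=
    .cons r0 (.cons r1 (.cons r2 (.cons r3 (.cons r4 (.cons r5 (.cons r6 (.cons r7 .nil)))))))
  have hF1 : List.Forall₂ (Rep 7 127) L1.S [s, t, u, v, w, x₁, x₂] :=
    .cons r0 (.cons r1 (.cons r2 (.cons r3 (.cons r4 (.cons r5 (.cons r6 .nil))))))
  have e0 : Grp 7 127 12 L0.S = M₁₂ := by
    rw [Grp_eq_closure h7 hF0, hM₁₂]; congr 1; ext g; simp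
  have e1 : Grp 7 127 12 L1.S = M₁₁ := by
    rw [Grp_eq_closure h7 hF1, hM₁₁]; congr 1; ext g; simp
  have hS := InG_top_of_forall₂ hF0
  have c0 : Nat.card M₁₂ = 95040 := by
    rw [← e0]; exact ss.card h7 hS
  have c1 : Nat.card M₁₁ = 7920 := by
    rw [← e1]; exact ss.2.2.card h7 (ss.valid hS)
  let y₀ : Fin 5 ↪ Fin 12 := ⟨![2, 1, 0, 3, 4], by decide⟩
  have hy₀ : MulAction.stabilizer M₁₂ y₀ = ⊥ := by
    rw [eq_bot_iff]
    intro g hg
    rw [Subgroup.mem_bot]
    apply Subtype.ext
    have hg' : ∀ i : Fin 5, (g : Equiv.Perm (Fin 12)) (y₀ i) = y₀ i := fun i =>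
      congrArg (fun y : Fin 5 ↪ Fin 12 => y i) (MulAction.mem_stabilizer_iff.mp hg)
    refine ss.base h7 hS (e0 ▸ g.2) ?_
    intro L hL i hi
    simp only [List.mem_cons, List.not_mem_nil, or_false] at hL
    rcases hL with rfl | rfl | rfl | rfl | rfl
    · rw [show i = y₀ 0 from Fin.ext hi]; exact hg' 0
    · rw [show i = y₀ 1 from Fin.ext hi]; exact hg' 1
    · rw [show i = y₀ 2 from Fin.ext hi]; exact hg' 2
    · rw [show i = y₀ 3 from Fin.ext hi]; exact hg' 3
    · rw [show i = y₀ 4 from Fin.ext hi]; exact hg' 4
  have h4 : Nat.card M₁₂ = Nat.card (Fin 5 ↪ Fin 12) := by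
    rw [c0, Nat.card_eq_fintype_card, Fintype.card_embedding_eq]; simp
  obtain ⟨h5, h6⟩ := sharp y₀ hy₀ h4
  refine ⟨⟨fun a b => h5.exists_smul_eq a b⟩, h6, c0, c1, ?_⟩
  · rw [← e0, ← e1]
    exact ss.stabilizer h7 hS

end Cfsg.Agent.S3362
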