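import Cfsg.Statements.S3339
import Cfsg.Agent.H1.A9Main

set_option autoImplicit false
open Cfsg

namespace Cfsg.Agent.S3339

/-- A 3-local characterization of the alternating group of degree 9. Let G be a finite group and J ≤ G an elementary abelian subgroup of order 27 whose normalizer H = N_G(J) is isomorphic to the normalizer, in the alternating group of degree 9, of the subgroup generated by three disjoint 3-cycles. If O_{3'}(C_G(x)) = 1 for every element x of order 3 in H, then either G = H or G is isomorphic to the alternating group of degree 9. -/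
theorem result {G : Type*} [Group G] [Finite G]
    (J : Subgroup G) (hJcomm : IsMulCommutative J) (hJexp : ∀ a ∈ J, a ^ 3 = 1) (hJcard : Nat.card J = 27)
    (H : Subgroup G) (hH : H = Subgroup.normalizer (J : Set G))
    (J₀ : Subgroup (Equiv.Perm (Fin 9)))
    (hJ₀ : J₀ = Subgroup.closure {Equiv.swap (0 : Fin 9) 1 * Equiv.swap 1 2, Equiv.swap (3 : Fin 9) 4 * Equiv.swap 4 5, Equiv.swap (6 : Fin 9) 7 * Equiv.swap 7 8})
    (eH : H ≃* ↥(alternatingGroup (Fin 9) ⊓ Subgroup.normalizer (J₀ : Set (Equiv.Perm (Fin 9)))))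
    (hcores : ∀ x ∈ H, orderOf x = 3 → Cfsg.pPrimeCore 3 (Subgroup.centralizer ({x} : Set G)) = ⊥) :
    H = ⊤ ∨ Nonempty (G ≃* alternatingGroup (Fin 9)) := by
  open Subgroup H9 H1 H1.T3 H1.A9K in
  have hK : S3702.K = alternatingGroup (Fin 9) ⊓ normalizer (J₀ : Set (Equiv.Perm (Fin 9))) := by
    rw [hJ₀]; exact S9.norm_J.symm
  obtain ⟨ι, hι, hr⟩ := L0.exists_embedding (eH.trans (MulEquiv.subgroupCongr hK.symm))
  have hJH : J ≤ ι.range := by rw [hr, hH]; exact le_normalizer
  have hc : Nat.card (J.comap ι) = 27 := by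
    rw [← card_map_of_injective hι, map_comap_eq_self hJH, hJcard]
  have hle : J.comap ι ≤ A9K.J := fun k hk => by
    rcases k_u k (hι (by rw [map_pow, hJexp _ hk, map_one])) with e | ⟨l, e⟩
    · exact e
    have h1 : ι u ∈ J := by
      rw [← conj_eq_iff.mpr e, map_mul, map_mul, map_inv]
      exact conj_mem_of_mem_normalizer (by rw [← hH, ← hr]; exact ⟨l, rfl⟩) hk
    have h2 : J.comap ι ≤ P := fun a ha => (k_N a).1 (hι (by
      rw [map_mul, map_mul]
      exact congrArg Subtype.val (hJcomm.is_comm.comm (⟨ι a, ha⟩ : J) ⟨ι u, h1⟩)))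
    have := card_le_of_le h2
    rw [hc, card_P] at this
    omega
  have hJ : A9K.J.map ι = J := by
    rw [← eq_of_le_of_card_ge hle (by rw [hc, card_J]), map_comap_eq_self hJH]
  rcases A9.Base.main (ι := ι) ⟨hι, by rw [hJ, hr, hH], fun j hj h1 O h2 h3 h4 => by
    have h5 := H7.le_pPrimeCore (normal_subgroupOf h3)
      (by rwa [Nat.card_congr (subgroupOfEquivOfLe h2).toEquiv])
    rw [hcores (ι j) (hr ▸ ⟨j, rfl⟩) (orderOf_three (expJ ι _ ⟨j, hj, rfl⟩)
      (fun e => h1 (hι (by rw [e, map_one])))), le_bot_iff] at h5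
    rw [← map_subgroupOf_eq_of_le h2, h5, Subgroup.map_bot]⟩ with h | ⟨φ, -⟩
  · exact Or.inl (hr ▸ h)
  · exact Or.inr ⟨φ.symm⟩

end Cfsg.Agent.S3339
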