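import Cfsg.Statements.S3342
import Cfsg.Agent.H8.P3Sp
import Cfsg.Agent.H4.P3E2b
import Cfsg.Agent.H4.P3E1f
import Cfsg.Agent.H7.P3E3
import Cfsg.Agent.H2.P3Deg

set_option autoImplicit false
open Cfsg

namespace Cfsg.Agent.S3342

open Subgroup Cfsg.Agent.H8.P3 Cfsg.Agent.H8.P3.Mx Cfsg.Agent.H9 Cfsg.Agent.H1.T3
open Cfsg.Agent.H1.S9 (Emb im mem_im im_mono im_congr)


/-- Let G be a finite group and a ∈ G an element of order 3 whose centralizer C has O₃(C) extraspecial of order 27 and exponent 3 with C/O₃(C) isomorphic to SL(2,3), and suppose some elementary abelian J ≤ C of order 27 normalizes no non-trivial subgroup of G of order prime to 3. If a is not conjugate to its inverse, then G has a normal subgroup of index 3 or G is isomorphic to PSp(4,3). If a is conjugate to its inverse, then ⟨a⟩ is normal in G, or G is isomorphic to the full automorphism group of PSp(4,3), or G is isomorphic to Sp(6,2). -/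
theorem result {G : Type*} [Group G] [Finite G]
    (a : G) (ha : orderOf a = 3) (C : Subgroup G) (hC : C = Subgroup.centralizer ({a} : Set G))
    (hR : Cfsg.IsExtraspecial 3 (Cfsg.pCore 3 C)) (hRcard : Nat.card (Cfsg.pCore 3 C) = 27)
    (hRexp : ∀ r ∈ Cfsg.pCore 3 C, r ^ 3 = 1)
    (e : C ⧸ Cfsg.pCore 3 C ≃* Matrix.SpecialLinearGroup (Fin 2) (ZMod 3))
    (J : Subgroup G) (hJC : J ≤ C) (hJcomm : IsMulCommutative J) (hJexp : ∀ j ∈ J, j ^ 3 = 1) (hJcard : Nat.card J = 27)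
    (hJsig : ∀ K : Subgroup G, (Nat.card K).Coprime 3 → (∀ j ∈ J, K.map (MulAut.conj j).toMonoidHom = K) → K = ⊥)
    (F : Type*) [Field F] [Fintype F] (hF : Fintype.card F = 3)
    (F₂ : Type*) [Field F₂] [Fintype F₂] (hF₂ : Fintype.card F₂ = 2) :
    ((∀ g : G, g * a * g⁻¹ ≠ a⁻¹) →
      (∃ N : Subgroup G, N.Normal ∧ N.index = 3) ∨ Nonempty (G ≃* Cfsg.PSp 2 F)) ∧
    ((∃ g : G, g * a * g⁻¹ = a⁻¹) →
      Subgroup.normalizer (Subgroup.zpowers a : Set G) = ⊤ ∨ Nonempty (G ≃* MulAut (Cfsg.PSp 2 F)) ∨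
        Nonempty (G ≃* Matrix.symplecticGroup (Fin 3) F₂)) := by
  obtain ⟨φ, l, e1, -, -⟩ := setup ha hC hR hRcard hRexp e hJC
    (fun a ha b hb => congrArg Subtype.val (hJcomm.is_comm.comm (⟨a, ha⟩ : J) ⟨b, hb⟩)) hJexp hJcard
    fun K h1 h2 => hJsig K h1 fun j hj => conj_smul_eq_of_mem_normalizer (h2 hj)
  have e2 : zpowers (φ mz) = zpowers a := by
    rcases e1 with e | e <;> simp [e]
  have e3 : ∀ g, g * a * g⁻¹ = a⁻¹ ↔ g * φ mz * g⁻¹ = (φ mz)⁻¹ := fun g => by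
    rcases e1 with e | e <;> rw [e]
    rw [← conj_inv, inv_inj]
  simp only [ne_eq, e3, ← e2]
  rcases l.main with hd | ⟨ψ, -, -, -, f4, f5⟩
  · exact ⟨fun h => Or.inl ((H2.P3.deg l hd).1 h), fun h => Or.inl ((H2.P3.deg l hd).2 h)⟩
  refine ⟨fun hn => Or.inr ?_, fun hr => Or.inr ?_⟩
  · have h := f4 hn
    have h1 : im ψ Mx.C ≤ closure {ψ mc, ψ ms, ψ mu, ψ mw} :=
      im_C h.l0.e ▸ closure_mono (by simp [Set.insert_subset_iff])
    obtain ⟨r, s⟩ := h.small h.ce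
    exact H4.P3.iso1 r (H4.P3.end1 r (s _ h1 (h.nj_le h1 (subset_closure (by simp)) (by simp)))) F hF
  have h := f5 hr
  by_cases he : centralizer {ψ me3} ≤ normalizer (im ψ Mx.J : Set G)
  · have h1 : im ψ Mx.C ≤ closure {ψ mc, ψ ms, ψ mu, ψ mw, ψ mp} :=
      im_C h.l0.e ▸ closure_mono (by simp [Set.insert_subset_iff])
    obtain ⟨r, s⟩ := h.small fun g e => he (mem_cent.mpr e)
    exact Or.inl (H4.P3.end2 ⟨r, h.rp, (h.eN.comm pN h.wN').mpr m_b.2.2.2.2.2.2.1⟩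
      (s _ h1 (h.nj_le h1 (subset_closure (by simp)) fun _ => subset_closure (by simp))) F hF)
  · obtain ⟨x, r, s⟩ := sp6 h he
    exact Or.inr (H7.P3.end3 r s F₂ hF₂)

end Cfsg.Agent.S3342
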