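import Cfsg.Statements.S3343
import Cfsg.Agent.H1.S9Set

set_option autoImplicit false
open Cfsg

namespace Cfsg.Agent.S3343

/-- Let G be a finite group with an element x of order 3 whose centralizer is isomorphic to the centralizer in the symmetric group of degree 9 of a product of three disjoint 3-cycles, and let J ≤ C_G(x) be elementary abelian of order 27 normalizing no non-trivial subgroup of G of order prime to 3. Then either J is normal in G or G is isomorphic to the symmetric group of degree 9. -/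
theorem result {G : Type*} [Group G] [Finite G]
    (x : G) (hx : orderOf x = 3)
    (eC : Subgroup.centralizer ({x} : Set G) ≃*
      Subgroup.centralizer ({Equiv.swap (0 : Fin 9) 1 * Equiv.swap 1 2 * Equiv.swap 3 4 * Equiv.swap 4 5 * Equiv.swap 6 7 * Equiv.swap 7 8} : Set (Equiv.Perm (Fin 9))))
    (J : Subgroup G) (hJC : J ≤ Subgroup.centralizer ({x} : Set G)) (hJcomm : IsMulCommutative J)
    (hJexp : ∀ j ∈ J, j ^ 3 = 1) (hJcard : Nat.card J = 27)
    (hJsig : ∀ K : Subgroup G, (Nat.card K).Coprime 3 → (∀ j ∈ J, K.map (MulAut.conj j).toMonoidHom = K) → K = ⊥) :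
    J.Normal ∨ Nonempty (G ≃* Equiv.Perm (Fin 9)) := by
  open Subgroup H9 H1 H1.T3 H1.S9 in
  have hC : centralizer ({Equiv.swap (0 : Fin 9) 1 * Equiv.swap 1 2 * Equiv.swap 3 4 *
      Equiv.swap 4 5 * Equiv.swap 6 7 * Equiv.swap 7 8} : Set (Equiv.Perm (Fin 9))) = C9 := by
    rw [← x3_eq]
    exact le_antisymm (fun p hp => mem_C9 (T3.mem_cent.mp hp))
      (fun p hp => T3.mem_cent.mpr (s_C p hp).1)
  obtain ⟨ι, hι, hr⟩ := L0.exists_embedding (eC.trans (MulEquiv.subgroupCongr hC))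
  obtain ⟨κ, hκ, e⟩ := exists_emb_of_hom ι hι
  have hr' : im κ C9 = centralizer {x} := by
    rw [← hκ.range, ← hr, show hκ.hom = ι from MonoidHom.ext e]
  obtain ⟨B, hB, e1', e2', e3'⟩ := hκ.pull (hr' ▸ hJC)
  obtain rfl := eq_J0 (hB.trans CM) (e2'.trans hJcard) (fun a ha b hb =>
    (hκ.comm (hB ha) (hB hb)).mp (congrArg Subtype.val (hJcomm.is_comm.comm
      (⟨_, (e3' a (hB ha)).mp ha⟩ : J) ⟨_, (e3' b (hB hb)).mp hb⟩)))
    (fun a ha => (hκ.pow_eq_one (hB ha)).mp (hJexp _ ((e3' a (hB ha)).mp ha)))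
  obtain ⟨k, hk, rfl⟩ := hκ.ex (hr' ▸ T3.mem_cent.mpr rfl : x ∈ im κ C9)
  have c := fun a (ha : a ∈ C9) => (hκ.comm hk ha).mp
    (T3.mem_cent.mp (hr' ▸ mem_im κ ha)).symm
  refine e1' ▸ Pre.main ⟨hκ, fun g hg => hr' ▸ T3.mem_cent.mpr ?_, fun O h1 h2 =>
    hJsig O h1 (fun j hj => mem_normalizer_iff_map_conj_eq.mp (h2 (e1' ▸ hj)))⟩
  rcases (d_C k hk).2.2.2.1 (c _ d_m.2.2.1) (c _ d_m.1) with rfl | rfl | rfl
  · rw [hκ.one, orderOf_one] at hx
    omega
  · exact hg
  · rw [hκ.inv (JC d_m.2.2.2.1)]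
    exact (Commute.inv_right hg).eq

end Cfsg.Agent.S3343
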