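import Cfsg.Statements.S3344
import Cfsg.Agent.H7.Asch.Final

set_option autoImplicit false
open Cfsg

namespace Cfsg.Agent.S3344

open scoped commutatorElement in
theorem xs_of_extraspecial {G : Type*} [Group G] {Q : Subgroup G} {s : G} (ss : s * s = 1)
    (s1 : s ≠ 1) (sQ : s ∈ Q) (cen : ∀ q ∈ Q, q * s = s * q) (hQex : Cfsg.IsExtraspecial 2 Q)
    (hQcard : Nat.card Q = 32) : H7.Asch.XS Q s := by
  have zen : ∀ q : Q, q ∈ Subgroup.center Q → (q : G) = 1 ∨ (q : G) = s := fun q hq => by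
    obtain ⟨y, -, hy⟩ := (Nat.card_eq_two_iff' (1 : Subgroup.center Q)).1 hQex.2
    by_contra hn
    push Not at hn
    have h1 := hy ⟨q, hq⟩ fun h => hn.1 (congrArg (fun z : Subgroup.center Q => ((z : Q) : G)) h)
    have h2 := hy ⟨⟨s, sQ⟩, Subgroup.mem_center_iff.2 fun p => Subtype.ext (cen p p.2)⟩
      fun h => s1 (congrArg (fun z : Subgroup.center Q => ((z : Q) : G)) h)
    exact hn.2 (congrArg (fun z : Subgroup.center Q => ((z : Q) : G)) (h1.trans h2.symm))
  refine ⟨sQ, ss, s1, cen, fun p hp q hq => ?_,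
    fun q hq h => zen ⟨q, hq⟩ (Subgroup.mem_center_iff.2 fun p => Subtype.ext (h p p.2)), hQcard⟩
  rcases zen ⁅(⟨p, hp⟩ : Q), (⟨q, hq⟩ : Q)⁆ (by
    rw [← hQex.1.2.2]
    exact Subgroup.commutator_mem_commutator (Subgroup.mem_top _) (Subgroup.mem_top _)) with h | h
  · exact Or.inl (commutatorElement_eq_one_iff_mul_comm.1 h)
  · refine Or.inr ?_
    rw [cen _ (Q.mul_mem hq hp), ← h]
    change _ = p * q * p⁻¹ * q⁻¹ * (q * p)
    group

theorem card_sylow_three {L : Type*} [Group L] [Finite L] (hc : Nat.card L = 192) (X : Sylow 3 L) :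
    Nat.card (X : Subgroup L) = 3 := by
  have : (192 : ℕ).factorization 3 = 1 := by
    rw [show 192 = 3 * 64 from rfl, Nat.factorization_mul (by decide) (by decide),
      Finsupp.add_apply, Nat.factorization_eq_zero_of_not_dvd (by decide : ¬ 3 ∣ 64),
      Nat.Prime.factorization_self Nat.prime_three]
  rw [X.card_eq_multiplicity, hc, this, pow_one]

theorem exists_conj_zpowers {L : Type*} [Group L] [Finite L] (hc : Nat.card L = 192) (X : Sylow 3 L)
    {x : L} (o : orderOf x = 3) : ∃ c : L, Subgroup.zpowers (c * x * c⁻¹) = X := by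
  obtain ⟨Y, hY⟩ := (IsPGroup.of_card (p := 3) (n := 1) (G := Subgroup.zpowers x)
    (by rw [Nat.card_zpowers, o, pow_one])).exists_le_sylow
  obtain ⟨c, rfl⟩ := MulAction.exists_smul_eq L Y X
  exact ⟨c, Subgroup.eq_of_le_of_card_ge
    (Subgroup.zpowers_le.2 (Subgroup.smul_mem_pointwise_smul _ (MulAut.conj c) _
      (hY (Subgroup.mem_zpowers _)))) (by
      rw [card_sylow_three hc, Nat.card_zpowers, ← MulAut.conj_apply, MulEquiv.orderOf_eq, o])⟩

/-- Let G be a finite group with an involution s, L = C_G(s) and Q = O₂(L). Suppose Q is extraspecial of order 32, L/Q is isomorphic to Sym(3), C_Q(X) = ⟨s⟩ for a Sylow 3-subgroup X of L, and s is not weakly closed in Q with respect to G (some conjugate of s other than s lies in Q). Then either G has an elementary abelian normal subgroup of order 8 with quotient isomorphic to PSL(3,2), or G is isomorphic to the alternating group of degree 8 or 9, or to the Mathieu group M₁₂. -/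
theorem result {G : Type*} [Group G] [Finite G]
    (s : G) (hs : orderOf s = 2) (L : Subgroup G) (hL : L = Subgroup.centralizer ({s} : Set G))
    (Q : Subgroup G) (hQ : Q = (Cfsg.pCore 2 L).map L.subtype)
    (hQex : Cfsg.IsExtraspecial 2 Q) (hQcard : Nat.card Q = 32)
    (e : L ⧸ Cfsg.pCore 2 L ≃* Equiv.Perm (Fin 3))
    (X : Sylow 3 L) (hCQX : Q ⊓ Subgroup.centralizer (((X : Subgroup L).map L.subtype : Subgroup G) : Set G) = Subgroup.zpowers s)
    (hnwc : ∃ g : G, g * s * g⁻¹ ∈ Q ∧ g * s * g⁻¹ ≠ s) :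
    (∃ (N : Subgroup G) (hN : N.Normal), IsMulCommutative N ∧ (∀ n ∈ N, n ^ 2 = 1) ∧ Nat.card N = 8 ∧
        Nonempty (G ⧸ N ≃* Matrix.ProjectiveSpecialLinearGroup (Fin 3) (ZMod 2))) ∨
    Nonempty (G ≃* alternatingGroup (Fin 8)) ∨ Nonempty (G ≃* alternatingGroup (Fin 9)) ∨ Cfsg.Spor.IsoM12 G := by
  classical
  have mk : ∀ {g}, g ∈ L ↔ g * s = s * g := fun {g} => by
    rw [hL, Subgroup.mem_centralizer_singleton_iff]
  have ss : s * s = 1 := by rw [← pow_two, ← hs, pow_orderOf_eq_one]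
  have s1 : s ≠ 1 := fun h => by simp [h] at hs
  have zp : ∀ q ∈ Subgroup.zpowers s, q = 1 ∨ q = s := fun q hq => by
    obtain ⟨i, hi, rfl⟩ := Finset.mem_image.1 (mem_zpowers_iff_mem_range_orderOf.1 hq)
    rw [hs, Finset.mem_range] at hi
    interval_cases i <;> simp
  have sQ : s ∈ Q := (hCQX.ge (Subgroup.mem_zpowers s)).1
  have mQ : ∀ l : L, (l : G) ∈ Q ↔ l ∈ pCore 2 L := fun l => by
    rw [hQ]
    exact Subgroup.mem_map_iff_mem L.subtype_injective
  have cen : ∀ q ∈ Q, q * s = s * q := fun q hq => mk.1 (Subgroup.map_subtype_le _ (hQ.le hq))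
  have hc : Nat.card L = 192 := by
    rw [Subgroup.card_eq_card_quotient_mul_card_subgroup (pCore 2 L), Nat.card_congr e.toEquiv,
      ← Subgroup.card_map_of_injective L.subtype_injective, ← hQ, hQcard, Nat.card_perm]
    simp [Nat.factorial]
  have hx : ∃ x : G, x ^ 3 = 1 ∧ x ≠ 1 ∧ x * s = s * x := by
    obtain ⟨x, hx⟩ := exists_prime_orderOf_dvd_card' (G := L) 3 (by rw [hc]; decide)
    rw [← Subgroup.orderOf_coe] at hx
    exact ⟨x, by rw [← hx, pow_orderOf_eq_one], fun h => by simp [h] at hx, mk.1 x.2⟩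
  have hC : ∀ x : G, x ^ 3 = 1 → x ≠ 1 → x * s = s * x → ∀ q ∈ Q, q * x = x * q → q = 1 ∨ q = s := by
    intro x x3 x1 xs q hq h
    obtain ⟨c, m⟩ := exists_conj_zpowers hc X (x := ⟨x, mk.2 xs⟩)
      (orderOf_eq_prime (Subtype.ext x3) fun h => x1 (congrArg Subtype.val h))
    have k : (c : G) * q * (c : G)⁻¹ ∈ Subgroup.zpowers s := by
      rw [← hCQX, ← m, MonoidHom.map_zpowers]
      refine ⟨(mQ (c * ⟨q, mk.2 (cen q hq)⟩ * c⁻¹)).2 (Subgroup.Normal.conj_mem inferInstance _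
        ((mQ ⟨q, mk.2 (cen q hq)⟩).1 hq) c), ?_⟩
      rintro _ ⟨i, rfl⟩
      exact (Commute.zpow_left (H7.Asch.comm_conj h.symm) i).eq
    refine (zp _ k).imp (fun k => by simpa using k) fun k => ?_
    rw [mul_inv_eq_iff_eq_mul, ← mk.1 c.2] at k
    exact mul_left_cancel k
  obtain ⟨π, hπ⟩ : ∃ π : L →* Equiv.Perm (Fin 3), ∀ l, π l = 1 ↔ (l : G) ∈ Q :=
    ⟨e.toMonoidHom.comp (QuotientGroup.mk' _), fun l => by simp [mQ]⟩
  clear mk mQ hQ e hCQX X
  subst hL
  obtain ⟨g, hg1, hg2⟩ := hnwc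
  obtain ⟨a, b, x, y, hr, rfl, h1, h2, h3, h4⟩ := H7.Asch.local_rel
    (xs_of_extraspecial ss s1 sQ cen hQex hQcard) π hπ hx hC hg1 hg2 ⟨g, rfl⟩
  exact H7.Asch.concl_of_rel hQcard hr s1 hc h1 h2 h3 h4 hg1 hg2 ⟨g, rfl⟩

end Cfsg.Agent.S3344
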