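import Cfsg.Statements.S3348
import Cfsg.Agent.H4.M12Side

set_option autoImplicit false
open Cfsg

namespace Cfsg.Agent.S3348

/-- Let G be a finite group generated by isomorphic subgroups A and B such that C = A ∩ B contains a Sylow 3-subgroup of each of A and B and no non-trivial subgroup of C is normalized by both A and B. Suppose A/O₃(A) and B/O₃(B) are isomorphic to GL(2,3), that O₃(A) and O₃(B) are elementary abelian of order 9 and self-centralizing in A and B respectively (natural modules), and that for a Sylow 3-subgroup S of C the normalizer N_G(Z(S)) lies in A ∩ B. Then G is isomorphic to the Mathieu group M₁₂ or to PSL(3,3). -/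
theorem result {G : Type*} [Group G] [Finite G]
    (A B : Subgroup G) (eAB : Nonempty (A ≃* B)) (hgen : A ⊔ B = ⊤)
    (hSylA : ¬ 3 ∣ ((A ⊓ B).subgroupOf A).index) (hSylB : ¬ 3 ∣ ((A ⊓ B).subgroupOf B).index)
    (hcore : ∀ N : Subgroup G, N ≤ A ⊓ B → (∀ a ∈ A, N.map (MulAut.conj a).toMonoidHom = N) →
      (∀ b ∈ B, N.map (MulAut.conj b).toMonoidHom = N) → N = ⊥)
    (eA : A ⧸ Cfsg.pCore 3 A ≃* GL (Fin 2) (ZMod 3)) (eB : B ⧸ Cfsg.pCore 3 B ≃* GL (Fin 2) (ZMod 3))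
    (hOA : IsMulCommutative (Cfsg.pCore 3 A) ∧ (∀ x ∈ Cfsg.pCore 3 A, x ^ 3 = 1) ∧ Nat.card (Cfsg.pCore 3 A) = 9 ∧
      Subgroup.centralizer ((Cfsg.pCore 3 A : Subgroup A) : Set A) = Cfsg.pCore 3 A)
    (hOB : IsMulCommutative (Cfsg.pCore 3 B) ∧ (∀ x ∈ Cfsg.pCore 3 B, x ^ 3 = 1) ∧ Nat.card (Cfsg.pCore 3 B) = 9 ∧
      Subgroup.centralizer ((Cfsg.pCore 3 B : Subgroup B) : Set B) = Cfsg.pCore 3 B)
    (S : Sylow 3 ↥(A ⊓ B)) (Z : Subgroup G)
    (hZ : Z = ((S : Subgroup ↥(A ⊓ B)) ⊓ Subgroup.centralizer ((S : Subgroup ↥(A ⊓ B)) : Set ↥(A ⊓ B))).map (A ⊓ B).subtype)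
    (hNZ : Subgroup.normalizer (Z : Set G) ≤ A ⊓ B) :
    Cfsg.Spor.IsoM12 G ∨ Nonempty (G ≃* Matrix.ProjectiveSpecialLinearGroup (Fin 3) (ZMod 3)) := by
  have hA := H4.M12P.side_of_pCore A eA hOA
  have hB := H4.M12P.side_of_pCore B eB hOB
  generalize (Cfsg.pCore 3 A).map A.subtype = V at hA
  generalize (Cfsg.pCore 3 B).map B.subtype = W at hB
  have h1 := hA.le_of_index le_rfl hA.le hSylA
  have h2 := hB.le_of_index le_rfl hB.le hSylB
  have h3 : ¬ V ≤ W := fun e => by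
    obtain rfl := Subgroup.eq_of_le_of_card_ge e (by rw [hA.card, hB.card])
    have key : ∀ {C : Subgroup G}, H4.M12P.Side C V → ∀ a ∈ C,
        V.map (MulAut.conj a).toMonoidHom = V := fun h a ha =>
      Subgroup.eq_of_le_of_card_ge (by rintro _ ⟨p, hp, rfl⟩; exact h.norm a ha p hp)
        (Subgroup.card_map_of_injective (MulAut.conj a).injective).ge
    have := hA.card
    rw [hcore V h1 (key hA) (key hB), Subgroup.card_bot] at this
    omega
  have hi : ¬ 3 ∣ ((S : Subgroup ↥(A ⊓ B)).map (A ⊓ B).subtype).relIndex (A ⊓ B) := by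
    rw [Subgroup.relIndex, Subgroup.subgroupOf,
      Subgroup.comap_map_eq_self_of_injective (A ⊓ B).subtype_injective]
    exact S.not_dvd_index
  have h4 := hA.le_of_index inf_le_left h1 hi
  have h5 := hB.le_of_index inf_le_right h2 hi
  have h6 : ∀ {C U : Subgroup G}, H4.M12P.Side C U → A ⊓ B ≤ C →
      U ≤ (S : Subgroup ↥(A ⊓ B)).map (A ⊓ B).subtype → Z ≤ U := by
    rw [hZ]
    rintro C U h hC hU _ ⟨g, hg, rfl⟩
    refine h.cent _ (hC g.2) fun p hp => ?_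
    obtain ⟨p, hp', rfl⟩ := hU hp
    exact (congrArg Subtype.val (hg.2 p hp')).symm
  obtain ⟨x, hx, hxW⟩ := SetLike.not_le_iff_exists.mp h3
  obtain ⟨x', hx', rfl⟩ := h4 hx
  have : Nontrivial S := ⟨⟨⟨x', hx'⟩, 1, fun e => hxW (by
    rw [show x' = 1 from congrArg Subtype.val e, map_one]; exact one_mem _)⟩⟩
  have := S.2.center_nontrivial
  obtain ⟨w, hw⟩ := exists_ne (1 : Subgroup.center S)
  have hwZ : (((w : S) : ↥(A ⊓ B)) : G) ∈ Z := hZ ▸ ⟨_, ⟨w.1.2, fun p hp =>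
    congrArg Subtype.val (Subgroup.mem_center_iff.mp w.2 ⟨p, hp⟩)⟩, rfl⟩
  have hw1 : (((w : S) : ↥(A ⊓ B)) : G) ≠ 1 := fun e =>
    hw (Subtype.ext (Subtype.ext (Subtype.ext e)))
  generalize (((w : S) : ↥(A ⊓ B)) : G) = z at hwZ hw1
  have hV := h6 hA inf_le_left h4
  have hW := h6 hB inf_le_right h5
  refine H4.M12P.iso_of_sides hA hB hgen (h1.trans inf_le_right) (h2.trans inf_le_left) h3
    (hV hwZ) (hW hwZ) hw1 ?_
  rwa [show Subgroup.zpowers z = Z from le_antisymm (Subgroup.zpowers_le_of_mem hwZ) fun g hg =>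
    by_contra fun e => h3 (hA.le_of_mem (hV hg) (hV hwZ) hw1 e (hW hwZ) (hW hg))]

end Cfsg.Agent.S3348
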