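import Cfsg.Statements.S3413
import Cfsg.Agent.H4.CommGraph
import Cfsg.Agent.H4.M11Code

set_option autoImplicit false
open Cfsg

namespace Cfsg.Agent.S3413

open Cfsg.Agent.H4 Cfsg.Agent.H4.M11

noncomputable def PT : Trie :=
    (.node (.node (.node (.node (.node (.node (.node (.node (.leaf (nat_lit 194924246532771))
    (.leaf (nat_lit 204536416518681))) (.leaf (nat_lit 188394555785751))) (.node (.node (.leaf
    (nat_lit 11237363847771)) (.leaf (nat_lit 151369517433411))) (.leaf (nat_lit
    170094754234896)))) (.node (.node (.node (.leaf (nat_lit 188658326180406)) (.leaf (nat_lit
    81860304273921))) (.leaf (nat_lit 111121468240536))) (.node (.leaf (nat_lit 29001654682296))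
    (.leaf (nat_lit 117066233610771))))) (.node (.node (.node (.node (.leaf (nat_lit
    204098021831256)) (.leaf (nat_lit 22644796306101))) (.leaf (nat_lit 151781749633641))) (.node
    (.leaf (nat_lit 110582981886576)) (.leaf (nat_lit 194147139289626)))) (.node (.node (.node
    (.leaf (nat_lit 202560614208096)) (.leaf (nat_lit 188465196053076))) (.leaf (nat_lit
    3888846774891))) (.node (.leaf (nat_lit 123496257827466)) (.leaf (nat_lit 134452699804161))))))
    (.node (.node (.node (.node (.node (.leaf (nat_lit 188667281093121)) (.leaf (nat_lit
    204119201968656))) (.leaf (nat_lit 201488246333976))) (.node (.node (.leaf (nat_lit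
    28194135093936)) (.leaf (nat_lit 205150245839361))) (.leaf (nat_lit 202698642567681)))) (.node
    (.node (.node (.leaf (nat_lit 204887951438436)) (.leaf (nat_lit 6015481360971))) (.leaf
    (nat_lit 188525844902421))) (.node (.leaf (nat_lit 116168317743636)) (.leaf (nat_lit
    25532042744496))))) (.node (.node (.node (.node (.leaf (nat_lit 124866314777256)) (.leaf
    (nat_lit 166819315061301))) (.leaf (nat_lit 146901851124246))) (.node (.leaf (nat_lit
    116553522901641)) (.leaf (nat_lit 78707985953376)))) (.node (.node (.node (.leaf (nat_lit
    97419634610736)) (.leaf (nat_lit 107031853216416))) (.leaf (nat_lit 134366715482646))) (.node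
    (.leaf (nat_lit 130398330901056)) (.leaf (nat_lit 167926364897811))))))) (.node (.node (.node
    (.node (.node (.node (.leaf (nat_lit 23723094606516)) (.leaf (nat_lit 204798806295126))) (.leaf
    (nat_lit 99057090691731))) (.node (.node (.leaf (nat_lit 198500594364951)) (.leaf (nat_lit
    204953842954821))) (.leaf (nat_lit 162386107802136)))) (.node (.node (.node (.leaf (nat_lit
    144703690809936)) (.leaf (nat_lit 76104784908816))) (.leaf (nat_lit 9457876873851))) (.node
    (.leaf (nat_lit 199600931893761)) (.leaf (nat_lit 145252949832336))))) (.node (.node (.node
    (.node (.leaf (nat_lit 170108491420161)) (.leaf (nat_lit 133756964049456))) (.leaf (nat_lit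
    193961145946746))) (.node (.leaf (nat_lit 63394090955376)) (.leaf (nat_lit 188670419599971))))
    (.node (.node (.node (.leaf (nat_lit 18242929451706)) (.leaf (nat_lit 188606632243776))) (.leaf
    (nat_lit 160203191906976))) (.node (.leaf (nat_lit 95177460183576)) (.leaf (nat_lit
    197230423679616)))))) (.node (.node (.node (.node (.node (.leaf (nat_lit 63876700222101))
    (.leaf (nat_lit 109506020549121))) (.leaf (nat_lit 200735403815556))) (.node (.leaf (nat_lit
    113840980513296)) (.leaf (nat_lit 165715039760976)))) (.node (.node (.node (.leaf (nat_lit
    29177062634166)) (.leaf (nat_lit 193606229115546))) (.leaf (nat_lit 98578117964391))) (.node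
    (.leaf (nat_lit 197944411820601)) (.leaf (nat_lit 195264336052896))))) (.node (.node (.node
    (.node (.leaf (nat_lit 194636769669801)) (.leaf (nat_lit 72058646770341))) (.leaf (nat_lit
    201316395987606))) (.node (.leaf (nat_lit 202836645270036)) (.leaf (nat_lit 8322142126731))))
    (.node (.node (.node (.leaf (nat_lit 128186361446931)) (.leaf (nat_lit 1754280583851))) (.leaf
    (nat_lit 53366148805146))) (.node (.leaf (nat_lit 140992860951066)) (.leaf (nat_lit
    91570442969616)))))))) (.node (.node (.node (.node (.node (.node (.node (.leaf (nat_lit
    204132939153921)) (.leaf (nat_lit 198532467937896))) (.leaf (nat_lit 152055633768981))) (.node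
    (.node (.leaf (nat_lit 77000615867001)) (.leaf (nat_lit 126549975147156))) (.leaf (nat_lit
    64205625799191)))) (.node (.node (.node (.leaf (nat_lit 200352876433941)) (.leaf (nat_lit
    170102557258356))) (.leaf (nat_lit 60011335692801))) (.node (.leaf (nat_lit 26706213155511))
    (.leaf (nat_lit 21395757376176))))) (.node (.node (.node (.node (.leaf (nat_lit
    201569904722496)) (.leaf (nat_lit 57545995235856))) (.leaf (nat_lit 194014701171306))) (.node
    (.leaf (nat_lit 74311664378391)) (.leaf (nat_lit 134774748643941)))) (.node (.node (.node
    (.leaf (nat_lit 164619413045856)) (.leaf (nat_lit 202972375118406))) (.leaf (nat_lit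
    188031325078041))) (.node (.leaf (nat_lit 188120463340176)) (.leaf (nat_lit 6895478321691))))))
    (.node (.node (.node (.node (.node (.leaf (nat_lit 197448606196341)) (.leaf (nat_lit
    201857692861011))) (.leaf (nat_lit 188297644692096))) (.node (.leaf (nat_lit 200192893944471))
    (.leaf (nat_lit 194847504896676)))) (.node (.node (.node (.leaf (nat_lit 134731883823696))
    (.leaf (nat_lit 204719721386631))) (.leaf (nat_lit 29232491492016))) (.node (.leaf (nat_lit
    163489815081606)) (.leaf (nat_lit 159121365414426))))) (.node (.node (.node (.node (.leaf
    (nat_lit 99443872772736)) (.leaf (nat_lit 11645874491931))) (.leaf (nat_lit 117184073839191)))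
    (.node (.leaf (nat_lit 95677488575001)) (.leaf (nat_lit 105864423346746)))) (.node (.node
    (.node (.leaf (nat_lit 54393887306406)) (.leaf (nat_lit 199664517648951))) (.leaf (nat_lit
    188223021421176))) (.node (.leaf (nat_lit 188653543907856)) (.leaf (nat_lit
    79278441718416))))))) (.node (.node (.node (.node (.node (.node (.leaf (nat_lit
    170115120325191)) (.leaf (nat_lit 204103070540421))) (.leaf (nat_lit 81709196063256))) (.node
    (.node (.leaf (nat_lit 200701578121776)) (.leaf (nat_lit 28622840091321))) (.leaf (nat_lit
    199443142410771)))) (.node (.node (.node (.leaf (nat_lit 88607200195146)) (.leaf (nat_lit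
    152400057864756))) (.leaf (nat_lit 152123775148656))) (.node (.leaf (nat_lit 99546397958676))
    (.leaf (nat_lit 204992705466936))))) (.node (.node (.node (.node (.leaf (nat_lit
    81988600660611)) (.leaf (nat_lit 24569269453491))) (.leaf (nat_lit 115012698063381))) (.node
    (.leaf (nat_lit 11357883208251)) (.leaf (nat_lit 71022486975066)))) (.node (.node (.node (.leaf
    (nat_lit 4845685338651)) (.leaf (nat_lit 128680234082841))) (.leaf (nat_lit 61617581896281)))
    (.node (.leaf (nat_lit 61128749134356)) (.leaf (nat_lit 89487685485216)))))) (.node (.node
    (.node (.node (.node (.leaf (nat_lit 11090819232411)) (.leaf (nat_lit 99609161712246))) (.leaf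
    (nat_lit 196848910443081))) (.node (.leaf (nat_lit 80987786269206)) (.leaf (nat_lit
    197188400751126)))) (.node (.node (.node (.leaf (nat_lit 132399770186256)) (.leaf (nat_lit
    148896472117761))) (.leaf (nat_lit 199312666079856))) (.node (.leaf (nat_lit 64078787228256))
    (.leaf (nat_lit 64391599993416))))) (.node (.node (.node (.node (.leaf (nat_lit
    198429957055056)) (.leaf (nat_lit 205097914466931))) (.leaf (nat_lit 204596793856656))) (.node
    (.leaf (nat_lit 116777937900096)) (.leaf (nat_lit 142502824006311)))) (.node (.node (.node
    (.leaf (nat_lit 81812038292016)) (.leaf (nat_lit 92601486840321))) (.leaf (nat_lit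
    10597134795291))) (.node (.leaf (nat_lit 147865428247056)) (.leaf (nat_lit
    58898625376896)))))))))

noncomputable def QT : Trie :=
    (.node (.node (.node (.node (.node (.node (.node (.node (.leaf (nat_lit 0)) (.leaf (nat_lit
    90))) (.leaf (nat_lit 39))) (.node (.node (.leaf (nat_lit 19)) (.leaf (nat_lit 134))) (.leaf
    (nat_lit 61)))) (.node (.node (.node (.leaf (nat_lit 8)) (.leaf (nat_lit 106))) (.leaf (nat_lit
    49))) (.node (.leaf (nat_lit 29)) (.leaf (nat_lit 75))))) (.node (.node (.node (.node (.leaf
    (nat_lit 3)) (.leaf (nat_lit 101))) (.leaf (nat_lit 44))) (.node (.leaf (nat_lit 24)) (.leaf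
    (nat_lit 69)))) (.node (.node (.node (.leaf (nat_lit 13)) (.leaf (nat_lit 115))) (.leaf
    (nat_lit 56))) (.node (.leaf (nat_lit 33)) (.leaf (nat_lit 81)))))) (.node (.node (.node (.node
    (.node (.leaf (nat_lit 1)) (.leaf (nat_lit 96))) (.leaf (nat_lit 42))) (.node (.node (.leaf
    (nat_lit 22)) (.leaf (nat_lit 160))) (.leaf (nat_lit 66)))) (.node (.node (.node (.leaf
    (nat_lit 11)) (.leaf (nat_lit 109))) (.leaf (nat_lit 52))) (.node (.leaf (nat_lit 31)) (.leaf
    (nat_lit 78))))) (.node (.node (.node (.node (.leaf (nat_lit 6)) (.leaf (nat_lit 104))) (.leaf
    (nat_lit 47))) (.node (.leaf (nat_lit 27)) (.leaf (nat_lit 72)))) (.node (.node (.node (.leaf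
    (nat_lit 15)) (.leaf (nat_lit 125))) (.leaf (nat_lit 58))) (.node (.leaf (nat_lit 35)) (.leaf
    (nat_lit 84))))))) (.node (.node (.node (.node (.node (.node (.leaf (nat_lit 0)) (.leaf
    (nat_lit 93))) (.leaf (nat_lit 41))) (.node (.node (.leaf (nat_lit 21)) (.leaf (nat_lit 144)))
    (.leaf (nat_lit 64)))) (.node (.node (.node (.leaf (nat_lit 9)) (.leaf (nat_lit 108))) (.leaf
    (nat_lit 51))) (.node (.leaf (nat_lit 30)) (.leaf (nat_lit 77))))) (.node (.node (.node (.node
    (.leaf (nat_lit 4)) (.leaf (nat_lit 102))) (.leaf (nat_lit 46))) (.node (.leaf (nat_lit 25))
    (.leaf (nat_lit 71)))) (.node (.node (.node (.leaf (nat_lit 14)) (.leaf (nat_lit 120))) (.leaf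
    (nat_lit 57))) (.node (.leaf (nat_lit 34)) (.leaf (nat_lit 83)))))) (.node (.node (.node (.node
    (.node (.leaf (nat_lit 2)) (.leaf (nat_lit 99))) (.leaf (nat_lit 43))) (.node (.leaf (nat_lit
    23)) (.leaf (nat_lit 67)))) (.node (.node (.node (.leaf (nat_lit 12)) (.leaf (nat_lit 111)))
    (.leaf (nat_lit 53))) (.node (.leaf (nat_lit 32)) (.leaf (nat_lit 79))))) (.node (.node (.node
    (.node (.leaf (nat_lit 7)) (.leaf (nat_lit 105))) (.leaf (nat_lit 48))) (.node (.leaf (nat_lit
    28)) (.leaf (nat_lit 74)))) (.node (.node (.node (.leaf (nat_lit 17)) (.leaf (nat_lit 131)))
    (.leaf (nat_lit 60))) (.node (.leaf (nat_lit 38)) (.leaf (nat_lit 87)))))))) (.node (.node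
    (.node (.node (.node (.node (.node (.leaf (nat_lit 0)) (.leaf (nat_lit 91))) (.leaf (nat_lit
    40))) (.node (.node (.leaf (nat_lit 20)) (.leaf (nat_lit 139))) (.leaf (nat_lit 63)))) (.node
    (.node (.node (.leaf (nat_lit 9)) (.leaf (nat_lit 106))) (.leaf (nat_lit 50))) (.node (.leaf
    (nat_lit 29)) (.leaf (nat_lit 76))))) (.node (.node (.node (.node (.leaf (nat_lit 4)) (.leaf
    (nat_lit 102))) (.leaf (nat_lit 44))) (.node (.leaf (nat_lit 25)) (.leaf (nat_lit 70)))) (.node
    (.node (.node (.leaf (nat_lit 14)) (.leaf (nat_lit 115))) (.leaf (nat_lit 57))) (.node (.leaf
    (nat_lit 34)) (.leaf (nat_lit 83)))))) (.node (.node (.node (.node (.node (.leaf (nat_lit 2))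
    (.leaf (nat_lit 98))) (.leaf (nat_lit 42))) (.node (.leaf (nat_lit 22)) (.leaf (nat_lit 66))))
    (.node (.node (.node (.leaf (nat_lit 12)) (.leaf (nat_lit 110))) (.leaf (nat_lit 53))) (.node
    (.leaf (nat_lit 32)) (.leaf (nat_lit 79))))) (.node (.node (.node (.node (.leaf (nat_lit 7))
    (.leaf (nat_lit 104))) (.leaf (nat_lit 48))) (.node (.leaf (nat_lit 27)) (.leaf (nat_lit 74))))
    (.node (.node (.node (.leaf (nat_lit 17)) (.leaf (nat_lit 130))) (.leaf (nat_lit 59))) (.node
    (.leaf (nat_lit 36)) (.leaf (nat_lit 86))))))) (.node (.node (.node (.node (.node (.node (.leaf
    (nat_lit 1)) (.leaf (nat_lit 95))) (.leaf (nat_lit 41))) (.node (.node (.leaf (nat_lit 21))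
    (.leaf (nat_lit 153))) (.leaf (nat_lit 65)))) (.node (.node (.node (.leaf (nat_lit 10)) (.leaf
    (nat_lit 109))) (.leaf (nat_lit 52))) (.node (.leaf (nat_lit 30)) (.leaf (nat_lit 77)))))
    (.node (.node (.node (.node (.leaf (nat_lit 5)) (.leaf (nat_lit 103))) (.leaf (nat_lit 46)))
    (.node (.leaf (nat_lit 26)) (.leaf (nat_lit 71)))) (.node (.node (.node (.leaf (nat_lit 15))
    (.leaf (nat_lit 121))) (.leaf (nat_lit 58))) (.node (.leaf (nat_lit 35)) (.leaf (nat_lit
    84)))))) (.node (.node (.node (.node (.node (.leaf (nat_lit 3)) (.leaf (nat_lit 101))) (.leaf
    (nat_lit 43))) (.node (.leaf (nat_lit 24)) (.leaf (nat_lit 67)))) (.node (.node (.node (.leaf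
    (nat_lit 13)) (.leaf (nat_lit 112))) (.leaf (nat_lit 55))) (.node (.leaf (nat_lit 33)) (.leaf
    (nat_lit 81))))) (.node (.node (.node (.node (.leaf (nat_lit 8)) (.leaf (nat_lit 105))) (.leaf
    (nat_lit 49))) (.node (.leaf (nat_lit 28)) (.leaf (nat_lit 75)))) (.node (.node (.node (.leaf
    (nat_lit 18)) (.leaf (nat_lit 133))) (.leaf (nat_lit 61))) (.node (.leaf (nat_lit 38)) (.leaf
    (nat_lit 87)))))))))

noncomputable def adj : Trie :=
    (.node (.node (.node (.node (.node (.node (.node (.node (.leaf (nat_lit
    1552845522671503151127731292112061076982984605697)) (.leaf (nat_lit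
    11692013098987838022085341553098060580333444677633))) (.leaf (nat_lit
    713798411208589585910662683870973037858783232))) (.node (.node (.leaf (nat_lit
    730750905799005038802080948466129933434980696064)) (.leaf (nat_lit
    1484516006397739552443249028810010163528788346883))) (.leaf (nat_lit
    23475392350385288187112995494370439755007558419456)))) (.node (.node (.node (.leaf (nat_lit
    23384026198658287268069631507757528295747522461696)) (.leaf (nat_lit
    468315650539909535856024952785731557223565316))) (.leaf (nat_lit
    92771100025887392268789910277266157896869085568))) (.node (.leaf (nat_lit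
    2854495726443276138725193622771623834064781316)) (.leaf (nat_lit
    457432885533532982108597879781584585590122227713))))) (.node (.node (.node (.node (.leaf
    (nat_lit 23475370052350551673034372072192581090790734856448)) (.leaf (nat_lit
    753592444047415519211772390619868857537141014532))) (.leaf (nat_lit
    2854495385412244597931360410630305891017293824))) (.node (.leaf (nat_lit
    91344113670039268233918128424956547447790764576)) (.leaf (nat_lit
    1427334826425713751926709587507377674014162948)))) (.node (.node (.node (.leaf (nat_lit
    89203023329745451466712840021668999233273856)) (.leaf (nat_lit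
    5851715541466198971319503855725731251868687925268))) (.leaf (nat_lit
    365375431116114205980404209608285986119359660160))) (.node (.leaf (nat_lit
    47099176581723064283779164543155427659311230976)) (.leaf (nat_lit
    2923025598632605179292049056509356301838064812032)))))) (.node (.node (.node (.node (.node
    (.leaf (nat_lit 30335525287599618414455808800853973854901594226704)) (.leaf (nat_lit
    23384028990334866296964192256594017641898713284610))) (.leaf (nat_lit
    12335318877633755858084825274307552772352))) (.node (.node (.leaf (nat_lit
    1461502339673708243655852869269427974302118971392)) (.leaf (nat_lit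
    23384070806951620639816630095141316065972132578586))) (.leaf (nat_lit
    11418161212066642569888810448805066923763044416)))) (.node (.node (.node (.leaf (nat_lit
    17305378274059845955130408398894043495358529536)) (.leaf (nat_lit
    411426448167691466377980632987246296821762917004))) (.leaf (nat_lit
    5869201066916126061382695533050795089780116357120))) (.node (.leaf (nat_lit
    5890532774706281985954576966482471932431171840)) (.leaf (nat_lit
    1486353472496531119213953756963644505198656))))) (.node (.node (.node (.node (.leaf (nat_lit
    91346640606981659273472826897083437303872884736)) (.leaf (nat_lit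
    182689457801366471700891321974081588072779088992))) (.leaf (nat_lit
    182955313608766001445546518896212731099464532096))) (.node (.leaf (nat_lit
    46385550183090071891761959840866357966566064128)) (.leaf (nat_lit
    89213869913346360525608698909656950086060032)))) (.node (.node (.node (.leaf (nat_lit
    11703431123760964726509963218909108090377645129728)) (.leaf (nat_lit
    91344549242107983941709123041162297669276668673))) (.leaf (nat_lit
    45761130508514309545501575189564450401402490880))) (.node (.leaf (nat_lit
    11760520988578338767760045775489665435820919623680)) (.leaf (nat_lit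
    1495755592866154562720932250305363925068857475080))))))) (.node (.node (.node (.node (.node
    (.node (.leaf (nat_lit 6266596693858449799718715594473989845951709188)) (.leaf (nat_lit
    5709003022318317244192985029211333476369891840))) (.leaf (nat_lit
    730765453529508769081315589470782884495346376768))) (.node (.node (.leaf (nat_lit
    182687966003262198609332188239951926832115220480)) (.leaf (nat_lit
    5874551503183712406716617643710886104581997068400))) (.leaf (nat_lit
    44602277300055360488532098371677855722504224)))) (.node (.node (.node (.leaf (nat_lit
    182687704666375845520701949465320704754055421952)) (.leaf (nat_lit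
    730862322391444446882260390917109149025794261008))) (.leaf (nat_lit
    43560464254950702069911810542016432963584))) (.node (.leaf (nat_lit
    182815961173843933060530149906985251547966865408)) (.leaf (nat_lit
    1461501637373458983256246329231696340679619805185))))) (.node (.node (.node (.node (.leaf
    (nat_lit 35809646189583280662827970532987034015178826974336)) (.leaf (nat_lit
    2923183425591371695065121027562879797431638163456))) (.leaf (nat_lit
    2854495385414678803658272888468655992068898848))) (.node (.leaf (nat_lit
    566230523170766505561725732311839398691072)) (.leaf (nat_lit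
    23498217859981810606805472740557062922334511366144)))) (.node (.node (.node (.leaf (nat_lit
    365376106231013863093664460829267117095616774160)) (.leaf (nat_lit
    7330360962430262507905176553945825991538641993728))) (.leaf (nat_lit
    11424950524854526952562109383519965041148297248))) (.node (.leaf (nat_lit
    11417981630041340768164402636932382056763621376)) (.leaf (nat_lit
    5846006552146893233936424763629546752352391930016)))))) (.node (.node (.node (.node (.node
    (.leaf (nat_lit 5846010730755954771191559054378872908566868525120)) (.leaf (nat_lit
    21864471951703500564227670896203152752673))) (.leaf (nat_lit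
    758225507721999750553038975714954327317676032))) (.node (.leaf (nat_lit
    25690480246778760799110809107803263025423582720)) (.leaf (nat_lit
    5754300070144056324627504244737678711558504448)))) (.node (.node (.node (.leaf (nat_lit
    152786813911424035590856635765575670300672)) (.leaf (nat_lit
    2924430522354512465607946723074873007941066178562))) (.leaf (nat_lit
    43566776830450913470687015757739240456194))) (.node (.leaf (nat_lit
    730750818665825953512764243235842061497027002368)) (.leaf (nat_lit
    365378197266491523023986567813309565985412366336))))) (.node (.node (.node (.node (.leaf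
    (nat_lit 1432823389761774596683457743705691631191605250)) (.leaf (nat_lit
    388217037479401045557025599320768617391987900416))) (.leaf (nat_lit
    2854496746562176915714551266843543661994574400))) (.node (.leaf (nat_lit
    11692013099327803656361931240363568929489657266180)) (.leaf (nat_lit
    2854495391062436818421933828021314110992943616)))) (.node (.node (.node (.leaf (nat_lit
    2924430523035097746323031923192458550368123486208)) (.leaf (nat_lit
    365740584035689167800978104371463450998545088528))) (.leaf (nat_lit
    243490735821501224756301690568960))) (.node (.leaf (nat_lit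
    1461501637330902918312638160096356584980795228160)) (.leaf (nat_lit
    730750840705380857528445156066529625214422097922)))))))) (.node (.node (.node (.node (.node
    (.node (.node (.leaf (nat_lit 25580738851416238621538242442042948346616616075266)) (.leaf
    (nat_lit 680606313098477072354070621915852084224))) (.leaf (nat_lit
    5575188960725361841635200623871855594438657))) (.node (.node (.leaf (nat_lit
    11692080000885477718009645747967878044524493160448)) (.leaf (nat_lit
    2924475472295392199700500797680682331923552403584))) (.leaf (nat_lit
    5846006723559484570606290001474956524893102948360)))) (.node (.node (.node (.leaf (nat_lit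
    11692727509231808635512611629559936896080581623808)) (.leaf (nat_lit
    26307074073449318434885421685287830071563218059304))) (.leaf (nat_lit
    23193646793946431215150266416893905885724672))) (.node (.leaf (nat_lit
    11692013098691090465638814989538626862944297680904)) (.leaf (nat_lit
    2923047881596814239873326581006253886220005613572))))) (.node (.node (.node (.node (.leaf
    (nat_lit 103118647159136377345248834167554021290470801920)) (.leaf (nat_lit
    730750992890023324048609466644252162190661911552))) (.leaf (nat_lit
    680564733861764389456554703670584287232))) (.node (.leaf (nat_lit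
    2923003459817948909663492879762221062502874349696)) (.leaf (nat_lit
    440326712064294667297329503694771825147904)))) (.node (.node (.node (.leaf (nat_lit
    182776908328054033496443534024334099134705303560)) (.leaf (nat_lit
    11418025119058304271241607127653856642782986760))) (.leaf (nat_lit
    5720142845001092992581795209854823568188375040))) (.node (.leaf (nat_lit
    2928712265432671214317614361677004757640349220864)) (.leaf (nat_lit
    44606937574037010135213695171054477714194432)))))) (.node (.node (.node (.node (.node (.leaf
    (nat_lit 5846052566393972038100146171426242198504950726688)) (.leaf (nat_lit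
    1406068008257098877315983405181664317410305))) (.leaf (nat_lit
    23549588545992177060349292432422252745345531904))) (.node (.leaf (nat_lit
    735924644720650677554590828805551263039094784)) (.leaf (nat_lit
    3653754442127317215977669420527104819794736058369)))) (.node (.node (.node (.leaf (nat_lit
    1427292609978560799573494057334630362457833472)) (.leaf (nat_lit
    713623846358172247291351031698105743660154896))) (.leaf (nat_lit
    11692013452881167492868144250316858482305685520384))) (.node (.leaf (nat_lit
    11417982222399335578488410287154110514801411072)) (.leaf (nat_lit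
    182689098463104595877858200032876266162030125056))))) (.node (.node (.node (.node (.leaf
    (nat_lit 11150463168499414993775702185771279506483200)) (.leaf (nat_lit
    365378202370728319800819497733722228436278186176))) (.leaf (nat_lit
    713645624424462885620087166028579005935124768))) (.node (.leaf (nat_lit
    45673319963165948876442541148531511286602661888)) (.leaf (nat_lit
    1427269473602701349270210708857214619543994369)))) (.node (.node (.node (.leaf (nat_lit
    365375409332741306606145567414739026018071298048)) (.leaf (nat_lit
    182878654797294032884012461133037022048889864200))) (.leaf (nat_lit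
    724774219076860704144722805963150492912586768))) (.node (.leaf (nat_lit
    23429698145621947322366996039182339309930438197264)) (.leaf (nat_lit
    5577951114633075844576661239240713765388360))))))) (.node (.node (.node (.node (.node (.node
    (.leaf (nat_lit 23624205223146424446449429296184863285682349539336)) (.leaf (nat_lit
    23429704049866591950930178331343025150742728149248))) (.leaf (nat_lit
    91527833566181450591868318237855459474237575168))) (.node (.node (.leaf (nat_lit
    548777086297243757299776858505710779748788994048)) (.leaf (nat_lit
    11692013795885793166634904863890786768456077411456))) (.leaf (nat_lit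
    45683773437477436226340913538349296211967606820)))) (.node (.node (.node (.leaf (nat_lit
    742525612130275792915209343164896564346284941312)) (.leaf (nat_lit
    1644368096578138938465743287891284005784623513606))) (.leaf (nat_lit
    223181676577938939352480041748455689538273280))) (.node (.leaf (nat_lit
    365436779948798481146273953858243118874222395392)) (.leaf (nat_lit
    22301425804802849809604541183065657253660672))))) (.node (.node (.node (.node (.leaf (nat_lit
    1461523951687444478928860012552407116906011568128)) (.leaf (nat_lit
    11783357647878692329074455472151203295153115758592))) (.leaf (nat_lit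
    1427291291389413923182877272316816502955180128))) (.node (.leaf (nat_lit
    180496659110361296839292634607027602315018752)) (.leaf (nat_lit
    5714576846159375929171932992977784142272397312)))) (.node (.node (.node (.leaf (nat_lit
    5708996223318538725905842478022766001628676096)) (.leaf (nat_lit
    46028740982167325630883724589400719485560684552))) (.leaf (nat_lit
    11692013098838632178313059038383421310514730647872))) (.node (.leaf (nat_lit
    2923003274831948317961860874912495912457173207104)) (.leaf (nat_lit
    97052843119958606782874763062935023224296046596)))))) (.node (.node (.node (.node (.node (.leaf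
    (nat_lit 14615375972830672400318611370572917047289926648960)) (.leaf (nat_lit
    11429175470389910240242623661349951027078496258))) (.leaf (nat_lit
    10276183387484572688755594933792662298980763566080))) (.node (.leaf (nat_lit
    92036852345850209294687162431754777875449856)) (.leaf (nat_lit
    5857514430744351323172666808474864123161746604544)))) (.node (.node (.node (.leaf (nat_lit
    2854843857157716929781163443834353207421698064)) (.leaf (nat_lit
    2854495385415813984760798912131359937249936402))) (.leaf (nat_lit
    368147582183000358383405227119923677678796929))) (.node (.leaf (nat_lit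
    5846095752474547668389663022241843629608759459904)) (.leaf (nat_lit
    7307508186655179205214389446837200133525352743168))))) (.node (.node (.node (.node (.leaf
    (nat_lit 365732221936529260925374796240652903771600617728)) (.leaf (nat_lit
    205534861678400535838228218405236530489120006144))) (.leaf (nat_lit
    24265998369151154588293790486950404199788052608))) (.node (.leaf (nat_lit
    2140871539142990285441437625279034160432284168)) (.leaf (nat_lit
    185544987655561021138634806935447638627099873281)))) (.node (.node (.node (.leaf (nat_lit
    43408413033735324078372072748006506496)) (.leaf (nat_lit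
    730840283068173971140684315499038056420968236050))) (.leaf (nat_lit
    1461861242292577903339662198850380460970829939200))) (.node (.leaf (nat_lit
    2876796130610455455882307059891031087667118082)) (.leaf (nat_lit
    45850332383390736372331908721077358131907936260)))))))))


/-- The check on all elements of a coset. -/
noncomputable def row (i : ℕ) : Bool := force (mMul mOne (L0.T.get i))
  (menum mMul (invChk mMul mOne PT 165 (PT.get 65) (PT.get 87) (PT.get 0)) [L1, L2])

theorem en0 : allR row 0 4 = true := by decide +kernel

theorem en1 : allR row 4 4 = true := by decide +kernel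

theorem en2 : allR row 8 3 = true := by decide +kernel

theorem tree : allB (treeChk mMul mOne L0.S PT QT) 165 = true := by decide +kernel

theorem adj0 : allR (adjChk mMul PT adj) 0 90 = true := by decide +kernel

theorem adj1 : allR (adjChk mMul PT adj) 90 40 = true := by decide +kernel

theorem adj2 : allR (adjChk mMul PT adj) 130 35 = true := by decide +kernel

theorem ref : RefOK 24 16777216 16777213 165 adj 4 [(0, 0, 165), (65, 1, 12), (11, 2, 4)] [] :=
  ⟨by decide, by decide +kernel, by decide, by decide +kernel, by decide, by decide +kernel,
    refOK_nil (by decide +kernel)⟩

/-- Let H be a finite group whose commuting graph (vertices the non-identity elements, two joined when they commute) is isomorphic to that of the Mathieu group M_11: there is a bijection between the non-identity elements of H and of M_11 under which two elements commute exactly when their images do. Then H ≅ M_11. -/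
theorem result {H : Type*} [Group H] [Finite H]
    (f : {h : H // h ≠ 1} ≃ {g : ↥Cfsg.Spor.M11 // g ≠ 1})
    (hf : ∀ x y : {h : H // h ≠ 1}, (x : H) * y = y * x ↔ ((f x) : ↥Cfsg.Spor.M11) * (f y) = (f y) * (f x)) :
    Nonempty (H ≃* ↥Cfsg.Spor.M11) := by
  refine iso_of_commGraph K_canon R_one (by decide +kernel) S_In
    (by
      rw [show PT.get 0 = wd [0, 0, 1, 0, 0, 1] by decide +kernel]
      exact (wd_In _).mono le_top) tree (allB_of_allR (allR_append (allR_append adj0 adj1) adj2))
    (ia := 65) (ib := 87) (ic := 1) (by norm_num)
    (by norm_num) (by norm_num) (by norm_num) (by decide +kernel) (by decide +kernel)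
    (by decide +kernel) (forall_of_chk (allB_of_allR (allR_append (allR_append en0 en1) en2)))
    Golay.card_M11 ((card_le_of_refOK (by norm_num) (by norm_num) (by norm_num) ref le_rfl
      (by simp)).trans (by norm_num)) eq_top_of_sq f hf

end Cfsg.Agent.S3413
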