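import Cfsg.Statements.S3501
import Cfsg.Agent.H3.Frobenius
import Cfsg.Agent.H3.GroupUtil

set_option autoImplicit false
open Cfsg

namespace Cfsg.Agent.S3501

/-- Let a finite group G act faithfully and primitively on a finite set Ω with at least two points, and suppose G is not almost simple (it has no non-abelian simple normal subgroup with trivial centralizer). Then the derangements of G form a single conjugacy class if and only if G is sharply 2-transitive (2-transitive, and no non-identity element fixes two points). -/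
theorem result {G : Type*} [Group G] [Finite G] {Ω : Type*} [Fintype Ω] [MulAction G Ω] [FaithfulSMul G Ω] (hΩ : 2 ≤ Fintype.card Ω) (hprim : MulAction.IsPreprimitive G Ω) (hnas : ¬ ∃ T : Subgroup G, T.Normal ∧ IsSimpleGroup T ∧ ¬ IsMulCommutative T ∧ Subgroup.centralizer (T : Set G) = ⊥) :
    Nat.card {c : ConjClasses G // ∃ g : G, ConjClasses.mk g = c ∧ ∀ ω : Ω, g • ω ≠ ω} = 1 ↔ (MulAction.IsMultiplyPretransitive G Ω 2 ∧ ∀ g : G, g ≠ 1 → ∀ a b : Ω, a ≠ b → g • a = a → g • b ≠ b) := by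
  classical
  have hnt : Nontrivial Ω := Fintype.one_lt_card_iff_nontrivial.mp hΩ
  have hL : Nat.card {c : ConjClasses G // ∃ g : G, ConjClasses.mk g = c ∧ ∀ ω : Ω, g • ω ≠ ω} = 1
      ↔ ∀ x y : G, (∀ ω : Ω, x • ω ≠ ω) → (∀ ω : Ω, y • ω ≠ ω) → IsConj x y := by
    rw [Nat.card_eq_one_iff_unique]
    constructor
    · rintro ⟨h, -⟩ x y hx hy
      have := h.elim ⟨ConjClasses.mk x, x, rfl, hx⟩ ⟨ConjClasses.mk y, y, rfl, hy⟩
      exact ConjClasses.mk_eq_mk_iff_isConj.mp (congrArg Subtype.val this)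
    · intro h
      obtain ⟨x, hx⟩ := H3.exists_derangement (G := G) (Ω := Ω)
      refine ⟨⟨?_⟩, ⟨⟨ConjClasses.mk x, x, rfl, hx⟩⟩⟩
      rintro ⟨_, y, rfl, hy⟩ ⟨_, z, rfl, hz⟩
      exact Subtype.ext (ConjClasses.mk_eq_mk_iff_isConj.mpr (h y z hy hz))
  rw [hL]
  obtain ⟨a⟩ : Nonempty Ω := inferInstance
  refine ⟨fun hconj => ?_, fun ⟨h2, hsh⟩ x y hx hy => ?_⟩
  swap
  · obtain ⟨K, hKN, -, hmem, htK⟩ := H3.exists_frobeniusKernel_action (G := G)
      (fun g a b hab ha hb => by_contra fun hg => hsh g hg a b hab ha hb) a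
    have hr : MulAction.stabilizer K a = ⊥ := by
      rw [Subgroup.eq_bot_iff_forall]
      intro k hk
      exact Subtype.ext (((hmem k).mp k.2).resolve_right (fun h => h a hk))
    obtain ⟨g, hg1, hg2⟩ := MulAction.is_two_pretransitive_iff.mp h2 (hx a).symm (hy a).symm
    exact isConj_iff.mpr ⟨g, (H3.conj_eq_of_regular hr hg1 ((hmem x).mpr (Or.inr hx))
      ((hmem y).mpr (Or.inr hy))).mp hg2⟩
  set D := H3.derSubgroup G Ω with hDdef
  have hDN : D.Normal := H3.derSubgroup_normal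
  obtain ⟨htD, hD2⟩ := H3.derSubgroup_spec (G := G) (Ω := Ω)
  have hDb : D ≠ ⊥ := by
    obtain ⟨x, hx⟩ := H3.exists_derangement (G := G) (Ω := Ω)
    intro h
    have h1 : x ∈ D := Subgroup.subset_closure hx
    rw [h, Subgroup.mem_bot] at h1
    exact hx a (by rw [h1, one_smul])
  have hmin : ∀ M : Subgroup G, M.Normal → M ≠ ⊥ → D ≤ M := by
    intro M hM hb
    have := H3.isPretransitive_of_normal (Ω := Ω) hb
    obtain ⟨x, hx⟩ := H3.exists_derangement (G := M) (Ω := Ω)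
    rw [hDdef, Subgroup.closure_le]
    intro y hy
    obtain ⟨c, rfl⟩ := isConj_iff.mp (hconj x y hx hy)
    exact hM.conj_mem _ x.2 c
  by_cases hreg : ∀ b : Ω, MulAction.stabilizer D b = ⊥
  · have hder : ∀ x ∈ D, x ≠ 1 → ∀ ω : Ω, x • ω ≠ ω := fun x hx hx1 ω hω =>
      hx1 (H3.eq_one_of_regular (hreg ω) hx hω)
    obtain ⟨p, -, -, -, hcomm⟩ := H3.elementary_abelian_of_conj hDb
      (fun x hx y hy hx1 hy1 => hconj x y (hder x hx hx1) (hder y hy hy1))
    refine ⟨?_, fun g hg a b hab ha hb => hg (H3.eq_one_of_regular (hreg a) (hD2 g ?_) ha)⟩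
    · rw [MulAction.is_two_pretransitive_iff]
      intro a b c d hab hcd
      obtain ⟨u, rfl⟩ := MulAction.exists_smul_eq G a c
      obtain ⟨x, rfl⟩ := MulAction.exists_smul_eq D a b
      obtain ⟨y, hy⟩ := MulAction.exists_smul_eq D a (u⁻¹ • d)
      have hx1 : (x : G) ≠ 1 := fun h => hab (by rw [Subgroup.smul_def, h, one_smul])
      have hy1 : (y : G) ≠ 1 := fun h => hcd (by
        rw [Subgroup.smul_def, h, one_smul, eq_inv_smul_iff] at hy; exact hy)
      obtain ⟨g, hg⟩ := isConj_iff.mp (hconj x y (hder x x.2 hx1) (hder y y.2 hy1))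
      obtain ⟨n, hn, h, hh, rfl⟩ := H3.exists_mul_stabilizer (N := D) a g
      have h1 : h * x * h⁻¹ = y := by
        rw [← hg]
        have := hcomm n hn _ (hDN.conj_mem x x.2 h)
        calc h * x * h⁻¹ = n * (h * x * h⁻¹) * n⁻¹ := by rw [this]; group
          _ = n * h * x * (n * h)⁻¹ := by group
      have h2 := (H3.conj_eq_of_regular (hreg a) hh x.2 y.2).mpr h1
      refine ⟨u * h, by rw [mul_smul, hh], ?_⟩
      rw [mul_smul, Subgroup.smul_def, h2, ← Subgroup.smul_def, hy, smul_inv_smul]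
    · have := H3.two_le_card_fixedBy hab ha hb
      omega
  exfalso
  push Not at hreg
  obtain ⟨a, hreg⟩ := hreg
  have hnc : ¬ ∀ x ∈ D, ∀ y ∈ D, x * y = y * x := by
    intro h
    apply hreg
    rw [Subgroup.eq_bot_iff_forall]
    intro g hg
    exact Subtype.ext (H3.eq_one_of_commute_transitive (N := D) hg (h g g.2))
  have hCD : Subgroup.centralizer (D : Set G) = ⊥ := by
    by_contra h
    exact hnc (fun x hx y hy => (Subgroup.mem_centralizer_iff.mp
      (hmin _ inferInstance h hy) x hx))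
  -- a minimal normal subgroup of `D`
  obtain ⟨T, ⟨hTD, hTb, hTn⟩, hTmin⟩ := (wellFounded_lt (α := Subgroup G)).has_min
    {T | T ≤ D ∧ T ≠ ⊥ ∧ ∀ d ∈ D, ∀ t ∈ T, d * t * d⁻¹ ∈ T}
    ⟨D, le_rfl, hDb, fun d _ t ht => hDN.conj_mem t ht d⟩
  have hTmin' : ∀ S : Subgroup G, S ≤ T → (∀ d ∈ D, ∀ t ∈ S, d * t * d⁻¹ ∈ S) →
      S = ⊥ ∨ S = T := by
    intro S hS hSn
    by_contra hcon
    push Not at hcon
    exact hTmin S ⟨hS.trans hTD, hcon.1, hSn⟩ (lt_of_le_of_ne hS hcon.2)
  have hconjT : ∀ g : G, (∀ t ∈ T, g * t * g⁻¹ ∈ T) ∨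
      ∀ t ∈ T, g * t * g⁻¹ ∈ Subgroup.centralizer (T : Set G) := by
    intro g
    let T' : Subgroup G := T.map (MulAut.conj g).toMonoidHom
    have hT' : ∀ d ∈ D, ∀ t ∈ T', d * t * d⁻¹ ∈ T' := by
      rintro d hd _ ⟨t, ht, rfl⟩
      refine ⟨g⁻¹ * d * g * t * (g⁻¹ * d * g)⁻¹,
        hTn _ (by simpa using hDN.conj_mem d hd g⁻¹) t ht, ?_⟩
      simp [mul_assoc]
    have hT'D : T' ≤ D := by
      rintro _ ⟨t, ht, rfl⟩
      exact hDN.conj_mem t (hTD ht) g
    rcases hTmin' (T ⊓ T') inf_le_left (fun d hd t ht => ⟨hTn d hd t ht.1, hT' d hd t ht.2⟩)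
      with h | h
    · right
      intro t ht
      rw [Subgroup.mem_centralizer_iff]
      intro s hs
      have hu : g * t * g⁻¹ ∈ T' := ⟨t, ht, rfl⟩
      generalize g * t * g⁻¹ = u at hu
      have h1 : s * u * s⁻¹ * u⁻¹ ∈ T ⊓ T' := by
        refine ⟨?_, T'.mul_mem (hT' s (hTD hs) u hu) (T'.inv_mem hu)⟩
        have := T.mul_mem hs (hTn u (hT'D hu) _ (T.inv_mem hs))
        simpa [mul_assoc] using this
      rw [h, Subgroup.mem_bot, mul_inv_eq_one, mul_inv_eq_iff_eq_mul] at h1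
      exact h1
    · left
      have h1 : T = T' := Subgroup.eq_of_le_of_card_ge (inf_eq_left.mp h)
        (Subgroup.card_map_of_injective (MulAut.conj g).injective).le
      intro t ht
      rw [h1]
      exact ⟨t, ht, rfl⟩
  have hDle : ∀ L : Subgroup G, (∀ g : G, ∀ t ∈ T, g * t * g⁻¹ ∈ L) → D ≤ L := by
    intro L hL
    refine (hmin (Subgroup.normalClosure T) inferInstance (fun h => hTb ?_)).trans ?_
    · rw [eq_bot_iff, ← h]; exact Subgroup.le_normalClosure
    · rw [Subgroup.normalClosure, Subgroup.closure_le]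
      intro x hx
      obtain ⟨t, ht, h⟩ := Group.mem_conjugatesOfSet_iff.mp hx
      obtain ⟨c, rfl⟩ := isConj_iff.mp h
      exact hL c t ht
  have hCn : ∀ d ∈ D, ∀ c ∈ Subgroup.centralizer (T : Set G),
      d * c * d⁻¹ ∈ Subgroup.centralizer (T : Set G) := by
    intro d hd c hc
    rw [Subgroup.mem_centralizer_iff] at hc ⊢
    intro t ht
    have := hc _ (hTn d⁻¹ (D.inv_mem hd) t ht)
    calc t * (d * c * d⁻¹) = d * (d⁻¹ * t * d⁻¹⁻¹ * c) * d⁻¹ := by group
      _ = d * c * d⁻¹ * t := by rw [this]; group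
  have hZ : T ⊓ Subgroup.centralizer (T : Set G) = ⊥ := by
    refine (hTmin' _ inf_le_left
      (fun d hd t ht => ⟨hTn d hd t ht.1, hCn d hd t ht.2⟩)).resolve_right (fun h => hTb ?_)
    have h1 : T ≤ Subgroup.centralizer (T : Set G) := inf_eq_left.mp h
    have h2 := hDle _ (fun g t ht => (hconjT g).elim (fun h => h1 (h t ht)) (fun h => h t ht))
    rw [eq_bot_iff, ← hCD]
    exact Subgroup.le_centralizer_iff.mp h2
  have hdec : ∀ d ∈ D, ∃ t ∈ T, ∃ c ∈ Subgroup.centralizer (T : Set G), d = t * c := by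
    let L : Subgroup G :=
      { carrier := {d | ∃ t ∈ T, ∃ c ∈ Subgroup.centralizer (T : Set G), d = t * c}
        one_mem' := ⟨1, T.one_mem, 1, Subgroup.one_mem _, by simp⟩
        mul_mem' := by
          rintro _ _ ⟨t, ht, c, hc, rfl⟩ ⟨t', ht', c', hc', rfl⟩
          refine ⟨t * t', T.mul_mem ht ht', c * c', Subgroup.mul_mem _ hc hc', ?_⟩
          have := Subgroup.mem_centralizer_iff.mp hc t' ht'
          calc t * c * (t' * c') = t * (c * t') * c' := by group
            _ = t * t' * (c * c') := by rw [← this]; group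
        inv_mem' := by
          rintro _ ⟨t, ht, c, hc, rfl⟩
          refine ⟨t⁻¹, T.inv_mem ht, c⁻¹, Subgroup.inv_mem _ hc, ?_⟩
          rw [Subgroup.mem_centralizer_iff.mp hc t ht, mul_inv_rev] }
    exact hDle L (fun g t ht => (hconjT g).elim
      (fun h => ⟨_, h t ht, 1, Subgroup.one_mem _, by simp⟩)
      (fun h => ⟨1, T.one_mem, _, h t ht, by simp⟩))
  set C := D ⊓ Subgroup.centralizer (T : Set G) with hCdef
  have hCb : C ≠ ⊥ := by
    intro hC
    have hTD' : T = D := by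
      refine le_antisymm hTD (fun d hd => ?_)
      obtain ⟨t, ht, c, hc, rfl⟩ := hdec d hd
      have : c ∈ C := ⟨(D.mul_mem_cancel_left (hTD ht)).mp hd, hc⟩
      rw [hC, Subgroup.mem_bot] at this
      simpa [this] using ht
    refine hnas ⟨D, hDN, ?_, fun h => hnc (fun x hx y hy =>
      congrArg Subtype.val (h.is_comm.comm ⟨x, hx⟩ ⟨y, hy⟩)), hCD⟩
    have : Nontrivial D := (Subgroup.nontrivial_iff_ne_bot D).mpr hDb
    refine ⟨fun S hS => ?_⟩
    rcases hTmin' (S.map D.subtype) (hTD' ▸ Subgroup.map_subtype_le S) (by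
      rintro d hd _ ⟨s, hs, rfl⟩
      exact ⟨_, hS.conj_mem s hs ⟨d, hd⟩, rfl⟩) with h | h
    · left
      exact (Subgroup.map_eq_bot_iff_of_injective S D.subtype_injective).mp h
    · right
      apply Subgroup.map_injective D.subtype_injective
      rw [h, hTD', ← MonoidHom.range_eq_map, Subgroup.range_subtype]
  obtain ⟨z, hz, hz1⟩ := (Subgroup.bot_or_exists_ne_one C).resolve_left hCb
  set L := (MulAction.stabilizer G a ⊓ D) ⊔ C with hLdef
  by_cases hLD : L.subgroupOf D = ⊤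
  · have hLD' : D ≤ L := Subgroup.subgroupOf_eq_top.mp hLD
    have h1 : L ≤ Subgroup.normalizer ((T ⊓ MulAction.stabilizer G a : Subgroup G) : Set G) := by
      refine sup_le (fun g hg => Subgroup.mem_normalizer_fintype (fun t ht => ⟨hTn g hg.2 t ht.1,
        Subgroup.mul_mem _ (Subgroup.mul_mem _ hg.1 ht.2) (Subgroup.inv_mem _ hg.1)⟩))
        (fun g hg => Subgroup.mem_normalizer_fintype (fun t ht => ?_))
      rw [← Subgroup.mem_centralizer_iff.mp hg.2 t ht.1]
      simpa using ht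
    rcases hTmin' (T ⊓ MulAction.stabilizer G a) inf_le_left (fun d hd t ht =>
      (Subgroup.mem_normalizer_iff.mp (h1 (hLD' hd)) t).mp ht) with h | h
    · have hder : ∀ t ∈ T, t ≠ 1 → ∀ ω : Ω, t • ω ≠ ω := by
        intro t ht ht1 ω hω
        obtain ⟨n, rfl⟩ := MulAction.exists_smul_eq D a ω
        have h2 : (n : G)⁻¹ * t * (n : G)⁻¹⁻¹ ∈ T ⊓ MulAction.stabilizer G a := by
          refine ⟨hTn _ (D.inv_mem n.2) t ht, ?_⟩
          change _ • a = a
          rw [inv_inv, mul_smul, mul_smul, inv_smul_eq_iff]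
          exact hω
        rw [h, Subgroup.mem_bot] at h2
        exact ht1 (conj_eq_one_iff.mp h2)
      obtain ⟨p, hp, hpT, -⟩ := H3.exists_prime_of_orderOf_eq hTb (fun x hx y hy hx1 hy1 =>
        H3.orderOf_eq_of_isConj (hconj x y (hder x hx hx1) (hder y hy hy1)))
      obtain ⟨w, hw, hw1, hwc⟩ := H3.exists_center_of_isPGroup hp hTb hpT
      have : w ∈ T ⊓ Subgroup.centralizer (T : Set G) :=
        ⟨hw, Subgroup.mem_centralizer_iff.mpr (fun y hy => (hwc y hy).symm)⟩
      rw [hZ, Subgroup.mem_bot] at this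
      exact hw1 this
    · apply hTb
      rw [Subgroup.eq_bot_iff_forall]
      intro t ht
      refine H3.eq_one_of_forall_smul (Ω := Ω) (fun ω => ?_)
      obtain ⟨n, rfl⟩ := MulAction.exists_smul_eq D a ω
      have h2 : (n : G)⁻¹ * t * (n : G)⁻¹⁻¹ ∈ MulAction.stabilizer G a :=
        (inf_eq_left.mp h) (hTn _ (D.inv_mem n.2) t ht)
      rw [MulAction.mem_stabilizer_iff, inv_inv, mul_smul, mul_smul, inv_smul_eq_iff] at h2
      exact h2
  · obtain ⟨y, hy⟩ := H3.exists_not_conj_mem hLD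
    obtain ⟨t, ht, c, hc, hytc⟩ := hdec y y.2
    have hcC : c ∈ C := ⟨(D.mul_mem_cancel_left (hTD ht)).mp (hytc ▸ y.2), hc⟩
    have hder : ∀ w ∈ C, ∀ ω : Ω, (t * w) • ω ≠ ω := by
      intro w hw ω hω
      obtain ⟨n, rfl⟩ := MulAction.exists_smul_eq D a ω
      apply hy n
      rw [Subgroup.mem_subgroupOf]
      have h2 : (n : G)⁻¹ * (t * w) * n ∈ MulAction.stabilizer G a ⊓ D := by
        refine ⟨?_, D.mul_mem (D.mul_mem (D.inv_mem n.2) (D.mul_mem (hTD ht) hw.1)) n.2⟩
        change _ • a = a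
        rw [mul_smul, mul_smul, inv_smul_eq_iff]
        exact hω
      have h3 : (n : G)⁻¹ * (w⁻¹ * c) * (n : G)⁻¹⁻¹ ∈ C :=
        have h4 := C.mul_mem (C.inv_mem hw) hcC
        ⟨hDN.conj_mem _ h4.1 _, hCn _ (D.inv_mem n.2) _ h4.2⟩
      have h5 := Subgroup.mul_mem_sup h2 h3
      convert h5 using 1
      simp only [Subgroup.coe_mul, Subgroup.coe_inv, hytc]
      group
    have h1 := hder 1 C.one_mem
    rw [mul_one] at h1
    obtain ⟨g, hg⟩ := isConj_iff.mp (hconj t (t * z) h1 (hder z hz))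
    rcases hconjT g with h | h
    · have h2 := h t ht
      rw [hg] at h2
      have h3 : z ∈ T ⊓ Subgroup.centralizer (T : Set G) :=
        ⟨(T.mul_mem_cancel_left ht).mp h2, hz.2⟩
      rw [hZ, Subgroup.mem_bot] at h3
      exact hz1 h3
    · have h2 := h t ht
      rw [hg] at h2
      have h3 : t ∈ T ⊓ Subgroup.centralizer (T : Set G) :=
        ⟨ht, (Subgroup.mul_mem_cancel_right _ hz.2).mp h2⟩
      rw [hZ, Subgroup.mem_bot] at h3
      exact h1 a (by rw [h3, one_smul])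

end Cfsg.Agent.S3501
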