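import Cfsg.Statements.S3520
import Cfsg.Agent.H7.Socle
import Cfsg.Agent.H3.CharInt

set_option autoImplicit false
open Cfsg

namespace Cfsg.Agent.S3520

open Subgroup MulAction Cfsg.Agent.H7
open scoped Pointwise

theorem exists_three_primes {T : Type*} [Group T] [Finite T] (h : ¬ Group.IsSolvable T) :
    ∃ x y z : T, (orderOf x).Prime ∧ (orderOf y).Prime ∧ (orderOf z).Prime ∧
      orderOf x ≠ orderOf y ∧ orderOf x ≠ orderOf z ∧ orderOf y ≠ orderOf z := by
  have h3 : 2 < (Nat.card T).primeFactors.card := by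
    by_contra hcon
    apply h
    have h0 : Nat.card T ≠ 0 := Nat.card_pos.ne'
    have hsub : ∃ p q : ℕ, p.Prime ∧ q.Prime ∧ (Nat.card T).primeFactors ⊆ {p, q} := by
      rcases Nat.lt_or_ge (Nat.card T).primeFactors.card 2 with h2 | h2
      · obtain h1 | h1 : (Nat.card T).primeFactors.card = 0 ∨ (Nat.card T).primeFactors.card = 1 := by
          omega
        · exact ⟨2, 2, Nat.prime_two, Nat.prime_two, by simp [Finset.card_eq_zero.1 h1]⟩
        · obtain ⟨p, hp⟩ := Finset.card_eq_one.1 h1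
          have : p.Prime := Nat.prime_of_mem_primeFactors (by rw [hp]; simp)
          exact ⟨p, p, this, this, by simp [hp]⟩
      · obtain ⟨p, q, -, hpq⟩ := Finset.card_eq_two.1 (le_antisymm (not_lt.1 hcon) h2)
        exact ⟨p, q, Nat.prime_of_mem_primeFactors (by rw [hpq]; simp),
          Nat.prime_of_mem_primeFactors (by rw [hpq]; simp), hpq.le⟩
    obtain ⟨p, q, hp, hq, hpq⟩ := hsub
    refine H3.isSolvable_of_card_dvd_prime_pow_mul hp hq (a := Nat.card T) (b := Nat.card T) ?_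
    rw [← mul_pow]
    apply (Nat.dvd_pow_self_iff h0 (mul_ne_zero hp.ne_zero hq.ne_zero)).2
    rw [Nat.primeFactors_mul hp.ne_zero hq.ne_zero, hp.primeFactors, hq.primeFactors]
    exact hpq
  obtain ⟨p, q, r, hp, hq, hr, hpq, hpr, hqr⟩ := Finset.two_lt_card_iff.1 h3
  have key : ∀ p ∈ (Nat.card T).primeFactors, ∃ x : T, orderOf x = p := fun p hp =>
    have : Fact p.Prime := ⟨Nat.prime_of_mem_primeFactors hp⟩
    exists_prime_orderOf_dvd_card' p (Nat.dvd_of_mem_primeFactors hp)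
  obtain ⟨x, rfl⟩ := key p hp
  obtain ⟨y, rfl⟩ := key q hq
  obtain ⟨z, rfl⟩ := key r hr
  exact ⟨x, y, z, Nat.prime_of_mem_primeFactors hp, Nat.prime_of_mem_primeFactors hq,
    Nat.prime_of_mem_primeFactors hr, hpq, hpr, hqr⟩

theorem two_classes {G Ω : Type*} [Group G] [MulAction G Ω]
    (hκ : Nat.card {c : ConjClasses G // ∃ g : G, ConjClasses.mk g = c ∧ ∀ ω : Ω, g • ω ≠ ω} = 2) :
    ∃ x y : G, (∀ ω : Ω, x • ω ≠ ω) ∧ (∀ ω : Ω, y • ω ≠ ω) ∧ ¬ IsConj x y ∧
      ∀ g : G, (∀ ω : Ω, g • ω ≠ ω) → IsConj x g ∨ IsConj y g := by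
  obtain ⟨⟨_, x, rfl, hx⟩, ⟨_, y, rfl, hy⟩, hne, huniv⟩ := Nat.card_eq_two_iff.1 hκ
  refine ⟨x, y, hx, hy, fun h => hne (Subtype.ext (ConjClasses.mk_eq_mk_iff_isConj.2 h)),
    fun g hg => ?_⟩
  have : (⟨ConjClasses.mk g, g, rfl, hg⟩ :
      {c : ConjClasses G // ∃ g : G, ConjClasses.mk g = c ∧ ∀ ω : Ω, g • ω ≠ ω}) ∈ Set.univ :=
    trivial
  rw [← huniv] at this
  rcases this with h | h
  · exact Or.inl (ConjClasses.mk_eq_mk_iff_isConj.1 (congrArg Subtype.val h)).symm
  · exact Or.inr (ConjClasses.mk_eq_mk_iff_isConj.1 (congrArg Subtype.val h)).symm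

theorem orderOf_eq_of_isConj {G : Type*} [Group G] {x y : G} (h : IsConj x y) :
    orderOf x = orderOf y := by
  obtain ⟨c, rfl⟩ := isConj_iff.1 h
  exact (orderOf_injective (MulAut.conj c).toMonoidHom (MulAut.conj c).injective x).symm

theorem orderOf_eq_of_isConj_mul {G : Type*} [Group G] [Finite G] {N T T₂ : Subgroup G} [N.Normal]
    (hF : fittingIn N = ⊥) (hT : CompIn T N) (hT₂ : CompIn T₂ N) (hne : T ≠ T₂) {t y z : G}
    (ht : t ∈ T) (hy : y ∈ T₂) (hz : z ∈ T₂) (ht1 : t ≠ 1) (hy1 : y ≠ 1)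
    (h : IsConj (t * y) (t * z)) : orderOf y = orderOf z := by
  obtain ⟨g, hg⟩ := isConj_iff.1 h
  have hg' : (g * t * g⁻¹) * (g * y * g⁻¹) = t * z := by rw [← hg]; group
  have hs : ∀ L, CompIn L N → CompIn (MulAut.conj g • L) N := fun L hL => by
    have := hL.smul g
    rwa [conj_smul_of_normal g N] at this
  have hcomm : ∀ {L K : Subgroup G}, CompIn L N → CompIn K N → L ≠ K → ∀ {a b : G}, a ∈ L → b ∈ K →
      Commute a b := fun hL hK h _ _ ha hb =>
    commute_of_commutator_eq_bot ((hL.eq_or_commutator hK).resolve_left h) ha hb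
  have hcen : ∀ {L : Subgroup G}, CompIn L N → ∀ a ∈ L, (∀ u ∈ L, Commute u a) → a = 1 := by
    intro L hL a ha h
    rw [← mem_bot, ← hL.1.centralizer_inf_eq_bot hF]
    exact ⟨h, ha⟩
  have hne' : MulAut.conj g • T ≠ MulAut.conj g • T₂ := fun h => hne (smul_left_cancel _ h)
  have ht' : g * t * g⁻¹ ∈ MulAut.conj g • T := conj_mem_conj_smul.2 ht
  have hy' : g * y * g⁻¹ ∈ MulAut.conj g • T₂ := conj_mem_conj_smul.2 hy
  have o1 : orderOf t = orderOf (g * t * g⁻¹) := orderOf_eq_of_isConj (isConj_iff.2 ⟨g, rfl⟩)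
  have o2 : orderOf y = orderOf (g * y * g⁻¹) := orderOf_eq_of_isConj (isConj_iff.2 ⟨g, rfl⟩)
  have ht1' : g * t * g⁻¹ ≠ 1 := fun h => ht1 (by simpa using h)
  have hy1' : g * y * g⁻¹ ≠ 1 := fun h => hy1 (by simpa using h)
  have c1 := hs T hT
  have c2 := hs T₂ hT₂
  generalize g * t * g⁻¹ = t' at *
  generalize g * y * g⁻¹ = y' at *
  generalize MulAut.conj g • T = T' at *
  generalize MulAut.conj g • T₂ = T₂' at *
  have hty : Commute t' y' := hcomm c1 c2 hne' ht' hy'
  have h1 : T' = T ∨ T' = T₂ := by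
    by_contra hcon
    push Not at hcon
    apply ht1'
    refine hcen c1 _ ht' fun u hu => ?_
    have e1 : Commute u (t' * y') := by
      rw [hg']; exact (hcomm c1 hT hcon.1 hu ht).mul_right (hcomm c1 hT₂ hcon.2 hu hz)
    have := e1.mul_right (hcomm c1 c2 hne' hu hy').inv_right
    simpa using this
  have h2 : T₂' = T ∨ T₂' = T₂ := by
    by_contra hcon
    push Not at hcon
    apply hy1'
    refine hcen c2 _ hy' fun u hu => ?_
    have e1 : Commute u (t' * y') := by
      rw [hg']; exact (hcomm c2 hT hcon.1 hu ht).mul_right (hcomm c2 hT₂ hcon.2 hu hz)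
    have := (hcomm c2 c1 hne'.symm hu ht').inv_right.mul_right e1
    simpa using this
  have key : ∀ {a b : G}, a ∈ T → b ∈ T₂ → a * b = t * z → a = t ∧ b = z := by
    intro a b ha hb hab
    have e1 : t⁻¹ * a = z * b⁻¹ := by
      rw [inv_mul_eq_iff_eq_mul, ← mul_assoc, ← hab, mul_inv_cancel_right]
    have e2 : t⁻¹ * a = 1 := by
      refine hcen hT _ (T.mul_mem (T.inv_mem ht) ha) fun u hu => ?_
      rw [e1]
      exact hcomm hT hT₂ hne hu (T₂.mul_mem hz (T₂.inv_mem hb))
    rw [e2] at e1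
    exact ⟨(inv_mul_eq_one.1 e2).symm, (mul_inv_eq_one.1 e1.symm).symm⟩
  rcases h1 with rfl | rfl
  · rcases h2 with rfl | rfl
    · exact absurd rfl hne'
    · rw [o2, (key ht' hy' hg').2]
  · rcases h2 with rfl | rfl
    · obtain ⟨e1, e2⟩ := key hy' ht' (hty.eq ▸ hg')
      rw [o2, e1, o1, e2]
    · exact absurd rfl hne'

/-- Let a finite group G act faithfully and primitively on a finite set Ω with at least two points, suppose G is not almost simple (no non-abelian simple normal subgroup with trivial centralizer), and suppose the derangements of G form exactly two conjugacy classes. Then either Ω has 3 points and G has order 3; or G has a non-trivial abelian normal subgroup N acting regularly, every non-identity element of G fixes at most one point (so, when n > 3, G is a Frobenius group with kernel N), the number n of points is odd and a point stabilizer has order (n − 1)/2; or G is 2-transitive with a non-trivial abelian regular normal subgroup and some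 non-identity element fixes at least two points (a non-Frobenius 2-transitive affine group). -/
theorem result {G : Type*} [Group G] [Finite G] {Ω : Type*} [Fintype Ω] [MulAction G Ω] [FaithfulSMul G Ω] (hΩ : 2 ≤ Fintype.card Ω) (hprim : MulAction.IsPreprimitive G Ω) (hnas : ¬ ∃ T : Subgroup G, T.Normal ∧ IsSimpleGroup T ∧ ¬ IsMulCommutative T ∧ Subgroup.centralizer (T : Set G) = ⊥)
    (hκ : Nat.card {c : ConjClasses G // ∃ g : G, ConjClasses.mk g = c ∧ ∀ ω : Ω, g • ω ≠ ω} = 2) (α : Ω) :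
    (Fintype.card Ω = 3 ∧ Nat.card G = 3) ∨
    ((∃ N : Subgroup G, N.Normal ∧ N ≠ ⊥ ∧ IsMulCommutative N ∧ ∀ ω : Ω, MulAction.stabilizer N ω = ⊥) ∧ (∀ g : G, g ≠ 1 → Nat.card (MulAction.fixedBy Ω g) ≤ 1) ∧ ¬ 2 ∣ Fintype.card Ω ∧
        2 * Nat.card (MulAction.stabilizer G α) = Fintype.card Ω - 1) ∨
    ((∃ N : Subgroup G, N.Normal ∧ N ≠ ⊥ ∧ IsMulCommutative N ∧ ∀ ω : Ω, MulAction.stabilizer N ω = ⊥) ∧ MulAction.IsMultiplyPretransitive G Ω 2 ∧ ∃ g : G, g ≠ 1 ∧ 2 ≤ Nat.card (MulAction.fixedBy Ω g)) := by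
  have : Nontrivial Ω := Fintype.one_lt_card_iff_nontrivial.1 hΩ
  have : Nontrivial G := nontrivial_of_faithful_of_pretransitive (Ω := Ω)
  obtain ⟨x, y, hx, hy, hxy, hder⟩ := two_classes hκ
  have hthree : ∀ a b c : G, (∀ ω : Ω, a • ω ≠ ω) → (∀ ω : Ω, b • ω ≠ ω) → (∀ ω : Ω, c • ω ≠ ω) →
      IsConj a b ∨ IsConj a c ∨ IsConj b c := by
    intro a b c ha hb hc
    rcases hder a ha with h1 | h1 <;> rcases hder b hb with h2 | h2 <;>
      rcases hder c hc with h3 | h3 <;>
      first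
      | exact Or.inl (h1.symm.trans h2)
      | exact Or.inr (Or.inl (h1.symm.trans h3))
      | exact Or.inr (Or.inr (h2.symm.trans h3))
  obtain ⟨N, hN⟩ := exists_isMinNormal G
  have := hN.1
  have hone : ∀ {a : G}, (orderOf a).Prime → a ≠ 1 := by
    rintro a ha rfl
    rw [orderOf_one] at ha
    exact Nat.not_prime_one ha
  by_cases hc : ⁅N, N⁆ ≠ ⊥
  · exfalso
    rcases hN.derangements (Ω := Ω) hc hnas with ⟨T, hT, h⟩ | ⟨T, T₂, hT, hT₂, hne, t, ht, h⟩
    · obtain ⟨a, b, c, ha, hb, hc, hab, hac, hbc⟩ := exists_three_primes hT.not_isSolvable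
      simp only [← Subgroup.orderOf_coe] at ha hb hc hab hac hbc
      rcases hthree a b c (h a a.2 (hone ha)) (h b b.2 (hone hb)) (h c c.2 (hone hc)) with
        h1 | h1 | h1
      · exact hab (orderOf_eq_of_isConj h1)
      · exact hac (orderOf_eq_of_isConj h1)
      · exact hbc (orderOf_eq_of_isConj h1)
    · obtain ⟨a, b, c, ha, hb, hc', hab, hac, hbc⟩ := exists_three_primes hT₂.not_isSolvable
      simp only [← Subgroup.orderOf_coe] at ha hb hc' hab hac hbc
      have hF := hN.fittingIn_eq_bot hc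
      have ht1 : t ≠ 1 := by
        rintro rfl
        exact h 1 T₂.one_mem α (by simp)
      rcases hthree _ _ _ (h a a.2) (h b b.2) (h c c.2) with h1 | h1 | h1
      · exact hab (orderOf_eq_of_isConj_mul hF hT hT₂ hne ht a.2 b.2 ht1 (hone ha) h1)
      · exact hac (orderOf_eq_of_isConj_mul hF hT hT₂ hne ht a.2 c.2 ht1 (hone ha) h1)
      · exact hbc (orderOf_eq_of_isConj_mul hF hT hT₂ hne ht b.2 c.2 ht1 (hone hb) h1)
  push Not at hc
  right
  have hreg := semiregular_of_comm (Ω := Ω) hN.ne_bot hc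
  have hNt : IsPretransitive N Ω := isPretransitive_of_normal_of_ne_bot N hN.ne_bot
  have hex : ∃ N : Subgroup G, N.Normal ∧ N ≠ ⊥ ∧ IsMulCommutative N ∧
      ∀ ω : Ω, MulAction.stabilizer N ω = ⊥ :=
    ⟨N, hN.1, hN.ne_bot, isMulCommutative_iff_commutator.2 hc,
      fun a => stabilizer_subgroup_eq_bot_iff.2 fun n hn => hreg n hn a⟩
  have hNder : ∀ n ∈ N, n ≠ 1 → ∀ ω : Ω, n • ω ≠ ω := fun n hn h1 ω h => h1 (hreg n hn ω h)
  have hconjN : ∀ {a b : G}, IsConj a b → a ∈ N → b ∈ N := by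
    intro a b h ha
    obtain ⟨c, rfl⟩ := isConj_iff.1 h
    exact hN.1.conj_mem a ha c
  -- conjugate elements of `N` are conjugate under a point stabilizer
  have hconj : ∀ (a : Ω) {u v : G}, u ∈ N → IsConj u v → ∃ k : G, k • a = a ∧ k • u • a = v • a := by
    intro a u v hu h
    obtain ⟨c, rfl⟩ := isConj_iff.1 h
    obtain ⟨n, hn⟩ := hNt.exists_smul_eq (c • a) a
    have hn' : (n : G) • c • a = a := hn
    refine ⟨n * c, by rw [mul_smul, hn'], ?_⟩
    have e1 : (n : G) * (c * u * c⁻¹) = (c * u * c⁻¹) * n :=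
      commute_of_commutator_eq_bot hc n.2 (hN.1.conj_mem u hu c)
    calc ((n : G) * c) • u • a = ((n : G) * (c * u * c⁻¹)) • c • a := by
          simp only [mul_smul, inv_smul_smul]
      _ = _ := by rw [e1, mul_smul, hn']
  let ψ : G → N → N := fun h n => ⟨n * h * (n : G)⁻¹ * h⁻¹, by
    have := N.mul_mem n.2 (hN.1.conj_mem _ (N.inv_mem n.2) h)
    simpa [mul_assoc] using this⟩
  by_cases hfix : ∀ g : G, g ≠ 1 → Nat.card (MulAction.fixedBy Ω g) ≤ 1
  · left
    have hderN : ∀ g : G, (∀ ω : Ω, g • ω ≠ ω) → g ∈ N := by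
      intro g hg
      by_contra hgN
      obtain ⟨w, hw⟩ := hNt.exists_smul_eq α (g • α)
      have hw' : (w : G) • α = g • α := hw
      have hh : ((w : G)⁻¹ * g) • α = α := by rw [mul_smul, inv_smul_eq_iff, hw']
      have hh1 : (w : G)⁻¹ * g ≠ 1 := fun h => hgN (inv_mul_eq_one.1 h ▸ w.2)
      have hinj : Function.Injective (ψ ((w : G)⁻¹ * g)) := by
        intro n m hnm
        have e1 : (n : G) * ((w : G)⁻¹ * g) * (n : G)⁻¹ = m * ((w : G)⁻¹ * g) * (m : G)⁻¹ :=
          mul_right_cancel (congrArg Subtype.val hnm)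
        by_contra hne
        have e2 : ((m : G)⁻¹ * n) • α ≠ α :=
          hNder _ (N.mul_mem (N.inv_mem m.2) n.2)
            (fun h => hne (Subtype.ext (inv_mul_eq_one.1 h).symm)) α
        have e3 : ((w : G)⁻¹ * g) • ((m : G)⁻¹ * n) • α = ((m : G)⁻¹ * n) • α := by
          have e4 : ((w : G)⁻¹ * g) * ((m : G)⁻¹ * n) = ((m : G)⁻¹ * n) * ((w : G)⁻¹ * g) := by
            calc ((w : G)⁻¹ * g) * ((m : G)⁻¹ * n)
                = (m : G)⁻¹ * (m * ((w : G)⁻¹ * g) * (m : G)⁻¹) * n := by group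
              _ = _ := by rw [← e1]; group
          rw [← mul_smul, e4, mul_smul, hh]
        have := H3.two_le_card_fixedBy e2 e3 hh
        have := hfix _ hh1
        omega
      obtain ⟨n, hn⟩ := (Finite.injective_iff_surjective.1 hinj) w
      have e1 : (n : G) * ((w : G)⁻¹ * g) * (n : G)⁻¹ = g := by
        have : (n : G) * ((w : G)⁻¹ * g) * (n : G)⁻¹ * ((w : G)⁻¹ * g)⁻¹ = w :=
          congrArg Subtype.val hn
        rw [mul_inv_eq_iff_eq_mul] at this
        rw [this]; group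
      apply hg ((n : G) • α)
      conv_lhs => rw [← e1]
      rw [mul_smul, mul_smul, inv_smul_smul, hh]
    have hxN := hderN x hx
    have hyN := hderN y hy
    have horb : ∀ u : G, (∀ ω : Ω, u • ω ≠ ω) →
        (orbit (stabilizer G α) (u • α)).ncard = Nat.card (stabilizer G α) := by
      intro u hu
      rw [← relIndex_stabilizer, ← inf_relIndex_right, ← relIndex_bot_left]
      congr 1
      rw [eq_bot_iff]
      intro k hk
      by_contra hk1
      have := H3.two_le_card_fixedBy (hu α) hk.1 hk.2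
      have := hfix _ hk1
      omega
    have hdisj : Disjoint (orbit (stabilizer G α) (x • α)) (orbit (stabilizer G α) (y • α)) := by
      rw [Set.disjoint_left]
      rintro _ ⟨k, rfl⟩ ⟨k', hk'⟩
      apply hxy
      have e1 : (k' : G) • y • α = (k : G) • x • α := hk'
      have e2 : ((k : G) * x * (k : G)⁻¹)⁻¹ * (k' * y * (k' : G)⁻¹) = 1 := by
        apply hreg _ (N.mul_mem (N.inv_mem (hN.1.conj_mem x hxN _)) (hN.1.conj_mem y hyN _)) α
        rw [mul_smul, inv_smul_eq_iff, mul_smul, mul_smul, mul_smul, mul_smul,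
          show (k : G)⁻¹ • α = α from inv_mem k.2, show (k' : G)⁻¹ • α = α from inv_mem k'.2, e1]
      rw [inv_mul_eq_one] at e2
      exact (isConj_iff.2 ⟨_, e2⟩).trans (isConj_iff.2 ⟨(k' : G), rfl⟩).symm
    have hunion : ({α}ᶜ : Set Ω) =
        orbit (stabilizer G α) (x • α) ∪ orbit (stabilizer G α) (y • α) := by
      ext ω
      constructor
      · intro hω
        obtain ⟨n, rfl⟩ := hNt.exists_smul_eq α ω
        have hn1 : (n : G) ≠ 1 := fun h => hω (by
          change (n : G) • α = α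
          rw [h, one_smul])
        rcases hder n (hNder n n.2 hn1) with h | h
        · obtain ⟨k, hk1, hk2⟩ := hconj α hxN h
          exact Or.inl ⟨⟨k, hk1⟩, hk2⟩
        · obtain ⟨k, hk1, hk2⟩ := hconj α hyN h
          exact Or.inr ⟨⟨k, hk1⟩, hk2⟩
      · rintro (⟨k, rfl⟩ | ⟨k, rfl⟩) h
        · exact hx α (smul_left_cancel (k : G) (Eq.trans h k.2.symm))
        · exact hy α (smul_left_cancel (k : G) (Eq.trans h k.2.symm))
    have hcard := congrArg Set.ncard hunion
    rw [Set.ncard_union_eq hdisj, horb x hx, horb y hy, Set.ncard_compl, Set.ncard_singleton,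
      Nat.card_eq_fintype_card] at hcard
    exact ⟨hex, hfix, by omega, by omega⟩
  · right
    push Not at hfix
    obtain ⟨h, hh1, hh2⟩ := hfix
    refine ⟨hex, ?_, h, hh1, hh2⟩
    obtain ⟨a, b, hab, ha, hb⟩ := H3.exists_two_of_two_le_card_fixedBy hh2
    have hhN : h ∉ N := fun hN' => hh1 (hreg h hN' a ha)
    obtain ⟨v, rfl⟩ := hNt.exists_smul_eq a b
    have hb' : h • (v : G) • a = (v : G) • a := hb
    have hninj : ¬ Function.Injective (ψ h) := by
      intro hinj
      have e1 : ψ h v = ψ h 1 := by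
        apply Subtype.ext
        change (v : G) * h * (v : G)⁻¹ * h⁻¹ = (1 : G) * h * (1 : G)⁻¹ * h⁻¹
        have e2 : (h * v * h⁻¹)⁻¹ * v = 1 := by
          apply hreg _ (N.mul_mem (N.inv_mem (hN.1.conj_mem _ v.2 _)) v.2) a
          rw [mul_smul, inv_smul_eq_iff, mul_smul, mul_smul, inv_smul_eq_iff.2 ha.symm, hb']
        rw [inv_mul_eq_one] at e2
        calc (v : G) * h * (v : G)⁻¹ * h⁻¹ = v * (h * v * h⁻¹)⁻¹ := by group
          _ = _ := by rw [e2]; group
      apply hab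
      rw [hinj e1, one_smul]
    rw [Finite.injective_iff_surjective] at hninj
    obtain ⟨w, hw⟩ := not_forall.1 hninj
    have hg : ∀ ω : Ω, ((w : G) * h) • ω ≠ ω := by
      intro ω hω
      obtain ⟨n, rfl⟩ := hNt.exists_smul_eq a ω
      apply hw
      refine ⟨n, Subtype.ext ?_⟩
      change (n : G) * h * (n : G)⁻¹ * h⁻¹ = w
      have e2 : (n : G)⁻¹ * (w * (h * n * h⁻¹)) = 1 := by
        apply hreg _ (N.mul_mem (N.inv_mem n.2) (N.mul_mem w.2 (hN.1.conj_mem _ n.2 _))) a
        have hω' : ((w : G) * h) • (n : G) • a = (n : G) • a := hω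
        rw [mul_smul] at hω'
        rw [mul_smul, inv_smul_eq_iff, mul_smul, mul_smul, mul_smul, inv_smul_eq_iff.2 ha.symm, hω']
      rw [inv_mul_eq_one] at e2
      calc (n : G) * h * (n : G)⁻¹ * h⁻¹ = n * (h * n * h⁻¹)⁻¹ := by group
        _ = _ := by rw [mul_inv_eq_iff_eq_mul]; exact e2
    have hgN : (w : G) * h ∉ N := fun h' => hhN ((mul_mem_cancel_left w.2).1 h')
    have key : ∀ c b b' : Ω, b ≠ c → b' ≠ c → ∃ k : G, k • c = c ∧ k • b = b' := by
      intro c b b' hb hb'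
      obtain ⟨n, rfl⟩ := hNt.exists_smul_eq c b
      obtain ⟨n', rfl⟩ := hNt.exists_smul_eq c b'
      have hn1 : ∀ n : N, n • c ≠ c → (n : G) ≠ 1 := fun n hn h => hn (by
        change (n : G) • c = c
        rw [h, one_smul])
      rcases hthree n n' _ (hNder n n.2 (hn1 n hb)) (hNder n' n'.2 (hn1 n' hb')) hg with
        h1 | h1 | h1
      · exact hconj c n.2 h1
      · exact absurd (hconjN h1 n.2) hgN
      · exact absurd (hconjN h1 n'.2) hgN
    rw [is_two_pretransitive_iff]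
    intro a b c d hab hcd
    obtain ⟨g, rfl⟩ := exists_smul_eq G a c
    obtain ⟨k, hk1, hk2⟩ := key (g • a) (g • b) d (fun h => hab (smul_left_cancel g h).symm)
      hcd.symm
    exact ⟨k * g, by rw [mul_smul, hk1], by rw [mul_smul, hk2]⟩

end Cfsg.Agent.S3520
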