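import Cfsg.Statements.S3554


set_option autoImplicit false
open Cfsg

namespace Cfsg.Agent.S3554

/-- Let G act faithfully and transitively on a finite set and suppose G has a non-trivial cyclic normal subgroup. Then some element of G of prime order fixes no point. -/
theorem result {G Ω : Type*} [Group G] [Finite G] [MulAction G Ω] [FaithfulSMul G Ω] [Finite Ω]
    (htrans : MulAction.IsPretransitive G Ω) (C : Subgroup G) (hC : C.Normal) (hC1 : C ≠ ⊥) (hcyc : IsCyclic ↥C) :
    ∃ g : G, (orderOf g).Prime ∧ ∀ ω : Ω, g • ω ≠ ω := by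
  have : Nontrivial C := (Subgroup.nontrivial_iff_ne_bot C).mpr hC1
  obtain ⟨p, hp, hpC⟩ := Nat.exists_prime_and_dvd (Finite.one_lt_card (α := C)).ne'
  have : Fact p.Prime := ⟨hp⟩
  obtain ⟨x, hx⟩ := exists_prime_orderOf_dvd_card' p hpC
  have hx' : orderOf (x : G) = p := by rw [Subgroup.orderOf_coe, hx]
  refine ⟨x, hx' ▸ hp, fun ω hω => ?_⟩
  have hx1 : (x : G) ≠ 1 := by
    intro h
    rw [h, orderOf_one] at hx'
    exact hp.one_lt.ne hx'
  apply hx1
  refine eq_of_smul_eq_smul (α := Ω) (fun b => ?_)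
  obtain ⟨g, rfl⟩ := htrans.exists_smul_eq ω b
  -- the conjugate of `x` is a power of `x`
  obtain ⟨k, hk⟩ := MonoidHom.map_cyclic (MulAut.conjNormal (H := C) g⁻¹).toMonoidHom
  have h2 : g⁻¹ * x * g = (x : G) ^ k := by
    simpa using congrArg Subtype.val (hk x)
  have h3 : ((x : G) ^ k) • ω = ω := MulAction.mem_fixedBy_zpow hω k
  rw [← h2, mul_smul, mul_smul, inv_smul_eq_iff] at h3
  rw [h3, one_smul]

end Cfsg.Agent.S3554
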