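import Cfsg.Statements.S3555
import Cfsg.Agent.H3.Frobenius
import Cfsg.Agent.H3.GroupUtil

set_option autoImplicit false
open Cfsg

namespace Cfsg.Agent.S3555

/-- Let G act faithfully and transitively on a finite set and suppose every element of G fixing no point is an involution. Then either G is an elementary abelian 2-group, or G is a Frobenius group whose Frobenius kernel is an elementary abelian 2-group: G has a Frobenius complement H, and the elements lying in no conjugate of H, together with the identity, pairwise commute and square to the identity. -/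
theorem result {G Ω : Type*} [Group G] [Finite G] [MulAction G Ω] [FaithfulSMul G Ω] [Finite Ω]
    (htrans : MulAction.IsPretransitive G Ω) (hinv : ∀ g : G, (∀ ω : Ω, g • ω ≠ ω) → orderOf g = 2) :
    (IsMulCommutative G ∧ ∀ g : G, g ^ 2 = 1) ∨
    (∃ H : Subgroup G, Cfsg.IsFrobeniusComplement H ∧
      (∀ x ∈ Cfsg.frobeniusKernel H, x ^ 2 = 1) ∧
      ∀ x ∈ Cfsg.frobeniusKernel H, ∀ y ∈ Cfsg.frobeniusKernel H, x * y = y * x) := by
  classical
  have := Fintype.ofFinite G
  have hne : Nonempty Ω := by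
    by_contra h
    rw [not_nonempty_iff] at h
    have := hinv 1 (fun ω => isEmptyElim ω)
    rw [orderOf_one] at this
    omega
  have hsq : ∀ g : G, (∀ ω : Ω, g • ω ≠ ω) → g * g = 1 := fun g hg => by
    rw [← sq, ← hinv g hg, pow_orderOf_eq_one]
  have hswap : ∀ g : G, (∀ ω : Ω, g • ω ≠ ω) → ∀ a : Ω, g • g • a = a := fun g hg a => by
    rw [← mul_smul, hsq g hg, one_smul]
  -- no non-identity element fixes two points
  have key : ∀ (g : G) (a b : Ω), a ≠ b → g • a = a → g • b = b → g = 1 := by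
    let Δ := {g : G // ∀ ω : Ω, g • ω ≠ ω}
    let c : Ω → Ω → G := fun a b => if h : ∃ x : Δ, x.1 • a = b then h.choose.1 else 1
    have hc : ∀ (x : Δ) (a : Ω), c a (x.1 • a) • a = x.1 • a ∧ c a (x.1 • a) • x.1 • a = a := by
      intro x a
      have h : ∃ y : Δ, y.1 • a = x.1 • a := ⟨x, rfl⟩
      simp only [c, dif_pos h]
      exact ⟨h.choose_spec, (congrArg (fun ω => h.choose.1 • ω) h.choose_spec.symm).trans
        (hswap _ h.choose.2 a)⟩
    let F : (Δ × Ω) ⊕ (Σ g : G, MulAction.fixedBy Ω g) → Σ g : G, MulAction.fixedBy (Ω × Ω) g :=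
      Sum.elim (fun p => ⟨(c p.2 (p.1.1 • p.2))⁻¹ * p.1.1, (p.2, p.1.1 • p.2), by
        refine Prod.ext ?_ ?_
        · change (_ * _ : G) • p.2 = p.2
          rw [mul_smul, inv_smul_eq_iff, (hc p.1 p.2).1]
        · change (_ * _ : G) • p.1.1 • p.2 = p.1.1 • p.2
          rw [mul_smul, inv_smul_eq_iff, (hc p.1 p.2).2, hswap _ p.1.2]⟩)
      (fun q => ⟨q.1, (q.2.1, q.2.1), Prod.ext q.2.2 q.2.2⟩)
    let π : (Σ g : G, MulAction.fixedBy (Ω × Ω) g) → G × Ω × Ω := fun q => (q.1, q.2.1)
    have hF : Function.Injective F := by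
      rintro (⟨x, a⟩ | ⟨g, a⟩) (⟨y, b⟩ | ⟨h, b⟩) hxy
      · have h1 := congrArg π hxy
        simp only [F, π, Sum.elim_inl, Prod.mk.injEq] at h1
        obtain ⟨h1, rfl, h3⟩ := h1
        rw [h3, mul_right_inj] at h1
        rw [Subtype.ext h1]
      · have h1 := congrArg π hxy
        simp only [F, π, Sum.elim_inl, Sum.elim_inr, Prod.mk.injEq] at h1
        exact absurd (h1.2.2.trans h1.2.1.symm) (x.2 a)
      · have h1 := congrArg π hxy
        simp only [F, π, Sum.elim_inl, Sum.elim_inr, Prod.mk.injEq] at h1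
        exact absurd (h1.2.2.symm.trans h1.2.1) (y.2 b)
      · have h1 := congrArg π hxy
        simp only [F, π, Sum.elim_inr, Prod.mk.injEq] at h1
        obtain ⟨rfl, h2, -⟩ := h1
        rw [Subtype.ext h2]
    have h1 := Nat.card_le_card_of_injective F hF
    rw [Nat.card_sum, Nat.card_prod, Nat.card_sigma, Nat.card_sigma,
      H3.sum_card_fixedBy_of_pretransitive] at h1
    simp only [H3.card_fixedBy_prod] at h1
    have h2 := H3.sum_card_fixedBy_of_pretransitive (G := G) (Ω := Ω)
    set n := Nat.card Ω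
    let f : G → ℤ := fun g => Nat.card (MulAction.fixedBy Ω g)
    have h1' : (Nat.card Δ : ℤ) * n + Nat.card G ≤ ∑ g, f g * f g := by
      simp only [f]; exact_mod_cast h1
    have h2' : ∑ g, f g = Nat.card G := by simp only [f]; exact_mod_cast h2
    have h3 : ∑ g, (f g - 1) * (n - f g) = Nat.card G - ∑ g, f g * f g := by
      have : ∀ g, (f g - 1) * (n - f g) = (n + 1) * f g - n - f g * f g := fun g => by ring
      simp only [this, Finset.sum_sub_distrib, ← Finset.mul_sum, h2', Finset.sum_const,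
        Finset.card_univ, nsmul_eq_mul, ← Nat.card_eq_fintype_card]
      ring
    rw [← Finset.sum_filter_add_sum_filter_not Finset.univ (fun g : G => ∀ ω : Ω, g • ω ≠ ω)]
      at h3
    have h4 : ∑ g ∈ Finset.univ.filter (fun g : G => ∀ ω : Ω, g • ω ≠ ω), (f g - 1) * (n - f g)
        = - ((Nat.card Δ : ℤ) * n) := by
      rw [Finset.sum_congr rfl (g := fun _ => - (n : ℤ))]
      · rw [Finset.sum_const, Nat.card_eq_fintype_card, Fintype.card_subtype]
        simp
      · intro g hg
        have := (H3.card_fixedBy_eq_zero_iff g).mpr (Finset.mem_filter.mp hg).2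
        simp only [f, this]
        simp
    have h5 : ∀ g ∈ Finset.univ.filter (fun g : G => ¬ ∀ ω : Ω, g • ω ≠ ω),
        0 ≤ (f g - 1) * (n - f g) := by
      intro g hg
      have e1 : Nat.card (MulAction.fixedBy Ω g) ≠ 0 := fun h =>
        (Finset.mem_filter.mp hg).2 ((H3.card_fixedBy_eq_zero_iff g).mp h)
      have e2 := H3.card_fixedBy_le (Ω := Ω) g
      simp only [f]
      exact mul_nonneg (by omega) (by omega)
    have h6 := (Finset.sum_eq_zero_iff_of_nonneg h5).mp
      (le_antisymm (by linarith) (Finset.sum_nonneg h5))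
    intro g a b hab ha hb
    have h7 := h6 g (Finset.mem_filter.mpr ⟨Finset.mem_univ _, fun h => h a ha⟩)
    have h8 := H3.two_le_card_fixedBy hab ha hb
    simp only [f] at h7
    have h9 : Nat.card (MulAction.fixedBy Ω g) = Nat.card Ω := by
      rcases mul_eq_zero.mp h7 with h | h <;> omega
    rw [← MulAction.fixedBy_eq_univ_iff_eq_one (α := Ω)]
    exact Set.eq_of_subset_of_ncard_le (Set.subset_univ _)
      (by rw [Set.ncard_univ, ← h9]; rfl)
  obtain ⟨a⟩ := hne
  have hmul : ∀ x y : G, (x = 1 ∨ ∀ ω : Ω, x • ω ≠ ω) → (y = 1 ∨ ∀ ω : Ω, y • ω ≠ ω) →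
      x * y = y * x := by
    rintro x y (rfl | hx) (rfl | hy)
    · rfl
    · simp
    · simp
    have h1 : x * y * (x * y) = 1 := by
      by_cases h : ∀ ω : Ω, (x * y) • ω ≠ ω
      · exact hsq _ h
      · push Not at h
        obtain ⟨ω, hω⟩ := h
        have h2 : y • ω = x • ω := by
          rw [mul_smul] at hω
          rw [← hswap x hx (y • ω), hω]
        rw [key (x * y) ω (y • ω) (hy ω).symm hω (by rw [mul_smul, hswap y hy, h2]), one_mul]
    calc x * y = (x * y)⁻¹ := (eq_inv_of_mul_eq_one_left h1)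
      _ = y * x := by
        rw [mul_inv_rev, ← eq_inv_of_mul_eq_one_left (hsq x hx),
          ← eq_inv_of_mul_eq_one_left (hsq y hy)]
  obtain ⟨K, -, hK, hmem, -⟩ := H3.exists_frobeniusKernel_action key a
  by_cases hb : MulAction.stabilizer G a = ⊥
  · left
    have hKt : K = ⊤ := by simpa [hb] using H3.frobKer_sup_eq_top hK
    have h1 : ∀ g : G, g = 1 ∨ ∀ ω : Ω, g • ω ≠ ω := fun g => (hmem g).mp (hKt ▸ trivial)
    refine ⟨⟨⟨fun x y => hmul x y (h1 x) (h1 y)⟩⟩, fun g => ?_⟩
    rcases h1 g with rfl | h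
    · simp
    · rw [sq, hsq g h]
  · right
    refine ⟨MulAction.stabilizer G a, (H3.isFrobeniusComplement_iff _).mpr ⟨hb, ?_, ?_⟩, ?_, ?_⟩
    · intro htop
      apply hb
      rw [Subgroup.eq_bot_iff_forall]
      intro g _
      refine H3.eq_one_of_forall_smul (Ω := Ω) (fun ω => ?_)
      obtain ⟨x, rfl⟩ := htrans.exists_smul_eq a ω
      have h1 : ∀ y : G, y • a = a := fun y => (htop ▸ Subgroup.mem_top y :
        y ∈ MulAction.stabilizer G a)
      rw [h1, h1]
    · intro g hg x hx hx'
      rw [MulAction.mem_stabilizer_iff] at hg hx hx'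
      refine key x a (g • a) (Ne.symm hg) hx ?_
      rw [mul_smul, mul_smul, inv_smul_eq_iff] at hx'
      exact hx'
    · intro x hx
      rw [← hK, SetLike.mem_coe, hmem] at hx
      rcases hx with rfl | h
      · simp
      · rw [sq, hsq x h]
    · intro x hx y hy
      rw [← hK, SetLike.mem_coe, hmem] at hx hy
      exact hmul x y hx hy

end Cfsg.Agent.S3555
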