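import Cfsg.Statements.S3556
import Cfsg.Agent.H7.Socle

set_option autoImplicit false
open Cfsg

namespace Cfsg.Agent.S3556

open Subgroup MulAction Cfsg.Agent.H7

/-- Let G act faithfully and primitively on a finite set with at least two points, and suppose that for some fixed prime p every element of G fixing no point has order a power of p. Then G is of affine type (it has a regular normal subgroup that is an elementary abelian r-group for some prime r) or almost simple (it has a non-abelian simple normal subgroup with trivial centralizer). -/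
theorem result {G Ω : Type*} [Group G] [Finite G] [MulAction G Ω] [FaithfulSMul G Ω] [Finite Ω]
    (hprim : MulAction.IsPreprimitive G Ω) (hΩ : 2 ≤ Nat.card Ω) (p : ℕ) (hp : p.Prime)
    (hder : ∀ g : G, (∀ ω : Ω, g • ω ≠ ω) → ∃ k : ℕ, orderOf g = p ^ k) :
    (∃ (N : Subgroup G) (r : ℕ), r.Prime ∧ N.Normal ∧ Cfsg.IsElementaryAbelian r N ∧
      MulAction.IsPretransitive N Ω ∧ ∀ a : Ω, MulAction.stabilizer N a = ⊥) ∨
    (∃ T : Subgroup G, T.Normal ∧ IsSimpleGroup ↥T ∧ ¬ IsMulCommutative ↥T ∧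
      Subgroup.centralizer (T : Set G) = ⊥) := by
  have : Nontrivial Ω := Finite.one_lt_card_iff_nontrivial.1 hΩ
  have : Nontrivial G := nontrivial_of_faithful_of_pretransitive (Ω := Ω)
  obtain ⟨N, hN⟩ := exists_isMinNormal G
  have := hN.1
  by_cases hc : ⁅N, N⁆ = ⊥
  · left
    obtain ⟨r, hr, hr'⟩ := hN.exists_prime_pow_eq_one hc
    exact ⟨N, r, hr, hN.1, ⟨isMulCommutative_iff_commutator.2 hc, hr'⟩,
      isPretransitive_of_normal_of_ne_bot N hN.ne_bot,
      fun a => stabilizer_subgroup_eq_bot_iff.2 fun n hn => semiregular_of_comm hN.ne_bot hc n hn a⟩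
  right
  by_contra hnas
  have : Fact p.Prime := ⟨hp⟩
  rcases hN.derangements (Ω := Ω) hc hnas with ⟨T, hT, h⟩ | ⟨T, T₂, hT, hT₂, hne, t, ht, h⟩
  · apply hT.not_isPGroup hp
    rw [IsPGroup.iff_orderOf]
    intro t
    by_cases ht : t = 1
    · exact ⟨0, by simp [ht]⟩
    · rw [← Subgroup.orderOf_coe]
      exact hder t (h t t.2 fun h' => ht (Subtype.ext h'))
  · apply hT₂.not_isPGroup hp
    intro y
    obtain ⟨k, hk⟩ := hder _ (h y y.2)
    have hcomm := (hT.eq_or_commutator hT₂).resolve_left hne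
    have h1 : ((t : G) * y) ^ p ^ k = 1 := hk ▸ pow_orderOf_eq_one _
    rw [(commute_of_commutator_eq_bot hcomm ht y.2).mul_pow] at h1
    have h2 : (y : G) ^ p ^ k ∈ centralizer (T₂ : Set G) ⊓ T₂ := by
      refine ⟨?_, T₂.pow_mem y.2 _⟩
      rw [eq_inv_of_mul_eq_one_right h1]
      exact Subgroup.inv_mem _ (Subgroup.pow_mem _ (commutator_eq_bot_iff_le_centralizer.1 hcomm ht) _)
    rw [hT₂.1.centralizer_inf_eq_bot (hN.fittingIn_eq_bot hc), mem_bot] at h2
    exact ⟨k, Subtype.ext h2⟩

end Cfsg.Agent.S3556
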