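import Cfsg.Statements.S3557
import Cfsg.Agent.H8.PGroupAct

set_option autoImplicit false
open Cfsg

namespace Cfsg.Agent.S3557

open MulAction

theorem core {p : ℕ} (hp : p.Prime) {Q Ω : Type*} [Group Q] [Finite Q] [MulAction Q Ω]
    [FaithfulSMul Q Ω] [Finite Ω] (hQ : IsPGroup p Q) (hcard : Nat.card Ω = 2 * p ^ 2)
    (horb : ∀ a : Ω, p ^ 2 ∣ Nat.card (orbit Q a)) :
    ∃ σ : Equiv.Perm Ω, (∀ a b : Ω, ∃ g : Q, σ a = g • a ∧ σ b = g • b) ∧ (∀ a, σ a ≠ a) ∧
      σ ^ p = 1 := by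
  classical
  have := Fact.mk hp
  have hp2 : p < p ^ 2 := by nlinarith [hp.one_lt]
  have hge : ∀ a : Ω, p ^ 2 ≤ (orbit Q a).ncard := fun a => by
    have := horb a
    rw [Nat.card_coe_set_eq] at this
    exact Nat.le_of_dvd ((Set.ncard_pos (Set.toFinite _)).mpr ⟨a, mem_orbit_self a⟩) this
  obtain ⟨a₀⟩ : Nonempty Ω := (Nat.card_pos_iff.mp (by rw [hcard]; omega)).1
  have htop : (⊤ : Subgroup Q) ≠ ⊥ := by
    intro h0
    have h1 := hge a₀
    have h2 : orbit Q a₀ = {a₀} := by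
      ext x
      constructor
      · rintro ⟨g, rfl⟩
        have : g ∈ (⊤ : Subgroup Q) := Subgroup.mem_top g
        rw [h0, Subgroup.mem_bot] at this
        simp [this]
      · rintro rfl; exact mem_orbit_self _
    rw [h2, Set.ncard_singleton] at h1
    have := hp.one_lt
    omega
  obtain ⟨z, -, hz1, hzp, hzc⟩ := H8.exists_central_of_normal hp hQ ⊤ htop
  obtain ⟨a₁, ha₁⟩ : ∃ a : Ω, z • a ≠ a := by
    by_contra hc
    push Not at hc
    exact hz1 (FaithfulSMul.eq_of_smul_eq_smul (α := Ω) fun a => by rw [hc a, one_smul])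
  have hzo : ∀ a : Ω, z • a ≠ a → ∀ b ∈ orbit Q a, z • b ≠ b := by
    rintro a ha _ ⟨g, rfl⟩ h
    apply ha
    rw [smul_smul, ← hzc, mul_smul] at h
    exact smul_left_cancel g h
  by_cases hall : ∀ a : Ω, z • a ≠ a
  · refine ⟨toPerm z, fun a b => ⟨z, rfl, rfl⟩, hall, ?_⟩
    rw [← toPermHom_apply, ← map_pow, hzp, map_one]
  push Not at hall
  obtain ⟨a₂, ha₂⟩ := hall
  have hdisj : Disjoint (orbit Q a₁) (orbit Q a₂) := by
    rcases orbit.eq_or_disjoint (G := Q) a₁ a₂ with h | h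
    · exact absurd ha₂ (hzo a₁ ha₁ a₂ (h ▸ mem_orbit_self a₂))
    · exact h
  have hun := Set.ncard_union_eq hdisj
  have hle := Set.ncard_le_card (orbit Q a₁ ∪ orbit Q a₂)
  have h1 := hge a₁
  have h2 := hge a₂
  have hc1 : (orbit Q a₁).ncard = p ^ 2 := by omega
  have hc2 : (orbit Q a₂).ncard = p ^ 2 := by omega
  have huniv : ∀ x, x ∉ orbit Q a₁ → x ∈ orbit Q a₂ := by
    have : orbit Q a₁ ∪ orbit Q a₂ = Set.univ := by
      rw [Set.eq_univ_iff_ncard]; omega
    intro x hx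
    have h3 : x ∈ orbit Q a₁ ∪ orbit Q a₂ := this ▸ Set.mem_univ x
    exact h3.resolve_left hx
  have hz2 : ∀ b ∈ orbit Q a₂, z • b = b := by
    intro b hb
    by_contra h
    exact hzo b h a₂ (by rw [orbit_eq_iff.mpr hb]; exact mem_orbit_self _) ha₂
  have hzk : ∀ (k : ℤ) (g : Q), g * z ^ k = z ^ k * g := fun k g =>
    (Commute.zpow_right (hzc g) k).eq
  let P₀ : Subgroup Q :=
    { carrier := {g | ∃ k : ℤ, g • a₁ = z ^ k • a₁}
      one_mem' := ⟨0, by simp⟩
      mul_mem' := by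
        rintro g h ⟨k, hk⟩ ⟨l, hl⟩
        refine ⟨l + k, ?_⟩
        rw [mul_smul, hl, smul_smul, hzk, mul_smul, hk, smul_smul, zpow_add]
      inv_mem' := by
        rintro g ⟨k, hk⟩
        refine ⟨-k, ?_⟩
        rw [inv_smul_eq_iff, smul_smul, hzk, mul_smul, hk, smul_smul, ← zpow_add]
        simp }
  have hs1 : (stabilizer Q a₁).index = p ^ 2 := by rw [index_stabilizer, hc1]
  have hs2 : (stabilizer Q a₂).index = p ^ 2 := by rw [index_stabilizer, hc2]
  have hle0 : stabilizer Q a₁ ≤ P₀ := fun g hg => ⟨0, by simpa using hg⟩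
  have hidx : P₀.index = p := by
    have h3 := Subgroup.index_dvd_of_le hle0
    rw [hs1, Nat.dvd_prime_pow hp] at h3
    obtain ⟨j, hj, hj'⟩ := h3
    interval_cases j
    · exfalso
      rw [pow_zero, Subgroup.index_eq_one] at hj'
      have h4 : orbit Q a₁ ⊆ (fun g : Subgroup.zpowers z => g • a₁) '' Set.univ := by
        rintro _ ⟨g, rfl⟩
        obtain ⟨k, hk⟩ : g ∈ P₀ := hj' ▸ Subgroup.mem_top g
        exact ⟨⟨z ^ k, k, rfl⟩, trivial, hk.symm⟩
      have h5 := (Set.ncard_le_ncard h4).trans (Set.ncard_image_le)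
      rw [Set.ncard_univ, Nat.card_zpowers, orderOf_eq_prime hzp hz1] at h5
      omega
    · simpa using hj'
    · exfalso
      have h4 := Subgroup.relIndex_mul_index hle0
      rw [hj', hs1] at h4
      have h5 : (stabilizer Q a₁).relIndex P₀ = 1 := by
        have : 0 < p ^ 2 := by omega
        nlinarith
      rw [Subgroup.relIndex_eq_one] at h5
      exact ha₁ (h5 (show z ∈ P₀ from ⟨1, by simp⟩))
  have hnorm : P₀.Normal := by
    apply Subgroup.normal_of_index_eq_minFac_card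
    obtain ⟨k, hk, hk'⟩ := hQ.nontrivial_iff_card.mp ⟨z, 1, hz1⟩
    rw [hidx, hk', hp.pow_minFac hk.ne']
  obtain ⟨y, hy, hy1, hy2⟩ := H8.exists_semiregular_on_orbit hp hQ P₀ a₂ (by
    by_contra hc
    push Not at hc
    have h3 : P₀ ≤ stabilizer Q a₂ := fun g hg => hc g hg a₂ (mem_orbit_self _)
    have h4 := Subgroup.index_dvd_of_le h3
    rw [hs2, hidx] at h4
    have := Nat.le_of_dvd hp.pos h4
    omega)
  have hyk : ∀ a ∈ orbit Q a₁, ∃ k : ℤ, y • a = z ^ k • a := by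
    rintro _ ⟨g, rfl⟩
    obtain ⟨k, hk⟩ := hnorm.conj_mem' y hy g
    refine ⟨k, ?_⟩
    rw [mul_smul, mul_smul, inv_smul_eq_iff] at hk
    change y • g • a₁ = z ^ k • g • a₁
    rw [hk, smul_smul, hzk, mul_smul]
  have hm1 : ∀ (g : Q) x, g • x ∈ orbit Q a₁ ↔ x ∈ orbit Q a₁ := fun g x => by
    rw [← orbit_eq_iff, ← orbit_eq_iff, orbit_smul]
  let σ : Equiv.Perm Ω :=
    { toFun := fun x => if x ∈ orbit Q a₁ then z • x else y • x
      invFun := fun x => if x ∈ orbit Q a₁ then z⁻¹ • x else y⁻¹ • x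
      left_inv := fun x => by by_cases hx : x ∈ orbit Q a₁ <;> simp [hx, hm1]
      right_inv := fun x => by by_cases hx : x ∈ orbit Q a₁ <;> simp [hx, hm1] }
  have hσ1 : ∀ x ∈ orbit Q a₁, σ x = z • x := fun x hx => if_pos hx
  have hσ2 : ∀ x, x ∉ orbit Q a₁ → σ x = y • x := fun x hx => if_neg hx
  have hmix : ∀ a ∈ orbit Q a₁, ∀ b, b ∉ orbit Q a₁ → ∃ g : Q, σ a = g • a ∧ σ b = g • b := by
    intro a ha b hb
    obtain ⟨k, hk⟩ := hyk a ha
    refine ⟨z ^ (1 - k) * y, ?_, ?_⟩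
    · rw [hσ1 a ha, mul_smul, hk, smul_smul, ← zpow_add]; simp
    · rw [hσ2 b hb, mul_smul]
      have h3 : z ∈ stabilizer Q (y • b) := hz2 _ (huniv _ (by rwa [hm1]))
      exact ((stabilizer Q (y • b)).zpow_mem h3 _).symm
  refine ⟨σ, fun a b => ?_, fun a => ?_, ?_⟩
  · by_cases ha : a ∈ orbit Q a₁ <;> by_cases hb : b ∈ orbit Q a₁
    · exact ⟨z, hσ1 a ha, hσ1 b hb⟩
    · exact hmix a ha b hb
    · obtain ⟨g, h3, h4⟩ := hmix b hb a ha
      exact ⟨g, h4, h3⟩
    · exact ⟨y, hσ2 a ha, hσ2 b hb⟩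
  · by_cases ha : a ∈ orbit Q a₁
    · rw [hσ1 a ha]; exact hzo a₁ ha₁ a ha
    · rw [hσ2 a ha]; exact hy1 a (huniv a ha)
  · have hpow : ∀ (k : ℕ) (x : Ω), (σ ^ k) x =
        if x ∈ orbit Q a₁ then z ^ k • x else y ^ k • x := by
      intro k
      induction k with
      | zero => intro x; simp
      | succ k ih =>
        intro x
        rw [pow_succ', Equiv.Perm.mul_apply, ih]
        by_cases hx : x ∈ orbit Q a₁
        · rw [if_pos hx, if_pos hx, hσ1 _ (by rwa [hm1]), smul_smul, pow_succ']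
        · rw [if_neg hx, if_neg hx, hσ2 _ (by rwa [hm1]), smul_smul, pow_succ']
    ext x
    rw [hpow]
    by_cases hx : x ∈ orbit Q a₁
    · rw [if_pos hx, hzp, one_smul]; rfl
    · rw [if_neg hx, hy2 x (huniv x hx)]; rfl

/-- Let G act faithfully and transitively on a finite set with 2p² points, p a prime, and suppose G is 2-closed: every permutation of the set which, on each ordered pair of points, agrees with some element of G, is itself induced by an element of G. Then some element of G of prime order fixes no point. -/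
theorem result {G Ω : Type*} [Group G] [Finite G] [MulAction G Ω] [FaithfulSMul G Ω] [Finite Ω]
    (htrans : MulAction.IsPretransitive G Ω) (p : ℕ) (hp : p.Prime) (hcard : Nat.card Ω = 2 * p ^ 2)
    (hcl : ∀ σ : Equiv.Perm Ω, (∀ a b : Ω, ∃ g : G, σ a = g • a ∧ σ b = g • b) → ∃ g : G, ∀ a : Ω, σ a = g • a) :
    ∃ g : G, (orderOf g).Prime ∧ ∀ ω : Ω, g • ω ≠ ω := by
  have := Fact.mk hp
  obtain ⟨P⟩ : Nonempty (Sylow p G) := inferInstance
  obtain ⟨σ, h1, h2, h3⟩ := core (Q := (P : Subgroup G)) (Ω := Ω) hp P.isPGroup' hcard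
    (fun a => H8.pow_dvd_card_orbit_sylow P (by rw [hcard]; exact dvd_mul_left _ _) a)
  obtain ⟨g, hg⟩ := hcl σ fun a b => by
    obtain ⟨g, hg⟩ := h1 a b
    exact ⟨g, hg⟩
  have hσ : σ = MulAction.toPermHom G Ω g := Equiv.ext hg
  obtain ⟨a₀⟩ : Nonempty Ω := (Nat.card_pos_iff.mp (by rw [hcard]; have := hp.pos; positivity)).1
  refine ⟨g, ?_, fun ω => hg ω ▸ h2 ω⟩
  rw [orderOf_eq_prime (p := p)]
  · exact hp
  · apply MulAction.toPerm_injective (β := Ω)
    rw [hσ, ← map_pow] at h3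
    exact h3.trans (map_one (MulAction.toPermHom G Ω)).symm
  · rintro rfl
    exact h2 a₀ (by rw [hg, one_smul])

end Cfsg.Agent.S3557
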