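import Cfsg.Statements.S3579
import Cfsg.Agent.H1.ElF
import Cfsg.Agent.H4.ElCx
import Cfsg.Agent.H6.ElD
import Cfsg.Agent.H8.ElT
import Cfsg.Agent.H9.ElM
import Cfsg.Agent.H3.ElS
import Cfsg.Agent.H7.ElS1b

set_option autoImplicit false
open Cfsg

namespace Cfsg.Agent.S3579

theorem bas_false {G : Type*} [Group G] [Finite G] {Ω : Type*} [MulAction G Ω] [FaithfulSMul G Ω]
    [Fintype Ω] [DecidableEq Ω] {p q : ℕ} (h : H1.El.Bas G Ω p q) : False := by
  haveI := Fact.mk h.hp
  obtain ⟨E, x, F, hc⟩ := h.cx (default : Sylow p G)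
  have hpr := hc.imp
  by_cases hE : E = Subgroup.zpowers (x ^ p)
  · have hs := hc.md hE hpr
    exact hc.s1b hE hs hpr fun a ha b hb hab g h1 h2 => hc.s1a hE hs ha hb hab h1 h2
  · obtain ⟨V, T, -, h2, h3, h4, h5⟩ := hc.theta hE
    exact h.not_jordan hpr V T h2 h3 h4 h5

/-- Let G act faithfully and transitively on a finite set with 2pq points, where p and q are distinct odd primes. Then G contains an element of prime order fixing no point (G is not elusive). -/
theorem result {G Ω : Type*} [Group G] [Finite G] [MulAction G Ω] [FaithfulSMul G Ω] [Finite Ω]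
    (htrans : MulAction.IsPretransitive G Ω) (p q : ℕ) (hp : p.Prime) (hq : q.Prime) (hp2 : p ≠ 2) (hq2 : q ≠ 2)
    (hpq : p ≠ q) (hcard : Nat.card Ω = 2 * p * q) :
    ∃ g : G, (orderOf g).Prime ∧ ∀ ω : Ω, g • ω ≠ ω := by
  classical
  haveI := Fintype.ofFinite Ω
  by_contra hc
  push Not at hc
  rw [Nat.card_eq_fintype_card] at hcard
  rcases lt_or_gt_of_ne hpq with hlt | hlt
  · exact bas_false (p := q) (q := p)
      ⟨hq, hp, hp2, hlt, by rw [hcard]; ring, htrans.exists_smul_eq, hc⟩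
  · exact bas_false (p := p) (q := q) ⟨hp, hq, hq2, hlt, hcard, htrans.exists_smul_eq, hc⟩

end Cfsg.Agent.S3579
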