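import Cfsg.Statements.S3643
import Cfsg.Agent.H5.MtP

set_option autoImplicit false
open Cfsg

namespace Cfsg.Agent.S3643

/-- Let G be a finite group of the same order as the Mathieu group M₁₂ whose character degree graph equals that of M₁₂ (same primes dividing some irreducible complex character degree, same pairs of distinct primes whose product divides some degree). Then G is isomorphic to M₁₂ or to the direct product of the alternating group of degree 4 with M₁₁. -/
theorem result {G : Type*} [Group G] [Finite G] (hcard : Nat.card G = Nat.card ↥Cfsg.Spor.M12) (hΔ : Cfsg.degreePrimes G = Cfsg.degreePrimes ↥Cfsg.Spor.M12 ∧ Cfsg.degreeGraph G = Cfsg.degreeGraph ↥Cfsg.Spor.M12) :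
    Nonempty (G ≃* ↥Cfsg.Spor.M12) ∨ Nonempty (G ≃* alternatingGroup (Fin 4) × ↥Cfsg.Spor.M11) := by
  have key : ∀ p, p.Prime → p ≠ 11 → (∃ d ∈ charDegrees Spor.M12, p * 11 ∣ d) →
      ∃ d ∈ charDegrees G, p * 11 ∣ d := fun p hp h1 h2 =>
    (hΔ.2 ▸ (⟨h1, hp, by norm_num, h2⟩ : (degreeGraph Spor.M12).Adj p 11) : (degreeGraph G).Adj p 11).2.2.2
  exact H5.MT.final (hcard.trans H4.Golay.card_M12) (key 5 (by norm_num) (by norm_num) H5.MT.degs_M12.1)
    (key 3 (by norm_num) (by norm_num) H5.MT.degs_M12.2)

end Cfsg.Agent.S3643
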