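import Cfsg.Statements.S3645
import Cfsg.Agent.L0.U3Fin
import Cfsg.Agent.H4.U3L2
import Cfsg.Agent.H6.U3Sz
import Cfsg.Agent.H6.U3X4
import Cfsg.Agent.H9.U3Blk

set_option autoImplicit false
open Cfsg

namespace Cfsg.Agent.S3645

open L0.U3

/-- Let S be one of the simple groups PSL(2, q) for q ∈ {23, 25, 47, 81}, PSU(3, q) for q ∈ {7, 8, 9}, or the Suzuki group Sz(q) for q ∈ {8, 32}, and let G be a finite group with the same order as S whose character degree graph equals that of S (same primes dividing some irreducible complex character degree, same pairs of distinct primes whose product divides some degree). Then G is isomorphic to S. -/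
theorem result {S : Type*} [Group S] [Finite S]
    (hS : (∃ (F : Type) (_ : Field F) (_ : Fintype F), Fintype.card F ∈ ({23, 25, 47, 81} : Finset ℕ) ∧ Nonempty (S ≃* Matrix.ProjectiveSpecialLinearGroup (Fin 2) F)) ∨
      (∃ (F : Type) (_ : Field F) (_ : Fintype F) (q : ℕ), q ∈ ({7, 8, 9} : Finset ℕ) ∧ Fintype.card F = q ^ 2 ∧ Nonempty (S ≃* Cfsg.PSU 3 F q)) ∨
      (∃ (F : Type) (_ : Field F) (_ : Fintype F) (m : ℕ), m ∈ ({1, 2} : Finset ℕ) ∧ Fintype.card F = 2 ^ (2 * m + 1) ∧ Nonempty (S ≃* ↥(Cfsg.Lie.Sz F (2 ^ (m + 1))))))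
    {G : Type*} [Group G] [Finite G] (hcard : Nat.card G = Nat.card S) (hΔ : Cfsg.degreePrimes G = Cfsg.degreePrimes S ∧ Cfsg.degreeGraph G = Cfsg.degreeGraph S) :
    Nonempty (G ≃* S) := by
  rcases hS with ⟨F, _, _, hF, ⟨e⟩⟩ | ⟨F, _, _, q, hq, hF, ⟨e⟩⟩ | ⟨F, _, _, m, hm, hF, ⟨e⟩⟩
  · exact (l2 hF (hcard.trans (Nat.card_congr e.toEquiv)) (hΔ.1.trans (primes_congr e))).map (·.trans e.symm)
  · have : ∃ c p r, Par q c p r ∧ p.Prime := by
      simp only [Finset.mem_insert, Finset.mem_singleton] at hq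
      rcases hq with rfl | rfl | rfl
      exacts [⟨384, 43, 7, by simp [Par], by norm_num⟩, ⟨567, 19, 2, by simp [Par], by norm_num⟩,
        ⟨800, 73, 3, by simp [Par], by norm_num⟩]
    obtain ⟨c, p, r, hP, hp⟩ := this
    have := Fact.mk hp
    exact (psu hP (fun S _ _ _ hd _ h => x38 S hd h) (fun S _ _ _ hd _ h => x38 S hd h)
      (fun _ _ _ _ hn _ h hK hH => ub_of hP hn h hK hH)
      (fun _ _ _ _ hn _ h hK hH => ub_of hP hn h hK hH) hF (hcard.trans (Nat.card_congr e.toEquiv))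
      (hΔ.1.trans (primes_congr e))).map (·.trans e.symm)
  · exact (sz hm hF (hcard.trans (Nat.card_congr e.toEquiv)) (hΔ.1.trans (primes_congr e))).map (·.trans e.symm)

end Cfsg.Agent.S3645
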