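import Cfsg.Statements.S3701
import Cfsg.Agent.L0.ThreeLocal

set_option autoImplicit false
set_option maxRecDepth 100000
open Cfsg

namespace Cfsg.Agent.S3701

open Cfsg.Agent.L0 Cfsg.Agent.L0.Gram Cfsg.Agent.L0.Code Cfsg.Agent.H3 Equiv
open scoped ComplexConjugate

def one : ℕ := nat_lit 36344967696
def gs : List ℕ := [nat_lit 36344967201, nat_lit 36342940176, nat_lit 28040245776, nat_lit 36344906241, nat_lit 36093309441]
def L : List ℕ := [nat_lit 36344967696, nat_lit 36344967201, nat_lit 36342940176, nat_lit 28040245776, nat_lit 36344906241, nat_lit 36093309441, nat_lit 36344967426, nat_lit 36342939681, nat_lit 28040245281, nat_lit 36344906016, nat_lit 36093309216, nat_lit 36343861776, nat_lit 28038218256, nat_lit 36343984641, nat_lit 36091281921, nat_lit 31815119376, nat_lit 28040184321, nat_lit 32318435841, nat_lit 36344905746, nat_lit 36342878721, nat_lit 36093248016, nat_lit 36093308946, nat_lit 27788587521, nat_lit 36342939906, nat_lit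 28040245506, nat_lit 36343861281, nat_lit 28038217761, nat_lit 36343984416, nat_lit 36091281696, nat_lit 31815118881, nat_lit 28040184096, nat_lit 32318435616, nat_lit 36342878496, nat_lit 36093247521, nat_lit 27788587296, nat_lit 28039139856, nat_lit 36092203521, nat_lit 31813091856, nat_lit 28039262721, nat_lit 32316408321, nat_lit 36343984146, nat_lit 36092326416, nat_lit 36091281426, nat_lit 27786560001, nat_lit 31815057921, nat_lit 28040183826, nat_lit 28038156801, nat_lit 32318374416, nat_lit 32318435346, nat_lit 36342878226, nat_lit 36093247746, nat_lit 36091220496, nat_lit 27788526096, nat_lit 27788587026, nat_lit 36343861506, nat_lit 28038217986, nat_lit 31815119106, nat_lit 28039139361, nat_lit 36092203296, nat_lit 31813091361, nat_lit 28039262496, nat_lit 32316408096, nat_lit 36092325921, nat_lit 27786559776, nat_lit 31815057696, nat_lit 28038156576, nat_lit 32318373921, nat_lit 36091220001, nat_lit 27788525601, nat_lit 31814013456,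 nat_lit 32317329921, nat_lit 36092203026, nat_lit 27787481601, nat_lit 31814136321, nat_lit 28039262226, nat_lit 32317452816, nat_lit 32316407826, nat_lit 36092326146, nat_lit 27787604496, nat_lit 27786559506, nat_lit 31815057426, nat_lit 31813030401, nat_lit 28038156306, nat_lit 32318374146, nat_lit 32316346896, nat_lit 36091220226, nat_lit 27788525826, nat_lit 27786498576, nat_lit 28039139586, nat_lit 31813091586, nat_lit 31814012961, nat_lit 32317329696, nat_lit 27787481376, nat_lit 31814136096, nat_lit 32317452321, nat_lit 27787604001, nat_lit 31813030176, nat_lit 32316346401, nat_lit 27786498081, nat_lit 32317329426, nat_lit 27787481106, nat_lit 31814135826, nat_lit 32317452546, nat_lit 27787604226, nat_lit 31813029906, nat_lit 32316346626, nat_lit 27786498306, nat_lit 31814013186]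
def ws : List (List ℕ) := [[], [0], [1], [2], [3], [4], [0, 0], [1, 0], [2, 0], [3, 0], [4, 0], [1, 1], [2, 1], [3, 1], [4, 1], [2, 2], [3, 2], [4, 2], [0, 3], [1, 3], [4, 3], [0, 4], [2, 4], [1, 0, 0], [2, 0, 0], [1, 1, 0], [2, 1, 0], [3, 1, 0], [4, 1, 0], [2, 2, 0], [3, 2, 0], [4, 2, 0], [1, 3, 0], [4, 3, 0], [2, 4, 0], [2, 1, 1], [4, 1, 1], [2, 2, 1], [3, 2, 1], [4, 2, 1], [0, 3, 1], [4, 3, 1], [0, 4, 1], [2, 4, 1], [3, 2, 2], [0, 3, 2], [1, 3, 2], [4, 3, 2], [0, 4, 2], [1, 0, 3], [4, 0, 3], [4, 1, 3], [2, 4, 3], [2, 0, 4], [1, 1, 0, 0], [2, 1, 0, 0], [2, 2, 0, 0], [2, 1, 1, 0], [4, 1, 1, 0], [2, 2, 1, 0], [3, 2, 1, 0], [4, 2, 1, 0], [4, 3, 1, 0], [2, 4, 1, 0], [3, 2, 2, 0], [1, 3, 2, 0], [4, 3, 2, 0], [4, 1, 3, 0], [2, 4, 3, 0], [2, 2, 1, 1], [4, 2, 1, 1], [0, 4, 1, 1], [2, 4, 1, 1], [3, 2, 2, 1], [0, 3, 2, 1], [4, 3, 2, 1], [0, 4, 2, 1], [4, 0, 3, 1], [2, 4, 3, 1], [2, 0, 4, 1], [0, 3, 2, 2], [1, 3, 2, 2], [1, 0, 3, 2], [4, 0, 3, 2],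 [4, 1, 3, 2], [4, 1, 0, 3], [2, 4, 0, 3], [2, 4, 1, 3], [2, 1, 1, 0, 0], [2, 2, 1, 0, 0], [2, 2, 1, 1, 0], [4, 2, 1, 1, 0], [2, 4, 1, 1, 0], [3, 2, 2, 1, 0], [4, 3, 2, 1, 0], [2, 4, 3, 1, 0], [1, 3, 2, 2, 0], [4, 1, 3, 2, 0], [2, 4, 1, 3, 0], [0, 4, 2, 1, 1], [2, 0, 4, 1, 1], [0, 3, 2, 2, 1], [4, 0, 3, 2, 1], [2, 4, 0, 3, 1], [1, 0, 3, 2, 2], [4, 1, 0, 3, 2], [2, 4, 1, 0, 3], [2, 2, 1, 1, 0, 0]]
def gJ : List ℕ := [nat_lit 36344967201, nat_lit 36342940176, nat_lit 28040245776]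
def LJ : List ℕ := [nat_lit 36344967696, nat_lit 36344967201, nat_lit 36342940176, nat_lit 28040245776, nat_lit 36344967426, nat_lit 36342939681, nat_lit 28040245281, nat_lit 36343861776, nat_lit 28038218256, nat_lit 31815119376, nat_lit 36342939906, nat_lit 28040245506, nat_lit 36343861281, nat_lit 28038217761, nat_lit 31815118881, nat_lit 28039139856, nat_lit 31813091856, nat_lit 36343861506, nat_lit 28038217986, nat_lit 31815119106, nat_lit 28039139361, nat_lit 31813091361, nat_lit 31814013456, nat_lit 28039139586, nat_lit 31813091586, nat_lit 31814012961, nat_lit 31814013186]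
def wJ : List (List ℕ) := [[], [0], [1], [2], [0, 0], [1, 0], [2, 0], [1, 1], [2, 1], [2, 2], [1, 0, 0], [2, 0, 0], [1, 1, 0], [2, 1, 0], [2, 2, 0], [2, 1, 1], [2, 2, 1], [1, 1, 0, 0], [2, 1, 0, 0], [2, 2, 0, 0], [2, 1, 1, 0], [2, 2, 1, 0], [2, 2, 1, 1], [2, 1, 1, 0, 0], [2, 2, 1, 0, 0], [2, 2, 1, 1, 0], [2, 2, 1, 1, 0, 0]]
def reps : List ℕ := [nat_lit 36344967201, nat_lit 36342940176, nat_lit 28040245776, nat_lit 36342939681, nat_lit 28040245281, nat_lit 28038218256, nat_lit 28038217761, nat_lit 31814013186]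
def cent : List ℤ := [54, 54, 54, 27, 27, 27, 27, 27]
def TJ : List (ℕ × ℕ × ℕ) := [(nat_lit 36344967696, 0, nat_lit 36344967696), (nat_lit 36344967201, 0, nat_lit 36344967696), (nat_lit 36342940176, 1, nat_lit 36344967696), (nat_lit 28040245776, 2, nat_lit 36344967696), (nat_lit 36344967426, 0, nat_lit 36344906241), (nat_lit 36342939681, 3, nat_lit 36344967696), (nat_lit 28040245281, 4, nat_lit 36344967696), (nat_lit 36343861776, 1, nat_lit 36344906241), (nat_lit 28038218256, 5, nat_lit 36344967696), (nat_lit 31815119376, 2, nat_lit 36093309441), (nat_lit 36342939906, 3, nat_lit 36093309441), (nat_lit 28040245506, 4, nat_lit 36344906241), (nat_lit 36343861281, 3, nat_lit 36093248016), (nat_lit 28038217761, 6, nat_lit 36344967696), (nat_lit 31815118881, 4, nat_lit 36093248016), (nat_lit 28039139856, 5, nat_lit 36344906241), (nat_lit 31813091856, 5, nat_lit 36093309441), (nat_lit 36343861506, 3, nat_lit 36344906241), (nat_lit 28038217986, 7,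 nat_lit 36093248016), (nat_lit 31815119106, 4, nat_lit 36093309441), (nat_lit 28039139361, 7, nat_lit 36093309441), (nat_lit 31813091361, 7, nat_lit 36344906241), (nat_lit 31814013456, 5, nat_lit 36093248016), (nat_lit 28039139586, 6, nat_lit 36344906241), (nat_lit 31813091586, 6, nat_lit 36093309441), (nat_lit 31814012961, 6, nat_lit 36093248016), (nat_lit 31814013186, 7, nat_lit 36344967696)]
def P : List (List ℤ) := [[0, -3, 3, 3, -3, 0, 0, 0], [-3, 0, 3, 3, 0, -3, 0, 0], [0, 0, 3, 0, -3, -3, 3, 0], [0, 0, 3, 0, -3, -3, 0, 3]]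
def Q : List (List ℤ) := [[0, 0, 0, 0, 0, 0, 0, 0], [0, 0, 0, 0, 0, 0, 0, 0], [0, 0, 0, 0, 0, 0, 3, -3], [0, 0, 0, 0, 0, 0, -3, 3]]
def gR : List (List ℤ) := [[2, 1, 1, 1], [1, 2, 1, 1], [1, 1, 2, 1], [1, 1, 1, 2]]
def gA1 : List (List ℤ) := [[4, -1, -1, -1], [-1, 4, -1, -1], [-1, -1, 4, -1], [-1, -1, -1, 4]]
def gY : List (List ℤ) := [[1], [-1, 2], [-1, -1, 3], [-1, -1, -1, 4]]
def gW : List ℤ := [30, 10, 5, 3]
def gL : ℤ := 60
def gt : List ℤ := [0, 0, 0, 0]
def gV : List (List ℤ) := [[1, 1, 1, 1], [1, 0, 0, 0], [0, 1, 0, 0], [0, 0, 1, 0], [0, 0, 0, 1]]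
def gS : List (List (List ℤ)) := [[[1, 1, 1, 1], [1, 0, 0, 0], [0, 1, 0, 0], [0, 0, 1, 0], [0, 0, 0, 1]]]
def mL : List ℤ := [-2, 2, 2, 0, 0, -4, 1, 1]
def lL : List ℤ := [-18, 18, 9, 9]
def U3 : List ℕ := [nat_lit 36342939681, nat_lit 36343861281, nat_lit 36342939906, nat_lit 36343861506]
def U4 : List ℕ := [nat_lit 28040245281, nat_lit 31815118881, nat_lit 28040245506, nat_lit 31815119106]

abbrev SK : Set (Perm (Fin 9)) := {Equiv.swap (0 : Fin 9) 1 * Equiv.swap 1 2,
  Equiv.swap (3 : Fin 9) 4 * Equiv.swap 4 5, Equiv.swap (6 : Fin 9) 7 * Equiv.swap 7 8,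
  Equiv.swap (0 : Fin 9) 1 * Equiv.swap 3 4, Equiv.swap (0 : Fin 9) 1 * Equiv.swap 6 7}

abbrev SJ : Set (Perm (Fin 9)) := {Equiv.swap (0 : Fin 9) 1 * Equiv.swap 1 2,
  Equiv.swap (3 : Fin 9) 4 * Equiv.swap 4 5, Equiv.swap (6 : Fin 9) 7 * Equiv.swap 7 8}

abbrev K : Subgroup (Perm (Fin 9)) := Subgroup.closure SK
abbrev J : Subgroup (Perm (Fin 9)) := Subgroup.closure SJ

theorem enc_one : enc (1 : Perm (Fin 9)) = one := by decide +kernel

theorem hSK : ∀ g ∈ SK, enc g ∈ gs := by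
  simp only [SK, Set.mem_insert_iff, Set.mem_singleton_iff, forall_eq_or_imp, forall_eq]
  decide +kernel

theorem hSJ : ∀ g ∈ SJ, enc g ∈ gJ := by
  simp only [SJ, Set.mem_insert_iff, Set.mem_singleton_iff, forall_eq_or_imp, forall_eq]
  decide +kernel

theorem hK : Lists K L :=
  lists_of_words (by norm_num) SK one gs L ws enc_one hSK (by
    simp only [SK, Set.mem_insert_iff, Set.mem_singleton_iff, exists_eq_or_imp, exists_eq_left]
    decide +kernel) (by decide +kernel) (by decide +kernel) (by decide +kernel) (by decide +kernel)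

theorem hJ : Lists J LJ :=
  lists_of_words (by norm_num) SJ one gJ LJ wJ enc_one hSJ (by
    simp only [SJ, Set.mem_insert_iff, Set.mem_singleton_iff, exists_eq_or_imp, exists_eq_left]
    decide +kernel) (by decide +kernel) (by decide +kernel) (by decide +kernel) (by decide +kernel)

theorem hJK : J ≤ K := Subgroup.closure_mono (by
  intro x hx
  simp only [SJ, SK, Set.mem_insert_iff, Set.mem_singleton_iff] at hx ⊢
  tauto)

/-- Exponent function of a linear character of `J`. -/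
def ex (a b c : ℕ) (m : ℕ) : ℕ := 4 * (a * appR m 0 + b * (appR m 3 - 3) + c * (appR m 6 - 6))

theorem exists_lam (a b c : ℕ) (h0 : ex a b c one = 0)
    (h : allB (fun g => allB (fun m =>
      Nat.beq (frc (mulc 9 g m) (ex a b c) % 12) ((ex a b c g + ex a b c m) % 12)) LJ) gJ = true) :
    ∃ l : J →* ℂ, ∀ k, l k = z12 ^ ex a b c (enc (k : Perm (Fin 9))) :=
  exists_hom_of_exp (by norm_num) SJ gJ LJ hSJ hJ.mem _ 12 z12 z12_pow_twelve
    (by rw [enc_one, h0]) h

/-- The cube of a code. -/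
noncomputable def cube (c : ℕ) : ℕ := mulc 9 c (mulc 9 c c)

theorem enc_cube (k : K) : enc ((k ^ 3 : K) : Perm (Fin 9)) = cube (enc (k : Perm (Fin 9))) := by
  rw [cube, ← hK.enc_mul', ← hK.enc_mul']
  simp [pow_succ, mul_assoc]

theorem cube_iff (k : K) : k ^ 3 = 1 ↔ cube (enc (k : Perm (Fin 9))) = one := by
  rw [hK.eq_iff, enc_cube, ← enc_one]
  rfl

theorem cube_of_pow (k : K) (h : k ^ 27 = 1) : k ^ 3 = 1 := by
  have h1 := hK.forall_of_all (fun c => !Nat.beq (cube (cube (cube c))) one || Nat.beq (cube c) one)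
    (by decide +kernel) k
  have h2 : ((k ^ 3) ^ 3) ^ 3 = 1 := by rw [← pow_mul, ← pow_mul, h]
  rw [cube_iff, enc_cube, enc_cube] at h2
  rw [cube_iff]
  simpa [h2] using h1

theorem mem_J_iff (k : K) : (k : Perm (Fin 9)) ∈ J ↔ k ^ 3 = 1 := by
  have h1 := hK.forall_of_all (fun c => memb c LJ == Nat.beq (cube c) one) (by decide +kernel) k
  rw [hJ.mem_iff, cube_iff, ← memb_iff, ← Nat.beq_eq, beq_iff_eq.mp h1]

theorem J_comm (a b : J) : a * b = b * a := by
  have h1 := hJ.forall_of_all _ (hJ.forall_of_all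
    (fun c => allB (fun d => Nat.beq (mulc 9 c d) (mulc 9 d c)) LJ) (by decide +kernel) a) b
  rw [hJ.eq_iff, hJ.enc_mul', hJ.enc_mul', ← Nat.beq_eq, h1]

theorem main {G : Type*} [Group G] [Finite G] (ι : K →* G) (hι : Function.Injective ι)
    (hTI : ∀ k : K, k ≠ 1 → k ^ 3 = 1 → ∀ g : G, g * ι k * g⁻¹ ∈ ι.range → g ∈ ι.range) :
    ι.range = ⊤ := by
  classical
  have := Fintype.ofFinite G
  have := Fintype.ofFinite J
  obtain ⟨r, hr⟩ := exists_reps hK reps 8 (by decide +kernel)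
  have hr3 : ∀ s < 8, r s ^ 3 = 1 := by
    intro s hs
    rw [cube_iff, hr s hs, ← Nat.beq_eq]
    exact (allLt_iff (fun s => Nat.beq (cube (reps.getD s 0)) one) 8).mp (by decide +kernel) s hs
  have hr1 : ∀ s < 8, r s ≠ 1 := by
    intro s hs h
    have h1 := hr s hs
    rw [h, OneMemClass.coe_one, enc_one] at h1
    have := (allLt_iff (fun s => !Nat.beq one (reps.getD s 0)) 8).mp (by decide +kernel) s hs
    simp [h1] at this
  have hT : ∀ s < 8, ∀ g : G, g * ι (r s) * g⁻¹ ∈ ι.range → g ∈ ι.range :=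
    fun s hs => hTI _ (hr1 s hs) (hr3 s hs)
  have hx := orth_of_table hK ι hι reps 8 r hr hT cent (by decide +kernel)
  obtain ⟨l0, hl0⟩ := exists_lam 1 1 0 (by decide +kernel) (by decide +kernel)
  have hint : ∀ (a b c i : ℕ), ex a b c one = 0 → allB (fun g => allB (fun m =>
      Nat.beq (frc (mulc 9 g m) (ex a b c) % 12) ((ex a b c g + ex a b c m) % 12)) LJ) gJ = true →
      allB (fun t : ℕ × ℕ × ℕ => Nat.beq (ex 1 1 0 t.1 % 12) (ex a b c t.1 % 12) ||
      (Nat.blt t.2.1 8 && memb t.2.2 L &&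
        Nat.beq (mulc 9 t.2.2 t.1) (mulc 9 (reps.getD t.2.1 0) t.2.2))) TJ = true →
      allLt (fun s => allLt (fun d => 1 * sumB (fun t : ℕ × ℕ × ℕ =>
      Bool.rec 0 (ent2 zt (ex 1 1 0 t.1 % 12) d - ent2 zt (ex a b c t.1 % 12) d)
        (Nat.beq t.2.1 s)) TJ == (if d = 0 then ent (P.getD i []) s else 0) +
          ent (Q.getD i []) s * ent [-1, 0, 1, 0] d) 4) 8 = true →
      ∀ χ, IsIrrCharacter G χ → ∃ c : ℤ,
      ∑ s ∈ Finset.range 8, ((ent2 P i s : ℂ) + ent2 Q i s * om) * χ (ι (r s)) = (27 : ℤ) * c := by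
    intro a b c i h0 h1 h2 h3 χ hχ
    obtain ⟨l, hl⟩ := exists_lam a b c h0 h1
    obtain ⟨z, hz⟩ := exists_int_of_homs (ι.comp (Subgroup.inclusion hJK)) l0 l
      (irr_isCharacter hχ)
    have := lin_comb hK ι reps 8 r hr hJ hJK TJ (by decide +kernel) (ex 1 1 0) (ex a b c) h2 om _
      om_eq _ _ 1 h3 (char_isClassFunction (irr_isCharacter hχ))
    refine ⟨z, ?_⟩
    simp only [hl, hl0, MonoidHom.comp_apply] at hz
    rw [hz, hJ.card_eq] at this
    simp only [ent2]
    rw [← this]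
    simp [LJ]
  obtain ⟨w, hw, s, hs, hΦ, hbd⟩ := classify_tables 4 8 (fun s => ι (r s))
    (fun s hs h => hr1 s hs (hι (by rw [h, map_one]))) cent hx om (-1) (-1) (-1) (-1) 27
    (by norm_num) om_mul_self conj_om P Q gR gt (by
      intro χ hχ a ha
      interval_cases a
      · exact hint 1 0 1 0 (by decide +kernel) (by decide +kernel) (by decide +kernel)
          (by decide +kernel) χ hχ
      · exact hint 0 1 1 1 (by decide +kernel) (by decide +kernel) (by decide +kernel)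
          (by decide +kernel) χ hχ
      · exact hint 1 1 1 2 (by decide +kernel) (by decide +kernel) (by decide +kernel)
          (by decide +kernel) χ hχ
      · exact hint 2 2 2 3 (by decide +kernel) (by decide +kernel) (by decide +kernel)
          (by decide +kernel) χ hχ)
    (by decide +kernel) (by decide +kernel) gA1 gY gW gL gV gS 12 (by decide +kernel)
    (by decide +kernel) (by decide +kernel)
  set cf := cfT 8 27 P Q om (fun s => ι (r s)) with hcf
  have hL := sum_val_eq 4 8 27 (by norm_num) P Q om (fun s => ι (r s)) lL mL (by decide +kernel)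
  simp only [gS, List.mem_singleton] at hw
  subst hw
  simp only [List.forall₂_cons_right_iff, List.forall₂_nil_right_iff] at hs
  obtain ⟨f0, _, ⟨i0, -, -, c0⟩, ⟨f1, _, ⟨i1, -, -, c1⟩, ⟨f2, _, ⟨i2, -, -, c2⟩,
    ⟨f3, _, ⟨i3, -, -, c3⟩, ⟨f4, _, ⟨i4, -, -, c4⟩, rfl, rfl⟩, rfl⟩, rfl⟩, rfl⟩, rfl⟩ := hs
  have hone : ∀ a < 4, cf a 1 = 0 := by
    intro a ha
    interval_cases a <;> simp [hcf, cfT, Finset.sum_range_succ, ent2, ent, P, Q] <;> ring
  have hval : ∀ a < 4, ∀ s < 8, ((ent2 P a s : ℂ) + ent2 Q a s * om) * ent cent s / (27 : ℤ) =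
      cf a f0 * conj (f0 (ι (r s))) + (cf a f1 * conj (f1 (ι (r s))) + (cf a f2 * conj (f2 (ι (r s)))
        + (cf a f3 * conj (f3 (ι (r s))) + cf a f4 * conj (f4 (ι (r s)))))) := by
    intro a ha s hs
    have := hΦ (fun f => cf a f * conj (f (ι (r s)))) (fun f => by simp [hcf, cfT_neg])
      (fun χ _ _ h => by simp [h a ha])
    rw [sum_cfT_mul_conj 8 27 P Q om _ cent hx a s hs] at this
    simpa [hone a ha] using this
  have hdeg : ∀ a < 4, 0 = cf a f0 * f0 1 + (cf a f1 * f1 1 + (cf a f2 * f2 1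
        + (cf a f3 * f3 1 + cf a f4 * f4 1))) := by
    intro a ha
    have := hΦ (fun f => cf a f * f 1) (fun f => by simp [hcf, cfT_neg])
      (fun χ _ _ h => by simp [h a ha])
    rw [sum_cfT_mul 8 27 P Q om _ a 1 (fun s hs h => hr1 s hs (hι (by simpa [eq_comm] using h)))]
      at this
    simpa [hone a ha] using this
  have htr : ∀ (j m : ℕ), j < 8 →
      ¬ (anyB (fun x => Nat.beq (mulc 9 x (reps.getD 3 0)) (mulc 9 (reps.getD 4 0) x)) L = true) →
      (U3.map (fun x => cntB (fun y => Nat.beq (mulc 9 (mulc 9 x y) (reps.getD j 0)) one) U4)).sum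
        = m → (Nat.card G : ℂ) * ∑ χ : IrrCharacter G, (χ : G → ℂ) (ι (r 3)) *
        (χ : G → ℂ) (ι (r 4)) * (χ : G → ℂ) (ι (r j)) / (χ : G → ℂ) 1 =
        ((27 * (27 * m) : ℕ) : ℂ) := by
    intro j m hj hnc hm
    refine triple_of_table hK ι hι (r 3) (r 4) (r j) _ _ _ one (hr 3 (by norm_num))
      (hr 4 (by norm_num)) (hr j hj) enc_one U3 U4 27 27 m (by decide +kernel) (by decide +kernel)
      hm (control333 ι hι (hr3 3 (by norm_num)) (hr3 4 (by norm_num)) (hr3 j hj)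
        (hT 3 (by norm_num)) (hT 4 (by norm_num)) (hT j hj) (fun t h1 h2 _ => hTI t h1 h2) ?_)
    rintro ⟨⟨x, hx⟩, -⟩
    rw [hK.conj_iff, hr 3 (by norm_num), hr 4 (by norm_num)] at hx
    exact hnc ((anyB_iff _ _).mpr ⟨_, hK.mem _ x.2, hx⟩)
  have t0 := htr 0 0 (by norm_num) (by decide +kernel) (by decide +kernel)
  have t1 := htr 1 0 (by norm_num) (by decide +kernel) (by decide +kernel)
  have t2 := htr 2 0 (by norm_num) (by decide +kernel) (by decide +kernel)
  have t5 := htr 5 2 (by norm_num) (by decide +kernel) (by decide +kernel)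
  have t6 := htr 6 1 (by norm_num) (by decide +kernel) (by decide +kernel)
  have t7 := htr 7 1 (by norm_num) (by decide +kernel) (by decide +kernel)
  have hmain := hΦ (fun f => f (ι (r 3)) * f (ι (r 4)) *
      (∑ s ∈ Finset.range 8, (ent mL s : ℂ) * f (ι (r s))) / f 1)
    (fun f => by simp [Finset.sum_neg_distrib, neg_div_neg_eq])
    (fun χ _ _ h => by
      have := hL χ [0, 0, 0, 0] (fun a ha => by
        rw [← hcf, h a ha]; interval_cases a <;> simp [ent])
      simp only [this]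
      simp [dot, sumLt, ent])
  have hL1 := hL 1 [0, 0, 0, 0] (fun a ha => by
        rw [← hcf, hone a ha]; interval_cases a <;> simp [ent])
  simp only [List.map_cons, List.map_nil, List.sum_cons, List.sum_nil, hL f0 _ c0, hL f1 _ c1,
    hL f2 _ c2, hL f3 _ c3, hL f4 _ c4, hL1] at hmain
  have hsum : (Nat.card G : ℂ) * ∑ χ : IrrCharacter G, (χ : G → ℂ) (ι (r 3)) *
      (χ : G → ℂ) (ι (r 4)) * (∑ s ∈ Finset.range 8, (ent mL s : ℂ) * (χ : G → ℂ) (ι (r s))) /
      (χ : G → ℂ) 1 = -4374 := by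
    have e : ∀ χ : IrrCharacter G, (χ : G → ℂ) (ι (r 3)) *
      (χ : G → ℂ) (ι (r 4)) * (∑ s ∈ Finset.range 8, (ent mL s : ℂ) * (χ : G → ℂ) (ι (r s))) /
      (χ : G → ℂ) 1 = ∑ s ∈ Finset.range 8, (ent mL s : ℂ) * ((χ : G → ℂ) (ι (r 3)) *
        (χ : G → ℂ) (ι (r 4)) * (χ : G → ℂ) (ι (r s)) / (χ : G → ℂ) 1) := by
      intro χ
      rw [Finset.mul_sum, Finset.sum_div]
      exact Finset.sum_congr rfl (fun _ _ => by ring)
    simp_rw [e]
    rw [Finset.sum_comm]
    simp_rw [← Finset.mul_sum]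
    simp only [Finset.sum_range_succ, Finset.sum_range_zero, ent, mL, List.getD_cons_succ,
      List.getD_cons_zero]
    push_cast at t0 t1 t2 t5 t6 t7 ⊢
    linear_combination (-2) * t0 + 2 * t1 + 2 * t2 - 4 * t5 + t6 + t7
  have hv : ∀ a < 4, ∀ s < 8, conj (((ent2 P a s : ℂ) + ent2 Q a s * om) * ent cent s / (27 : ℤ)) =
      conj (cf a f0) * (f0 (ι (r s))) + (conj (cf a f1) * (f1 (ι (r s))) +
        (conj (cf a f2) * (f2 (ι (r s)))
        + (conj (cf a f3) * (f3 (ι (r s))) + conj (cf a f4) * (f4 (ι (r s)))))) := by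
    intro a ha s hs
    rw [hval a ha s hs]
    simp
  have a0 := hv 0 (by norm_num) 3 (by norm_num)
  have a1 := hv 1 (by norm_num) 3 (by norm_num)
  have a2 := hv 2 (by norm_num) 3 (by norm_num)
  have a3 := hv 3 (by norm_num) 3 (by norm_num)
  have b0 := hv 0 (by norm_num) 4 (by norm_num)
  have b1 := hv 1 (by norm_num) 4 (by norm_num)
  have b2 := hv 2 (by norm_num) 4 (by norm_num)
  have b3 := hv 3 (by norm_num) 4 (by norm_num)
  have d0 := hdeg 0 (by norm_num)
  have d1 := hdeg 1 (by norm_num)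
  have d2 := hdeg 2 (by norm_num)
  have d3 := hdeg 3 (by norm_num)
  simp [c0, c1, c2, c3, c4, ent2, ent, P, Q, cent, map_ofNat] at a0 a1 a2 a3 b0 b1 b2 b3 d0 d1 d2 d3
  obtain ⟨d, hd, hd'⟩ := i0.one_int
  have e1 : f1 1 = -d := by linear_combination -d0 - hd'
  have e2 : f2 1 = -d := by linear_combination -d1 - hd'
  have e3 : f3 1 = -d := by linear_combination -d2 - hd'
  have e4 : f4 1 = -d := by linear_combination -d3 - hd'
  have hdc : (d : ℂ) ≠ 0 := by exact_mod_cast hd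
  rw [hmain, hd', e1, e2, e3, e4] at hsum
  simp [dot, sumLt, ent, lL, -Nat.card_eq_fintype_card] at hsum
  simp [hd', e1, e2, e3, e4, -Nat.card_eq_fintype_card] at hbd
  have hcard : Nat.card G = 108 * ι.range.index := by
    rw [← ι.range.card_mul_index, ← Nat.card_congr (MonoidHom.ofInjective hι).toEquiv, hK.card_eq]
    rfl
  have key : (Nat.card G : ℂ) * (-162) = -4374 * d := by
    rw [← hsum, eq_sub_of_add_eq' a0.symm, eq_sub_of_add_eq' a1.symm, eq_sub_of_add_eq' a2.symm,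
      eq_sub_of_add_eq' a3.symm, eq_sub_of_add_eq' b0.symm, eq_sub_of_add_eq' b1.symm,
      eq_sub_of_add_eq' b2.symm, eq_sub_of_add_eq' b3.symm]
    field_simp
    ring
  have key' : (Nat.card G : ℤ) * (-162) = -4374 * d := by exact_mod_cast key
  have hbd' : 1 + (d ^ 2 + (d ^ 2 + (d ^ 2 + (d ^ 2 + d ^ 2)))) ≤ (Nat.card G : ℤ) := by
    exact_mod_cast hbd
  rw [hcard] at key' hbd'
  push_cast at key' hbd'
  have h5 : d = 4 * (ι.range.index : ℤ) := by omega
  have h6 : 0 < ι.range.index := Nat.pos_of_ne_zero Subgroup.FiniteIndex.index_ne_zero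
  rw [← Subgroup.index_eq_one]
  rw [h5] at hbd'
  by_contra hne
  have h7 : (2 : ℤ) ≤ ι.range.index := by omega
  nlinarith

/-- Let H₀ ≤ Sym(9) be generated by the 3-cycles (1 2 3), (4 5 6), (7 8 9) and the involutions (1 2)(4 5), (1 2)(7 8) (a group of order 108, elementary abelian of order 27 extended by a four-group). Let G be a finite group with a subgroup H ≅ H₀, and T ≤ H of order 27 (a Sylow 3-subgroup of H) with N_G(T) = H and C_G(t) ≤ H for every t ≠ 1 in T. Then G = H. -/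
theorem result {G : Type*} [Group G] [Finite G] (H : Subgroup G)
    (hH : Nonempty (↥H ≃* ↥(Subgroup.closure ({Equiv.swap (0 : Fin 9) 1 * Equiv.swap 1 2, Equiv.swap (3 : Fin 9) 4 * Equiv.swap 4 5, Equiv.swap (6 : Fin 9) 7 * Equiv.swap 7 8,
        Equiv.swap (0 : Fin 9) 1 * Equiv.swap 3 4, Equiv.swap (0 : Fin 9) 1 * Equiv.swap 6 7} : Set (Equiv.Perm (Fin 9))))))
    (T : Subgroup G) (hTH : T ≤ H) (hT : Nat.card T = 27) (hN : Subgroup.normalizer (T : Set G) = H)
    (hC : ∀ t ∈ T, t ≠ 1 → Subgroup.centralizer ({t} : Set G) ≤ H) : H = ⊤ := by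
  obtain ⟨e⟩ := hH
  obtain ⟨ι, hι, rfl⟩ := exists_embedding (K := K) e
  have hexp : ∀ a ∈ T, a ^ 3 = 1 := by
    intro a ha
    obtain ⟨k, rfl⟩ := hTH ha
    have h1 : (⟨ι k, ha⟩ : T) ^ 27 = 1 := by rw [← hT]; exact pow_card_eq_one'
    have h2 : k ^ 27 = 1 := hι (by simpa using congrArg Subtype.val h1)
    rw [← map_pow, cube_of_pow k h2, map_one]
  have hle : T ≤ (J.subgroupOf K).map ι := by
    intro a ha
    obtain ⟨k, rfl⟩ := hTH ha
    exact ⟨k, (mem_J_iff k).mpr (hι (by rw [map_pow, hexp _ ha, map_one])), rfl⟩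
  have heq : T = (J.subgroupOf K).map ι := by
    refine Subgroup.eq_of_le_of_card_ge hle ?_
    rw [Subgroup.card_map_of_injective hι,
      Nat.card_congr (Subgroup.subgroupOfEquivOfLe hJK).toEquiv, hJ.card_eq, hT]
    rfl
  have hmem : ∀ h ∈ ι.range, h ^ 3 = 1 → h ∈ T := by
    rintro _ ⟨k, rfl⟩ hk
    rw [heq]
    exact ⟨k, (mem_J_iff k).mpr (hι (by rw [map_pow, hk, map_one])), rfl⟩
  refine main ι hι (fun k hk1 hk3 => ti_of_normalizer hN.le hC ?_ hexp hmem
    (hmem _ ⟨k, rfl⟩ (by rw [← map_pow, hk3, map_one])) (fun h => hk1 (hι (by rw [h, map_one]))))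
  rw [heq]
  rintro _ ⟨a, ha, rfl⟩ _ ⟨b, hb, rfl⟩
  rw [← map_mul, ← map_mul]
  congr 1
  have := congrArg Subtype.val (J_comm ⟨a, ha⟩ ⟨b, hb⟩)
  exact Subtype.ext this

end Cfsg.Agent.S3701
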