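import Cfsg.Statements.S3715
import Cfsg.Agent.L0.C12Main

set_option autoImplicit false
open Cfsg

namespace Cfsg.Agent.S3715

/-- There is no finite non-abelian simple group of order prime to 5 in which some element of order 3 has abelian centralizer of order 12 and exponent dividing 6 (that is, centralizer isomorphic to the direct product of a cyclic group of order 3 and a Klein four-group). -/
theorem result {G : Type*} [Group G] [Finite G] [IsSimpleGroup G] (hG : ¬ IsMulCommutative G) (h5 : ¬ 5 ∣ Nat.card G) (x : G) (hx : orderOf x = 3)
    (hC : Nat.card ↥(Subgroup.centralizer ({x} : Set G)) = 12)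
    (hCab : ∀ a ∈ Subgroup.centralizer ({x} : Set G), ∀ b ∈ Subgroup.centralizer ({x} : Set G), a * b = b * a)
    (hCexp : ∀ a ∈ Subgroup.centralizer ({x} : Set G), a ^ 6 = 1) : False := by
  exact L0.C12.s3715_of L0.C12.main hG h5 x hx hC hCab hCexp

end Cfsg.Agent.S3715
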