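import Cfsg.Statements.S3717
import Cfsg.Agent.H4.SdC1

set_option autoImplicit false
open Cfsg

namespace Cfsg.Agent.S3717

/-- Let G be a finite non-abelian simple group with an elementary abelian Sylow 3-subgroup M of order 9 which is self-centralizing (C_G(M) = M), let N = N_G(M), and suppose C_G(g) ≤ N for every nonidentity g ∈ M. If the Sylow 2-subgroups of N are semidihedral of order 16 (order 16, generated by a of order 8 and an involution b with b a b⁻¹ = a³), then G is isomorphic to the Mathieu group of degree 11. -/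
theorem result {G : Type*} [Group G] [Finite G] [IsSimpleGroup G] (hG : ¬ IsMulCommutative G) (M : Sylow 3 G) (hM9 : Nat.card ↥(M : Subgroup G) = 9)
    (hMel : ∀ m ∈ (M : Subgroup G), m ^ 3 = 1)
    (hCM : Subgroup.centralizer ((M : Subgroup G) : Set G) = (M : Subgroup G))
    (N : Subgroup G) (hN : N = Subgroup.normalizer ((M : Subgroup G) : Set G))
    (hCg : ∀ g ∈ (M : Subgroup G), g ≠ 1 → Subgroup.centralizer ({g} : Set G) ≤ N)
    (hS : ∀ S : Sylow 2 ↥N, Nat.card ↥(S : Subgroup ↥N) = 16 ∧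
      ∃ a ∈ (S : Subgroup ↥N), ∃ b ∈ (S : Subgroup ↥N), orderOf a = 8 ∧ orderOf b = 2 ∧ b * a * b⁻¹ = a ^ 3) :
    Cfsg.Spor.IsoM11 G := by
  subst hN
  have : Fact (Nat.Prime 2) := ⟨Nat.prime_two⟩
  obtain ⟨-, a, -, b, -, ha, hb, hab⟩ := hS (Classical.arbitrary _)
  have bb : b * b = 1 := by rw [← sq, ← hb, pow_orderOf_eq_one]
  rw [inv_eq_of_mul_eq_one_right bb] at hab
  obtain ⟨a, g, h⟩ := H4.Sd9.exists_base M hM9 hMel hCM hCg a.2 b.2
    ((Subgroup.orderOf_coe a).trans ha) (congrArg Subtype.val bb) (congrArg Subtype.val hab)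
  rcases h.tri with ⟨Q, O, h1, h2, h3, h4, h5, h6, π, h7⟩ | ⟨Q, h1, h2, π, h3, h4⟩ | ⟨π, h1, h2⟩
  · have h' : H4.Sd9.C1 a b g Q O π := ⟨h, h1, h2, h3, h4, h5, h6, h7⟩
    exact h'.case_a fun r hr => by_contra (h'.case_b hr)
  · obtain ⟨y, hy⟩ := h.exists_c2 h1 h2 π h3 h4
    exact hy.false.elim
  · exact (h.case3 π h1 h2).elim

end Cfsg.Agent.S3717
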